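/-
Five regular orbits on triples of vectors: general reductions.
-/
import Mathlib.LinearAlgebra.Transvection.Basic
import Mathlib.LinearAlgebra.Dimension.Finrank
import Mathlib.GroupTheory.Solvable
import Mathlib.Data.ZMod.Basic
import Mathlib.Tactic
import Cfsg.Agent.Lib.FpfLinear.Perfect

set_option autoImplicit false
set_option linter.unusedSectionVars false
set_option linter.style.haveILetI false

namespace Cfsg.Agent.Lib.BaseSize

universe u v

/-- Five triples in different orbits, each fixed only by elements acting trivially. -/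
def Five (G : Type u) [Group G] (V : Type v) [AddCommGroup V] [DistribMulAction G V] : Prop :=
  ∃ t : Fin 5 → Fin 3 → V, ∀ i j, ∀ g : G, (∀ k, g • t i k = t j k) →
    i = j ∧ ∀ w : V, g • w = w

variable {G : Type u} [Group G] {V : Type v} [AddCommGroup V] [DistribMulAction G V]

theorem five_of_trivial [Finite V] [Nontrivial V] (h : ∀ (g : G) (w : V), g • w = w) :
    Five G V := by
  classical
  haveI := Fintype.ofFinite V
  have hc : Fintype.card (Fin 5) ≤ Fintype.card (Fin 3 → V) := by
    rw [Fintype.card_fun, Fintype.card_fin, Fintype.card_fin]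
    have h1 := Nat.pow_le_pow_left (show 2 ≤ Fintype.card V from Fintype.one_lt_card) 3
    norm_num at h1
    omega
  obtain ⟨e⟩ := Function.Embedding.nonempty_of_card_le hc
  exact ⟨e, fun i j g hg => ⟨e.injective (funext fun k => (h g _).symm.trans (hg k)), h g⟩⟩

/-- A regular pair with a nonzero first vector gives five orbits on triples. -/
theorem five_of_pair [Finite V] {a b : V} (ha : a ≠ 0)
    (h : ∀ g : G, g • a = a → g • b = b → ∀ w : V, g • w = w) : Five G V := by
  classical
  haveI := Fintype.ofFinite V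
  by_cases hV : 4 ≤ Fintype.card V
  · obtain ⟨e⟩ : Nonempty (Fin 4 ↪ V) :=
      Function.Embedding.nonempty_of_card_le (by simpa using hV)
    let t : Fin 5 → Fin 3 → V := Fin.cons ![0, a, b] fun i => ![a, b, e i]
    refine ⟨t, fun i j g hg => ?_⟩
    have h0 := hg 0
    have h1 := hg 1
    have h2 := hg 2
    induction i using Fin.cases with
    | zero =>
      induction j using Fin.cases with
      | zero => exact ⟨rfl, h g (by simpa [t] using h1) (by simpa [t] using h2)⟩
      | succ j => simp [t] at h0; exact absurd h0.symm ha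
    | succ i =>
      induction j using Fin.cases with
      | zero =>
        simp [t] at h0
        exact absurd ((smul_eq_zero_iff_eq g).mp h0) ha
      | succ j =>
        simp [t] at h0 h1 h2
        have hw := h g h0 h1
        rw [hw] at h2
        exact ⟨congrArg Fin.succ (e.injective h2), hw⟩
  · -- a generates
    have htop : AddSubgroup.zmultiples a = ⊤ := by
      have hdvd : Nat.card (AddSubgroup.zmultiples a) ∣ Nat.card V :=
        AddSubgroup.card_addSubgroup_dvd_card _
      have hne : Nat.card (AddSubgroup.zmultiples a) ≠ 1 := by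
        rw [Ne, AddSubgroup.card_eq_one, AddSubgroup.zmultiples_eq_bot]; exact ha
      refine AddSubgroup.eq_top_of_card_eq _ ?_
      have hle : Nat.card V ≤ 3 := by rw [Nat.card_eq_fintype_card]; omega
      obtain ⟨c, hc⟩ := hdvd
      have hpos : 0 < Nat.card V := Nat.card_pos
      have h2 : 2 ≤ Nat.card (AddSubgroup.zmultiples a) := by
        have := Nat.card_pos (α := AddSubgroup.zmultiples a); omega
      rcases c with _ | _ | c
      · simp at hc
      · simpa using hc.symm
      · have : 2 * 2 ≤ Nat.card (AddSubgroup.zmultiples a) * (c + 1 + 1) :=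
          Nat.mul_le_mul h2 (by omega)
        omega
    have hgen : ∀ g : G, g • a = a → ∀ w : V, g • w = w := by
      intro g hg w
      obtain ⟨n, rfl⟩ := AddSubgroup.mem_zmultiples_iff.mp (htop ▸ AddSubgroup.mem_top w)
      have : (DistribSMul.toAddMonoidHom V g) (n • a) = n • (DistribSMul.toAddMonoidHom V g) a :=
        map_zsmul _ _ _
      simpa [hg] using this
    have hc : Fintype.card (Fin 4) ≤ Fintype.card (Fin 2 → V) := by
      haveI : Nontrivial V := ⟨a, 0, ha⟩
      rw [Fintype.card_fun, Fintype.card_fin, Fintype.card_fin]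
      exact Nat.pow_le_pow_left (show 2 ≤ Fintype.card V from Fintype.one_lt_card) 2
    obtain ⟨e⟩ := Function.Embedding.nonempty_of_card_le hc
    let t : Fin 5 → Fin 3 → V := Fin.cons ![0, a, a] fun i => ![a, e i 0, e i 1]
    refine ⟨t, fun i j g hg => ?_⟩
    have h0 := hg 0
    have h1 := hg 1
    have h2 := hg 2
    induction i using Fin.cases with
    | zero =>
      induction j using Fin.cases with
      | zero => exact ⟨rfl, hgen g (by simpa [t] using h1)⟩
      | succ j => simp [t] at h0; exact absurd h0.symm ha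
    | succ i =>
      induction j using Fin.cases with
      | zero =>
        simp [t] at h0
        exact absurd ((smul_eq_zero_iff_eq g).mp h0) ha
      | succ j =>
        simp [t] at h0 h1 h2
        have hw := hgen g h0
        rw [hw] at h1 h2
        exact ⟨congrArg Fin.succ (e.injective (funext fun k => by
          fin_cases k
          · exact h1
          · exact h2)), hw⟩

section LinearGroup

variable {F : Type*} [Field F] {W : Type*} [AddCommGroup W] [Module F W]

open scoped commutatorElement in
theorem transvection_commutator {b : Module.Basis (Fin 3) F W} {i j l : Fin 3} (hij : i ≠ j)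
    (hil : i ≠ l) (hlj : l ≠ j) (a : F) (h1 : (a • b.coord l) (b i) = 0)
    (h2 : b.coord j (b l) = 0) (h3 : (a • b.coord j) (b i) = 0) :
    ⁅LinearEquiv.transvection h1, LinearEquiv.transvection h2⁆ = LinearEquiv.transvection h3 := by
  rw [commutatorElement_def, mul_inv_eq_iff_eq_mul, mul_inv_eq_iff_eq_mul]
  apply LinearEquiv.ext
  intro x
  simp only [LinearEquiv.mul_apply,
    LinearEquiv.transvection.apply, map_add, map_smul, LinearMap.smul_apply,
    Module.Basis.coord_apply, Module.Basis.repr_self, smul_eq_mul, Finsupp.add_apply,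
    Finsupp.smul_apply, Finsupp.single_eq_same]
  simp [hij, hil, hlj, hij.symm, hil.symm, hlj.symm, add_smul, mul_smul, smul_comm a]
  abel

theorem not_isSolvable_gl3 (b : Module.Basis (Fin 3) F W) : ¬ Group.IsSolvable (W ≃ₗ[F] W) := by
  intro hsol
  obtain ⟨n, hn⟩ := (Group.isSolvable_def _).1 hsol
  have key : ∀ n, ∀ i j : Fin 3, i ≠ j → ∀ a : F, ∀ h : (a • b.coord j) (b i) = 0,
      LinearEquiv.transvection h ∈ derivedSeries (W ≃ₗ[F] W) n := by
    intro n
    induction n with
    | zero => intro i j _ a h; exact Subgroup.mem_top _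
    | succ n ih =>
      intro i j hij a h
      obtain ⟨l, hil, hlj⟩ := (by decide : ∀ i j : Fin 3, ∃ l : Fin 3, i ≠ l ∧ l ≠ j) i j
      have h1 : (a • b.coord l) (b i) = 0 := by simp [hil.symm, hil]
      have h2' : ((1 : F) • b.coord j) (b l) = 0 := by simp [hlj, hlj.symm]
      have h2 : b.coord j (b l) = 0 := by simpa using h2'
      rw [← transvection_commutator hij hil hlj a h1 h2 h]
      refine Subgroup.commutator_mem_commutator (ih i l hil a h1) ?_
      simpa using ih l j hlj 1 h2'
  have h : ((1 : F) • b.coord 1) (b 0) = 0 := by simp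
  have h1 := key n 0 1 (by decide) 1 h
  rw [hn, Subgroup.mem_bot] at h1
  have h2 := LinearEquiv.congr_fun h1 (b 1)
  rw [LinearEquiv.transvection.apply] at h2
  simp at h2
  exact b.ne_zero 0 h2

open scoped Classical in
theorem five_cosets {Γ : Type*} [Group Γ] [Finite Γ] (hΓ : ¬ Group.IsSolvable Γ) (H : Subgroup Γ)
    (hH : Group.IsSolvable H) : 5 ≤ H.index := by
  by_contra hlt
  apply hΓ
  haveI : Finite (Γ ⧸ H) := inferInstance
  haveI := Fintype.ofFinite (Γ ⧸ H)
  haveI : Group.IsSolvable (Equiv.Perm (Γ ⧸ H)) :=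
    FpfLinear.Perfect.solvable_perm_le_four (by
      rw [← Subgroup.index_eq_card]; omega)
  haveI := hH
  have hker : (MulAction.toPermHom Γ (Γ ⧸ H)).ker ≤ H := by
    intro g hg
    have h1 : g • ((1 : Γ) : Γ ⧸ H) = ((1 : Γ) : Γ ⧸ H) :=
      Equiv.congr_fun (MonoidHom.mem_ker.mp hg) ((1 : Γ) : Γ ⧸ H)
    rw [show g • ((1 : Γ) : Γ ⧸ H) = ((g * 1 : Γ) : Γ ⧸ H) from rfl, mul_one, eq_comm,
      QuotientGroup.eq, inv_one, one_mul] at h1
    exact h1
  exact Group.isSolvable_of_ker_le_range H.subtype (MulAction.toPermHom Γ (Γ ⧸ H))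
    (by rw [Subgroup.range_subtype]; exact hker)

end LinearGroup

/-- A regular triple gives five orbits of regular triples. -/
theorem five_of_triple [Finite V] [Nontrivial V] (hsol : Group.IsSolvable G) {p : ℕ}
    [Fact p.Prime] [Module (ZMod p) V] {a : Fin 3 → V}
    (h : ∀ g : G, (∀ k, g • a k = a k) → ∀ w : V, g • w = w) : Five G V := by
  classical
  let L : G → (V →ₗ[ZMod p] V) := fun g => (DistribSMul.toAddMonoidHom V g).toZModLinearMap p
  have hL : ∀ g w, L g w = g • w := fun _ _ => rfl
  have hspan : ∀ (g : G) (S : Set V), (∀ w ∈ S, g • w = w) →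
      ∀ w ∈ Submodule.span (ZMod p) S, g • w = w := by
    intro g S hS w hw
    have := LinearMap.eqOn_span (f := L g) (g := LinearMap.id) (fun x hx => hS x hx) hw
    exact this
  by_cases hind : LinearIndependent (ZMod p) a
  swap
  · rw [linearIndependent_iff_notMem_span] at hind
    push Not at hind
    obtain ⟨i, hi⟩ := hind
    have hred : ∀ g : G, g • a (i + 1) = a (i + 1) → g • a (i + 2) = a (i + 2) →
        ∀ w : V, g • w = w := by
      intro g h1 h2
      have hset : ∀ w ∈ a '' (Set.univ \ {i}), g • w = w := by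
        rintro _ ⟨k, ⟨-, hk⟩, rfl⟩
        rw [Set.mem_singleton_iff] at hk
        have := (by decide : ∀ k i : Fin 3, k ≠ i → k = i + 1 ∨ k = i + 2) k i hk
        rcases this with rfl | rfl
        · exact h1
        · exact h2
      refine h g fun k => ?_
      by_cases hk : k = i
      · subst hk; exact hspan g _ hset _ hi
      · exact hset _ ⟨k, ⟨trivial, hk⟩, rfl⟩
    by_cases h1 : a (i + 1) = 0
    · by_cases h2 : a (i + 2) = 0
      · exact five_of_trivial fun g w => hred g (by rw [h1, smul_zero]) (by rw [h2, smul_zero]) w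
      · exact five_of_pair h2 fun g ha hb => hred g hb ha
    · exact five_of_pair h1 hred
  set W := Submodule.span (ZMod p) (Set.range a) with hWdef
  let b : Module.Basis (Fin 3) (ZMod p) W := Module.Basis.span hind
  have hb : ∀ k, ((b k : W) : V) = a k := fun k => congrArg Subtype.val (Module.Basis.span_apply hind k)
  let S : Subgroup G :=
    { carrier := {g | ∀ w ∈ W, g • w ∈ W ∧ g⁻¹ • w ∈ W}
      one_mem' := fun w hw => ⟨by rwa [one_smul], by rwa [inv_one, one_smul]⟩
      mul_mem' := fun {g g'} hg hg' w hw => ⟨by rw [mul_smul]; exact (hg _ (hg' w hw).1).1,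
        by rw [mul_inv_rev, mul_smul]; exact (hg' _ (hg w hw).2).2⟩
      inv_mem' := fun {g} hg w hw => ⟨(hg w hw).2, by rw [inv_inv]; exact (hg w hw).1⟩ }
  let ψ : S →* (W ≃ₗ[ZMod p] W) :=
    { toFun := fun g =>
        { toFun := fun w => ⟨(g : G) • (w : V), (g.2 w w.2).1⟩
          invFun := fun w => ⟨(g : G)⁻¹ • (w : V), (g.2 w w.2).2⟩
          map_add' := fun x y => Subtype.ext (smul_add _ _ _)
          map_smul' := fun c x => Subtype.ext ((L g).map_smul c x)
          left_inv := fun w => Subtype.ext (inv_smul_smul _ _)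
          right_inv := fun w => Subtype.ext (smul_inv_smul _ _) }
      map_one' := LinearEquiv.ext fun w => Subtype.ext (one_smul G (w : V))
      map_mul' := fun g g' => LinearEquiv.ext fun w => Subtype.ext (mul_smul (g : G) g' (w : V)) }
  haveI : Finite (W ≃ₗ[ZMod p] W) := Finite.of_injective (fun e => (e : W → W)) DFunLike.coe_injective
  haveI := hsol
  have h5 : 5 ≤ ψ.range.index :=
    five_cosets (not_isSolvable_gl3 b) _ (Group.isSolvable_of_surjective ψ.rangeRestrict_surjective)
  rw [Subgroup.index_eq_card] at h5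
  haveI := Fintype.ofFinite ((W ≃ₗ[ZMod p] W) ⧸ ψ.range)
  obtain ⟨e⟩ : Nonempty (Fin 5 ↪ (W ≃ₗ[ZMod p] W) ⧸ ψ.range) :=
    Function.Embedding.nonempty_of_card_le (by rwa [Fintype.card_fin, ← Nat.card_eq_fintype_card])
  let γ : Fin 5 → (W ≃ₗ[ZMod p] W) := fun i => (e i).out⁻¹
  refine ⟨fun i k => ((γ i (b k) : W) : V), fun i j g hg => ?_⟩
  have hgen : ∀ i, Submodule.span (ZMod p) (Set.range fun k => ((γ i (b k) : W) : V)) = W := by
    intro i
    rw [show (fun k => ((γ i (b k) : W) : V)) = W.subtype ∘ (b.map (γ i)) from rfl,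
      Set.range_comp, ← Submodule.map_span, (b.map (γ i)).span_eq, Submodule.map_top,
      Submodule.range_subtype]
  have hmap : ∀ w ∈ W, g • w ∈ W := by
    intro w hw
    have h1 : W.map (L g) ≤ W := by
      conv_lhs => rw [← hgen i]
      rw [Submodule.map_span, Submodule.span_le]
      rintro _ ⟨_, ⟨k, rfl⟩, rfl⟩
      show g • ((γ i (b k) : W) : V) ∈ W
      rw [hg k]
      exact (γ j (b k)).2
    exact h1 ⟨w, hw, rfl⟩
  have hmap' : ∀ w ∈ W, g⁻¹ • w ∈ W := by
    intro w hw
    have h1 : W.map (L g⁻¹) ≤ W := by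
      conv_lhs => rw [← hgen j]
      rw [Submodule.map_span, Submodule.span_le]
      rintro _ ⟨_, ⟨k, rfl⟩, rfl⟩
      show g⁻¹ • ((γ j (b k) : W) : V) ∈ W
      rw [show ((γ j (b k) : W) : V) = g • ((γ i (b k) : W) : V) from (hg k).symm, inv_smul_smul]
      exact (γ i (b k)).2
    exact h1 ⟨w, hw, rfl⟩
  let g' : S := ⟨g, fun w hw => ⟨hmap w hw, hmap' w hw⟩⟩
  have heq : ψ g' * γ i = γ j := by
    refine LinearEquiv.toLinearMap_injective (b.ext fun k => Subtype.ext ?_)
    exact hg k
  have hij : i = j := by
    refine e.injective ?_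
    rw [← QuotientGroup.out_eq' (e i), ← QuotientGroup.out_eq' (e j), QuotientGroup.eq]
    refine ⟨g'⁻¹, ?_⟩
    have h1 := congrArg (fun x => x⁻¹) heq
    simp only [γ, mul_inv_rev, inv_inv] at h1
    rw [map_inv, ← h1]
    group
  subst hij
  refine ⟨rfl, h g fun k => ?_⟩
  have h1 : ψ g' = 1 := by
    exact mul_eq_right.mp heq
  have h2 := congrArg Subtype.val (LinearEquiv.congr_fun h1 (b k))
  show g • a k = a k
  rw [← hb]
  exact h2

/-- Passing to a larger group. -/
theorem five_of_hom {G' : Type*} [Group G'] [DistribMulAction G' V] (f : G → G')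
    (hf : ∀ g w, f g • (w : V) = g • w) (h : Five G' V) : Five G V := by
  obtain ⟨t, ht⟩ := h
  refine ⟨t, fun i j g hg => ?_⟩
  obtain ⟨h1, h2⟩ := ht i j (f g) fun k => by rw [hf]; exact hg k
  exact ⟨h1, fun w => (hf g w).symm.trans (h2 w)⟩

end Cfsg.Agent.Lib.BaseSize
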