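/-
Rigid colourings of finite abelian groups and of primitive soluble permutation groups.
-/
import Mathlib.GroupTheory.FiniteAbelian.Basic
import Mathlib.GroupTheory.Solvable
import Mathlib.GroupTheory.GroupAction.Basic
import Mathlib.Algebra.Group.Pi.Lemmas
import Mathlib.Tactic

set_option autoImplicit false

namespace Cfsg.Agent.Lib.BaseSize.Colour

universe u

theorem fin_five_cycle : ∀ d : Fin 5, d ≠ 0 → ∀ c : Fin 5, ∃ m : Fin 5, c = m * d := by decide

section Pi

open Classical

variable {k : ℕ} {n : Fin k → ℕ}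

/-- The unit vector. -/
noncomputable def vec (i : Fin k) : (j : Fin k) → Multiplicative (ZMod (n j)) :=
  Pi.mulSingle i (Multiplicative.ofAdd 1)

theorem one_ne_ofAdd_one (hn : ∀ i, 1 < n i) (j : Fin k) :
    (1 : Multiplicative (ZMod (n j))) ≠ Multiplicative.ofAdd 1 := by
  intro h
  haveI : Fact (1 < n j) := ⟨hn j⟩
  exact zero_ne_one (α := ZMod (n j)) (congrArg (fun z : Multiplicative (ZMod (n j)) => z.toAdd) h)

theorem vec_apply (i j : Fin k) :
    (vec i : (j : Fin k) → Multiplicative (ZMod (n j))) j =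
      if j = i then Multiplicative.ofAdd 1 else 1 := by
  by_cases h : j = i
  · subst h; simp [vec]
  · simp [vec, h]

theorem prod_vec_apply (S : Finset (Fin k)) (j : Fin k) :
    (∏ i ∈ S, (vec i : (j : Fin k) → Multiplicative (ZMod (n j)))) j =
      if j ∈ S then Multiplicative.ofAdd 1 else 1 := by
  rw [Finset.prod_apply]
  simp only [vec_apply]
  rw [Finset.prod_ite_eq]

theorem finset_eq_of_prod_vec (hn : ∀ i, 1 < n i) {S T : Finset (Fin k)}
    (h : (∏ i ∈ S, (vec i : (j : Fin k) → Multiplicative (ZMod (n j)))) = ∏ i ∈ T, vec i) :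
    S = T := by
  ext j
  have h1 := congrFun h j
  rw [prod_vec_apply, prod_vec_apply] at h1
  by_cases hS : j ∈ S <;> by_cases hT : j ∈ T <;> simp only [hS, hT, if_true, if_false] at h1 ⊢
  · exact absurd h1.symm (one_ne_ofAdd_one hn j)
  · exact absurd h1 (one_ne_ofAdd_one hn j)

theorem vec_injective (hn : ∀ i, 1 < n i) :
    Function.Injective (vec : Fin k → (j : Fin k) → Multiplicative (ZMod (n j))) := fun a b h => by
  have h1 := finset_eq_of_prod_vec hn (S := {a}) (T := {b}) (by simpa using h)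
  simpa using h1

/-- The prefix sum. -/
noncomputable def pre (i : Fin k) : (j : Fin k) → Multiplicative (ZMod (n j)) :=
  ∏ l ∈ Finset.Iic i, vec l

theorem pre_ne_vec (hn : ∀ i, 1 < n i) {i : Fin k} (hi : i.val ≠ 0) (l : Fin k) :
    (pre i : (j : Fin k) → Multiplicative (ZMod (n j))) ≠ vec l := fun h => by
  have h1 := finset_eq_of_prod_vec hn (S := Finset.Iic i) (T := {l}) (by simpa [pre] using h)
  have h2 := congrArg Finset.card h1
  rw [Fin.card_Iic, Finset.card_singleton] at h2
  omega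

theorem vec_ne_one (hn : ∀ i, 1 < n i) (l : Fin k) :
    (vec l : (j : Fin k) → Multiplicative (ZMod (n j))) ≠ 1 := fun h => by
  have h1 := finset_eq_of_prod_vec hn (S := {l}) (T := ∅) (by simpa using h)
  simp at h1

theorem pre_ne_one (hn : ∀ i, 1 < n i) (l : Fin k) :
    (pre l : (j : Fin k) → Multiplicative (ZMod (n j))) ≠ 1 := fun h => by
  have h1 := finset_eq_of_prod_vec hn (S := Finset.Iic l) (T := ∅) (by simpa [pre] using h)
  exact absurd h1 (Finset.nonempty_Iic).ne_empty

/-- The colouring. -/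
noncomputable def col (x : (j : Fin k) → Multiplicative (ZMod (n j))) : Fin 5 :=
  if x = 1 then 0 else
  if ∃ i : Fin k, i.val = 0 ∧ x = vec i then 1 else
  if ∃ i : Fin k, i.val ≠ 0 ∧ x = vec i then 2 else
  if ∃ i : Fin k, i.val ≠ 0 ∧ x = pre i then 3 else 4

theorem col_eq_zero (x : (j : Fin k) → Multiplicative (ZMod (n j))) : col x = 0 ↔ x = 1 := by
  unfold col; split_ifs <;> simp_all

theorem col_eq_one (hn : ∀ i, 1 < n i) (x : (j : Fin k) → Multiplicative (ZMod (n j))) :
    col x = 1 ↔ ∃ i : Fin k, i.val = 0 ∧ x = vec i := by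
  unfold col
  split_ifs with h1 h2 h3 h4
  · simp only [show ((0 : Fin 5) = 1) = False by decide, false_iff]
    rintro ⟨i, -, rfl⟩; exact vec_ne_one hn i h1
  · simpa using h2
  all_goals simp [h2]

theorem col_eq_two (hn : ∀ i, 1 < n i) (x : (j : Fin k) → Multiplicative (ZMod (n j))) :
    col x = 2 ↔ ∃ i : Fin k, i.val ≠ 0 ∧ x = vec i := by
  unfold col
  split_ifs with h1 h2 h3 h4
  · simp only [show ((0 : Fin 5) = 2) = False by decide, false_iff]
    rintro ⟨i, -, rfl⟩; exact vec_ne_one hn i h1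
  · simp only [show ((1 : Fin 5) = 2) = False by decide, false_iff]
    rintro ⟨i, hi, rfl⟩
    obtain ⟨i', hi', e⟩ := h2
    rw [vec_injective hn e] at hi
    exact hi hi'
  · simpa using h3
  all_goals simp [h3]

theorem col_eq_three (hn : ∀ i, 1 < n i) (x : (j : Fin k) → Multiplicative (ZMod (n j))) :
    col x = 3 ↔ ∃ i : Fin k, i.val ≠ 0 ∧ x = pre i := by
  unfold col
  split_ifs with h1 h2 h3 h4
  · simp only [show ((0 : Fin 5) = 3) = False by decide, false_iff]
    rintro ⟨i, -, rfl⟩; exact pre_ne_one hn i h1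
  · simp only [show ((1 : Fin 5) = 3) = False by decide, false_iff]
    rintro ⟨i, hi, rfl⟩
    obtain ⟨i', -, e⟩ := h2
    exact pre_ne_vec hn hi i' e
  · simp only [show ((2 : Fin 5) = 3) = False by decide, false_iff]
    rintro ⟨i, hi, rfl⟩
    obtain ⟨i', -, e⟩ := h3
    exact pre_ne_vec hn hi i' e
  · simpa using h4
  · simp [h4]

theorem col_rigid (hn : ∀ i, 1 < n i)
    (α : ((j : Fin k) → Multiplicative (ZMod (n j))) →* ((j : Fin k) → Multiplicative (ZMod (n j))))
    (hα : Function.Injective α) (hf : ∀ x, col (α x) = col x) : ∀ x, α x = x := by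
  have hex : ∀ i : Fin k, ∃ l : Fin k, α (vec i) = vec l ∧ (l.val = 0 ↔ i.val = 0) := by
    intro i
    by_cases hi : i.val = 0
    · obtain ⟨l, hl, e⟩ := (col_eq_one hn _).mp ((hf (vec i)).trans ((col_eq_one hn _).mpr ⟨i, hi, rfl⟩))
      exact ⟨l, e, by simp [hi, hl]⟩
    · obtain ⟨l, hl, e⟩ := (col_eq_two hn _).mp ((hf (vec i)).trans ((col_eq_two hn _).mpr ⟨i, hi, rfl⟩))
      exact ⟨l, e, by simp [hi, hl]⟩
  choose π hπ hπ0 using hex
  have hπinj : Function.Injective π := fun a b h =>
    vec_injective hn (hα (by rw [hπ, hπ, h]))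
  have hle : ∀ i : Fin k, π i ≤ i := by
    intro i
    by_cases hi : i.val = 0
    · exact le_of_eq (Fin.ext (by rw [(hπ0 i).mpr hi, hi]))
    obtain ⟨j, hj, e⟩ := (col_eq_three hn _).mp ((hf (pre i)).trans ((col_eq_three hn _).mpr ⟨i, hi, rfl⟩))
    have h1 : (Finset.Iic i).image π = Finset.Iic j := by
      refine finset_eq_of_prod_vec hn ?_
      rw [Finset.prod_image fun a _ b _ h => hπinj h]
      calc ∏ x ∈ Finset.Iic i, (vec (π x) : (j : Fin k) → Multiplicative (ZMod (n j)))
          = ∏ x ∈ Finset.Iic i, α (vec x) := Finset.prod_congr rfl fun x _ => (hπ x).symm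
        _ = α (pre i) := (map_prod α _ _).symm
        _ = _ := e
    have h2 : j = i := by
      have := congrArg Finset.card h1
      rw [Finset.card_image_of_injective _ hπinj, Fin.card_Iic, Fin.card_Iic] at this
      exact Fin.ext (by omega)
    have : π i ∈ Finset.Iic j := h1 ▸ Finset.mem_image_of_mem π (Finset.mem_Iic.mpr le_rfl)
    rw [h2, Finset.mem_Iic] at this
    exact this
  have hid : ∀ m : ℕ, ∀ i : Fin k, i.val = m → π i = i := by
    intro m
    induction m using Nat.strong_induction_on with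
    | _ m ih =>
      intro i hi
      rcases (hle i).eq_or_lt with h | h
      · exact h
      · exact hπinj (ih (π i).val (hi ▸ h) (π i) rfl)
  intro x
  have : α = MonoidHom.id _ := by
    refine MonoidHom.pi_ext fun i z => ?_
    obtain ⟨m, hm⟩ : ∃ m : ℕ, z = (Multiplicative.ofAdd 1) ^ m := by
      haveI : NeZero (n i) := ⟨by have := hn i; omega⟩
      refine ⟨(Multiplicative.toAdd z).val, ?_⟩
      rw [← ofAdd_nsmul, nsmul_one, ZMod.natCast_zmod_val, ofAdd_toAdd]
    rw [hm, Pi.mulSingle_pow, map_pow, map_pow]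
    show α (vec i) ^ m = (vec i) ^ m
    rw [hπ, hid i.val i rfl]
  rw [this]; rfl

theorem col_not_bijective (hn : ∀ i, 1 < n i) :
    ¬ Function.Bijective (col : ((j : Fin k) → Multiplicative (ZMod (n j))) → Fin 5) := by
  intro h
  obtain ⟨x, hx⟩ := h.2 2
  obtain ⟨i, hi, rfl⟩ := (col_eq_two hn _).mp hx
  have hcard : ∏ j, n j = 5 := by
    have h1 := Nat.card_eq_of_bijective _ h
    rw [Nat.card_pi, Nat.card_fin] at h1
    simpa [Nat.card_congr Multiplicative.toAdd, Nat.card_zmod] using h1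
  set z : Fin k := ⟨0, by omega⟩
  have hzi : z ≠ i := fun e => hi (by rw [← e])
  have h2 : n z * n i ≤ 5 := by
    rw [← hcard, ← Finset.prod_pair hzi]
    exact Finset.prod_le_prod_of_subset_of_one_le' (Finset.subset_univ _) fun j _ _ => (hn j).le
  have h3 : n z ∣ 5 := hcard ▸ Finset.dvd_prod_of_mem n (Finset.mem_univ z)
  rcases (Nat.dvd_prime (by norm_num : Nat.Prime 5)).mp h3 with h4 | h4
  · have := hn z; omega
  · have := hn i; nlinarith

end Pi

/-- A finite abelian group has a colouring with five colours fixed by no automorphism. -/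
theorem exists_rigid (X : Type u) [CommGroup X] [Finite X] [Nontrivial X] :
    ∃ f : X → Fin 5, (∀ x, f x = 0 ↔ x = 1) ∧ (∃ x, f x = 1) ∧ ¬ Function.Bijective f ∧
      ∀ α : X →* X, Function.Injective α → (∀ x, f (α x) = f x) → ∀ x, α x = x := by
  obtain ⟨ι, hι, n, hn, ⟨e⟩⟩ := CommGroup.equiv_prod_multiplicative_zmod_of_finite X
  let eι : Fin (Fintype.card ι) ≃ ι := (Fintype.equivFin ι).symm
  let F : ((i : ι) → Multiplicative (ZMod (n i))) ≃*
      ((i : Fin (Fintype.card ι)) → Multiplicative (ZMod (n (eι i)))) :=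
    { (Equiv.piCongrLeft' (fun i => Multiplicative (ZMod (n i))) eι.symm) with
      map_mul' := fun _ _ => rfl }
  let e' := e.trans F
  have hn' : ∀ i, 1 < n (eι i) := fun i => hn _
  have hk : 0 < Fintype.card ι := by
    rw [Fintype.card_pos_iff]
    by_contra hne
    rw [not_nonempty_iff] at hne
    obtain ⟨a, b, hab⟩ := exists_pair_ne X
    exact hab (e.injective (Subsingleton.elim _ _))
  refine ⟨fun x => col (e' x), fun x => ?_, ⟨e'.symm (vec ⟨0, hk⟩), ?_⟩, fun h => ?_, fun α hα hf x => ?_⟩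
  · rw [col_eq_zero, map_eq_one_iff _ e'.injective]
  · show col (e' (e'.symm _)) = 1
    rw [MulEquiv.apply_symm_apply]
    exact (col_eq_one hn' _).mpr ⟨⟨0, hk⟩, rfl, rfl⟩
  · exact col_not_bijective hn' ((Function.Bijective.of_comp_iff _ e'.bijective).mp h)
  · have := col_rigid hn' ((e'.toMonoidHom.comp α).comp e'.symm.toMonoidHom)
      (e'.injective.comp (hα.comp e'.symm.injective)) (fun y => by
        show col (e' (α (e'.symm y))) = col y
        exact (hf _).trans (by simp)) (e' x)
    refine e'.injective ?_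
    simpa using this

/-- Five colourings of a transitive group with an abelian transitive normal subgroup, regular and
in different orbits. -/
theorem five_colourings {Ω : Type u} [Finite Ω] [Nontrivial Ω] (P : Subgroup (Equiv.Perm Ω))
    (W : Subgroup (Equiv.Perm Ω)) (hPW : ∀ g ∈ P, ∀ w ∈ W, g * w * g⁻¹ ∈ W)
    (hW : ∀ a ∈ W, ∀ b ∈ W, a * b = b * a) (htr : ∀ a b : Ω, ∃ w ∈ W, w a = b) :
    ∃ col : Fin 5 → Ω → Fin 5, ∀ i j, ∀ g ∈ P, (∀ a, col j (g a) = col i a) →
      i = j ∧ g = 1 := by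
  obtain ⟨a₀⟩ : Nonempty Ω := inferInstance
  letI : CommGroup W := { (inferInstance : Group W) with
    mul_comm := fun a b => Subtype.ext (hW a a.2 b b.2) }
  have hreg : Function.Bijective (fun w : W => (w : Equiv.Perm Ω) a₀) := by
    refine ⟨fun u v h => Subtype.ext (Equiv.ext fun a => ?_), fun a => ?_⟩
    · obtain ⟨w, hw, rfl⟩ := htr a₀ a
      have h' : (u : Equiv.Perm Ω) a₀ = (v : Equiv.Perm Ω) a₀ := h
      rw [← Equiv.Perm.mul_apply, ← Equiv.Perm.mul_apply, hW _ u.2 _ hw, hW _ v.2 _ hw,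
        Equiv.Perm.mul_apply, Equiv.Perm.mul_apply, h']
    · obtain ⟨w, hw, h⟩ := htr a₀ a
      exact ⟨⟨w, hw⟩, h⟩
  let e : W ≃ Ω := Equiv.ofBijective _ hreg
  haveI : Nontrivial W := e.nontrivial
  obtain ⟨f, hf0, -, hfb, hrig⟩ := exists_rigid W
  refine ⟨fun i a => f (e.symm a) + i, fun i j g hg h => ?_⟩
  have h' : ∀ a, f (e.symm (g a)) = f (e.symm a) + (i - j) := fun a => by
    have := h a
    simp only at this
    rw [← add_sub_assoc, ← this, add_sub_cancel_right]
  have hij : i = j := by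
    by_contra hne
    have hd : i - j ≠ 0 := sub_ne_zero.mpr hne
    apply hfb
    have hφ : ∀ w : W, f (e.symm (g (e w))) = f w + (i - j) := fun w => by
      rw [h', e.symm_apply_apply]
    let φ : Equiv.Perm W := e.trans ((g : Equiv.Perm Ω).trans e.symm)
    have hpow : ∀ (m : ℕ) (w : W), f ((φ ^ m) w) = f w + Fin.ofNat 5 m * (i - j) := by
      intro m
      induction m with
      | zero => intro w; simp [show Fin.ofNat 5 0 = (0 : Fin 5) from rfl]
      | succ m ih =>
        intro w
        rw [pow_succ, Equiv.Perm.mul_apply, ih, show f (φ w) = f w + (i - j) from hφ w,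
          show Fin.ofNat 5 (m + 1) = Fin.ofNat 5 m + 1 from Fin.ext (by simp [Fin.val_add]), add_mul, one_mul]
        abel
    refine ⟨fun a b hab => ?_, fun c => ?_⟩
    · obtain ⟨m, hm⟩ := fin_five_cycle _ hd (- f a)
      have h1 : ∀ w, f w = f a → (φ ^ (m : ℕ)) w = 1 := fun w hw => by
        rw [← hf0, hpow, hw, Fin.ofNat_val_eq_self, ← hm, add_neg_cancel]
      exact (φ ^ (m : ℕ)).injective ((h1 a rfl).trans (h1 b hab.symm).symm)
    · obtain ⟨m, hm⟩ := fin_five_cycle _ hd c
      refine ⟨(φ ^ (m : ℕ)) 1, ?_⟩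
      rw [hpow, (hf0 1).mpr rfl, zero_add, Fin.ofNat_val_eq_self, hm]
  refine ⟨hij, ?_⟩
  subst hij
  simp only [sub_self, add_zero] at h'
  have hfix : g a₀ = a₀ := by
    have h1 := h' a₀
    have h2 : e.symm a₀ = 1 := e.symm_apply_eq.mpr rfl
    rw [h2, (hf0 1).mpr rfl, hf0] at h1
    rw [← h2] at h1
    exact e.symm.injective h1
  let α : W →* W :=
    { toFun := fun w => ⟨g * w * g⁻¹, hPW g hg w w.2⟩
      map_one' := Subtype.ext (by simp)
      map_mul' := fun u v => Subtype.ext (by simp) }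
  have hα : ∀ w : W, e (α w) = g (e w) := fun w => by
    show (g * (w : Equiv.Perm Ω) * g⁻¹) a₀ = g ((w : Equiv.Perm Ω) a₀)
    have : g⁻¹ a₀ = a₀ := by rw [Equiv.Perm.inv_eq_iff_eq, hfix]
    rw [Equiv.Perm.mul_apply, Equiv.Perm.mul_apply, this]
  have hid := hrig α (fun u v huv => e.injective (g.injective (by rw [← hα, ← hα, huv])))
    fun w => by
      have := h' (e w)
      rwa [← hα, e.symm_apply_apply, e.symm_apply_apply] at this
  refine Equiv.ext fun a => ?_
  obtain ⟨w, rfl⟩ := e.surjective a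
  rw [← hα, hid]
  rfl

end Cfsg.Agent.Lib.BaseSize.Colour
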