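/-
Small sets of an abelian group of odd order whose set stabiliser is a 2-group.
-/
import Cfsg.Agent.Lib.BaseSize.Colour

set_option autoImplicit false

namespace Cfsg.Agent.Lib.BaseSize.Colour

universe u

section Pi

open Classical

variable {k : ℕ} {n : Fin k → ℕ}

theorem one_ne_ofAdd_two (hn : ∀ i, 2 < n i) (j : Fin k) :
    Multiplicative.ofAdd (1 : ZMod (n j)) * Multiplicative.ofAdd 1 ≠ 1 ∧
      Multiplicative.ofAdd (1 : ZMod (n j)) * Multiplicative.ofAdd 1 ≠ Multiplicative.ofAdd 1 := by
  refine ⟨fun h => ?_, fun h => ?_⟩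
  · have h1 : ((2 : ℕ) : ZMod (n j)) = 0 := by
      have h2 : (1 : ZMod (n j)) + 1 = 0 :=
        congrArg (fun z : Multiplicative (ZMod (n j)) => z.toAdd) h
      rw [← h2]; norm_num
    rw [ZMod.natCast_eq_zero_iff] at h1
    have := Nat.le_of_dvd two_pos h1
    have := hn j
    omega
  · have h1 : ∀ i, 1 < n i := fun i => (Nat.lt_succ_self 1).trans (hn i)
    exact one_ne_ofAdd_one h1 j (mul_eq_right.mp h).symm

theorem union_of_mul (hn : ∀ i, 2 < n i) {A B U : Finset (Fin k)}
    (h : (∏ i ∈ A, (vec i : (j : Fin k) → Multiplicative (ZMod (n j)))) * ∏ i ∈ B, vec i =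
      ∏ i ∈ U, vec i) : Disjoint A B ∧ U = A ∪ B := by
  have hd : Disjoint A B := by
    rw [Finset.disjoint_left]
    intro j hA hB
    have h1 := congrFun h j
    rw [Pi.mul_apply, prod_vec_apply, prod_vec_apply, prod_vec_apply, if_pos hA, if_pos hB] at h1
    by_cases hU : j ∈ U
    · rw [if_pos hU] at h1; exact (one_ne_ofAdd_two hn j).2 h1
    · rw [if_neg hU] at h1; exact (one_ne_ofAdd_two hn j).1 h1
  refine ⟨hd, finset_eq_of_prod_vec (n := n) (fun i => by have := hn i; omega) ?_⟩
  rw [← h, Finset.prod_union hd]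

/-- The indices of the long set. -/
noncomputable def members (k : ℕ) : Finset (Finset (Fin k)) :=
  Finset.univ.image (fun i : Fin k => ({i} : Finset (Fin k))) ∪
    (Finset.univ.filter fun i : Fin k => i.val ≠ 0).image fun i => Finset.Iic i

theorem mem_members {k : ℕ} {A : Finset (Fin k)} :
    A ∈ members k ↔ (∃ i, A = {i}) ∨ ∃ i : Fin k, i.val ≠ 0 ∧ A = Finset.Iic i := by
  simp [members, eq_comm]

theorem card_members_le {k : ℕ} (hk : 0 < k) : (members k).card ≤ 2 * k - 1 := by
  refine (Finset.card_union_le _ _).trans ?_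
  have h1 : (Finset.univ.image fun i : Fin k => ({i} : Finset (Fin k))).card ≤ k :=
    Finset.card_image_le.trans (by simp)
  have h2 : ((Finset.univ.filter fun i : Fin k => i.val ≠ 0).image fun i => Finset.Iic i).card ≤
      k - 1 := by
    refine Finset.card_image_le.trans ?_
    rw [show (Finset.univ.filter fun i : Fin k => i.val ≠ 0) = Finset.univ.erase ⟨0, hk⟩ by
      ext i; simp [Fin.ext_iff]]
    simp
  omega

/-- A map of unit vectors to members of the long set is an involution. -/
theorem members_rigid (hn : ∀ i, 2 < n i)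
    (α : ((j : Fin k) → Multiplicative (ZMod (n j))) →* ((j : Fin k) → Multiplicative (ZMod (n j))))
    (hα : Function.Injective α)
    (hf : ∀ A ∈ members k, ∃ B ∈ members k, α (∏ i ∈ A, vec i) = ∏ i ∈ B, vec i) :
    ∀ i, α (α (vec i)) = vec i := by
  have hn1 : ∀ i, 1 < n i := fun i => by have := hn i; omega
  choose π hπm hπ using hf
  have hπinj : ∀ A hA B hB, π A hA = π B hB → A = B := fun A hA B hB h =>
    finset_eq_of_prod_vec hn1 (hα (by rw [hπ A hA, hπ B hB, h]))
  have hne : ∀ A ∈ members k, A.Nonempty := by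
    intro A hA
    rcases mem_members.mp hA with ⟨i, rfl⟩ | ⟨i, -, rfl⟩
    · exact Finset.singleton_nonempty i
    · exact Finset.nonempty_Iic
  -- prefixes go to prefixes
  have hpre : ∀ i : Fin k, (hi : i.val ≠ 0) → ∃ j : Fin k, j.val ≠ 0 ∧
      π (Finset.Iic i) (mem_members.mpr (Or.inr ⟨i, hi, rfl⟩)) = Finset.Iic j := by
    intro i hi
    set i' : Fin k := ⟨i.val - 1, by omega⟩
    obtain ⟨A, hA, hAe⟩ : ∃ A ∈ members k, A = Finset.Iic i' := by
      by_cases h1 : i'.val = 0
      · refine ⟨{i'}, mem_members.mpr (Or.inl ⟨i', rfl⟩), ?_⟩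
        ext a
        simp only [Finset.mem_singleton, Finset.mem_Iic, Fin.le_def, Fin.ext_iff]
        omega
      · exact ⟨_, mem_members.mpr (Or.inr ⟨i', h1, rfl⟩), rfl⟩
    have hB : ({i} : Finset (Fin k)) ∈ members k := mem_members.mpr (Or.inl ⟨i, rfl⟩)
    have hsum : (∏ a ∈ A, (vec a : (j : Fin k) → Multiplicative (ZMod (n j)))) *
        ∏ a ∈ ({i} : Finset (Fin k)), vec a = ∏ a ∈ Finset.Iic i, vec a := by
      have hd : Disjoint A {i} := by
        rw [hAe, Finset.disjoint_singleton_right, Finset.mem_Iic, Fin.le_def]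
        simp only [i']
        omega
      rw [← Finset.prod_union hd]
      congr 1
      rw [hAe]
      ext a
      simp only [Finset.mem_union, Finset.mem_singleton, Finset.mem_Iic, Fin.le_def, Fin.ext_iff,
        i']
      omega
    have h1 := congrArg α hsum
    rw [map_mul, hπ A hA, hπ _ hB, hπ _ (mem_members.mpr (Or.inr ⟨i, hi, rfl⟩))] at h1
    obtain ⟨hd, hu⟩ := union_of_mul hn h1
    rcases mem_members.mp (hπm (Finset.Iic i) (mem_members.mpr (Or.inr ⟨i, hi, rfl⟩))) with
      ⟨l, hl⟩ | ⟨j, hj, hj'⟩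
    · have hc := congrArg Finset.card hu
      rw [hl, Finset.card_singleton, Finset.card_union_of_disjoint hd] at hc
      have h2 := (hne _ (hπm A hA)).card_pos
      have h3 := (hne _ (hπm _ hB)).card_pos
      omega
    · exact ⟨j, hj, hj'⟩
  choose τ hτ0 hτ using hpre
  -- so unit vectors go to unit vectors
  have hvec : ∀ i : Fin k, ∃ l : Fin k,
      π {i} (mem_members.mpr (Or.inl ⟨i, rfl⟩)) = {l} := by
    intro i
    rcases mem_members.mp (hπm {i} (mem_members.mpr (Or.inl ⟨i, rfl⟩))) with h | ⟨j, hj, hj'⟩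
    · exact h
    exfalso
    obtain ⟨⟨a, ha⟩, hja⟩ : ∃ a : {a : Fin k // a.val ≠ 0}, τ a.1 a.2 = j := by
      have hinj : Function.Injective
          (fun a : {a : Fin k // a.val ≠ 0} => (⟨τ a.1 a.2, hτ0 a.1 a.2⟩ : {a : Fin k // a.val ≠ 0})) := by
        intro a b h
        have h1 : τ a.1 a.2 = τ b.1 b.2 := congrArg Subtype.val h
        have h2 := hπinj (Finset.Iic a.1) _ (Finset.Iic b.1) _
          ((hτ a.1 a.2).trans ((congrArg Finset.Iic h1).trans (hτ b.1 b.2).symm))
        have h3 := congrArg Finset.card h2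
        rw [Fin.card_Iic, Fin.card_Iic] at h3
        exact Subtype.ext (Fin.ext (by omega))
      obtain ⟨a, ha⟩ := Finite.surjective_of_injective hinj ⟨j, hj⟩
      exact ⟨a, congrArg Subtype.val ha⟩
    have h1 := congrArg Finset.card (hπinj {i} _ (Finset.Iic a) _ (hj'.trans (hja ▸ hτ a ha).symm))
    rw [Finset.card_singleton, Fin.card_Iic] at h1
    change a.val ≠ 0 at ha
    omega
  choose σ hσ using hvec
  have hασ : ∀ i, α (vec i) = vec (σ i) := fun i => by
    have := hπ {i} (mem_members.mpr (Or.inl ⟨i, rfl⟩))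
    rwa [hσ, Finset.prod_singleton, Finset.prod_singleton] at this
  have hσinj : Function.Injective σ := fun a b h =>
    vec_injective hn1 (hα (by rw [hασ, hασ, h]))
  have hσpre : ∀ i : Fin k, i.val ≠ 0 → (Finset.Iic i).image σ = Finset.Iic i := by
    intro i hi
    have h1 : (Finset.Iic i).image σ = Finset.Iic (τ i hi) := by
      refine finset_eq_of_prod_vec hn1 ?_
      rw [Finset.prod_image fun a _ b _ h => hσinj h]
      have h2 := hπ (Finset.Iic i) (mem_members.mpr (Or.inr ⟨i, hi, rfl⟩))
      rw [hτ, map_prod] at h2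
      simpa [hασ] using h2
    rw [h1]
    congr 1
    have h2 := congrArg Finset.card h1
    rw [Finset.card_image_of_injective _ hσinj, Fin.card_Iic, Fin.card_Iic] at h2
    exact Fin.ext (by omega)
  have hfix : ∀ i : Fin k, 2 ≤ i.val → σ i = i := by
    intro i hi
    set i' : Fin k := ⟨i.val - 1, by omega⟩
    have h1 : σ i ∈ Finset.Iic i := by
      rw [← hσpre i (by omega)]
      exact Finset.mem_image_of_mem σ (Finset.mem_Iic.mpr le_rfl)
    by_contra hne'
    have h2 : σ i ∈ (Finset.Iic i').image σ := by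
      rw [hσpre i' (by simp only [i']; omega), Finset.mem_Iic, Fin.le_def]
      rw [Finset.mem_Iic, Fin.le_def] at h1
      have : (σ i).val ≠ i.val := fun h => hne' (Fin.ext h)
      simp only [i']
      omega
    obtain ⟨a, ha, hai⟩ := Finset.mem_image.mp h2
    rw [hσinj hai, Finset.mem_Iic, Fin.le_def] at ha
    simp only [i'] at ha
    omega
  have hsmall : ∀ i : Fin k, i.val < 2 → (σ i).val < 2 := by
    intro i hi
    by_contra h
    push Not at h
    have h1 : σ i = i := hσinj (hfix (σ i) h)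
    rw [h1] at h
    omega
  intro i
  rw [hασ, hασ]
  congr 1
  by_cases hi : 2 ≤ i.val
  · rw [hfix i hi, hfix i hi]
  · have h1 := hsmall i (by omega)
    have h2 := hsmall _ h1
    by_cases h3 : σ i = i
    · rw [h3, h3]
    · have h4 : σ (σ i) ≠ σ i := fun h => h3 (hσinj h)
      have h5 : (σ i).val ≠ i.val := fun h => h3 (Fin.ext h)
      have h6 : (σ (σ i)).val ≠ (σ i).val := fun h => h4 (Fin.ext h)
      exact Fin.ext (by omega)

theorem hom_sq_eq (hn : ∀ i, 1 < n i)
    (α : ((j : Fin k) → Multiplicative (ZMod (n j))) →* ((j : Fin k) → Multiplicative (ZMod (n j))))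
    (h : ∀ i, α (α (vec i)) = vec i) : ∀ x, α (α x) = x := by
  have : α.comp α = MonoidHom.id _ := by
    refine MonoidHom.pi_ext fun i z => ?_
    obtain ⟨m, hm⟩ : ∃ m : ℕ, z = (Multiplicative.ofAdd 1) ^ m := by
      haveI : NeZero (n i) := ⟨by have := hn i; omega⟩
      refine ⟨(Multiplicative.toAdd z).val, ?_⟩
      rw [← ofAdd_nsmul, nsmul_one, ZMod.natCast_zmod_val, ofAdd_toAdd]
    rw [hm, Pi.mulSingle_pow, map_pow, map_pow]
    show α (α (vec i)) ^ m = (vec i) ^ m
    rw [h]
  exact fun x => DFunLike.congr_fun this x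

theorem three_pow_gt {k : ℕ} (hk : 3 ≤ k) : 3 * (2 * k - 1) < 3 ^ k := by
  induction k, hk using Nat.le_induction with
  | base => norm_num
  | succ k hk ih =>
    have : 9 ≤ 3 ^ k := le_trans (by norm_num) (Nat.pow_le_pow_right (by norm_num) (show 2 ≤ k by omega))
    rw [pow_succ]
    omega

/-- The set, for the group presented as a product of cyclic groups. -/
theorem exists_small_set_pi (hn : ∀ i, 2 < n i) (hodd : ∀ i, Odd (n i)) :
    ∃ S : Finset ((j : Fin k) → Multiplicative (ZMod (n j))), 1 ∉ S ∧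
      3 * S.card < Nat.card ((j : Fin k) → Multiplicative (ZMod (n j))) ∧
      ∀ α : ((j : Fin k) → Multiplicative (ZMod (n j))) →* ((j : Fin k) → Multiplicative (ZMod (n j))),
        Function.Injective α → (∀ x ∈ S, α x ∈ S) → ∀ x, α (α x) = x := by
  have hn1 : ∀ i, 1 < n i := fun i => by have := hn i; omega
  have hcard : Nat.card ((j : Fin k) → Multiplicative (ZMod (n j))) = ∏ j, n j := by
    rw [Nat.card_pi]
    exact Finset.prod_congr rfl fun j _ => (Nat.card_congr Multiplicative.toAdd).trans (Nat.card_zmod _)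
  have hge : 3 ^ k ≤ ∏ j, n j := by
    calc 3 ^ k = ∏ _j : Fin k, 3 := by simp
      _ ≤ ∏ j, n j := Finset.prod_le_prod (fun _ _ => Nat.zero_le 3) fun j _ => hn j
  by_cases hk3 : 3 ≤ k
  · refine ⟨(members k).image fun A => ∏ i ∈ A, vec i, ?_, ?_, fun α hα hS => ?_⟩
    · intro h
      obtain ⟨A, hA, hA1⟩ := Finset.mem_image.mp h
      have : A = ∅ := finset_eq_of_prod_vec hn1 (by simpa using hA1)
      subst this
      rcases mem_members.mp hA with ⟨i, hi⟩ | ⟨i, -, hi⟩
      · exact (Finset.singleton_nonempty i).ne_empty hi.symm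
      · exact Finset.nonempty_Iic.ne_empty hi.symm
    · rw [hcard]
      refine lt_of_lt_of_le ?_ hge
      refine lt_of_le_of_lt (Nat.mul_le_mul_left 3 ?_) (three_pow_gt hk3)
      exact Finset.card_image_le.trans (card_members_le (by omega))
    · refine hom_sq_eq hn1 α (members_rigid hn α hα fun A hA => ?_)
      obtain ⟨B, hB, e⟩ := Finset.mem_image.mp (hS _ (Finset.mem_image_of_mem _ hA))
      exact ⟨B, hB, e.symm⟩
  by_cases hex : k = 1 ∧ ∀ i, n i = 3
  · refine ⟨∅, Finset.notMem_empty _, ?_, fun α hα _ => hom_sq_eq hn1 α fun i => ?_⟩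
    · rw [hcard, Finset.card_empty, mul_zero]
      exact lt_of_lt_of_le (pow_pos (by norm_num) k) hge
    · obtain ⟨rfl, h3⟩ := hex
      have key : ∀ y : (j : Fin 1) → Multiplicative (ZMod (n j)), y = 1 ∨ y = vec i ∨ y = vec i ^ 2 := by
        intro y
        haveI : NeZero (n i) := ⟨by rw [h3]; omega⟩
        have hlt := ZMod.val_lt (y i).toAdd
        have hy : y = vec i ^ (y i).toAdd.val := by
          funext j
          obtain rfl : j = i := Subsingleton.elim _ _
          rw [Pi.pow_apply, vec_apply, if_pos rfl, ← ofAdd_nsmul, nsmul_one, ZMod.natCast_zmod_val,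
            ofAdd_toAdd]
        have := h3 i
        rcases (show (y i).toAdd.val = 0 ∨ (y i).toAdd.val = 1 ∨ (y i).toAdd.val = 2 by omega)
          with h | h | h <;> rw [h] at hy <;> simp_all
      rcases key (α (vec i)) with h | h | h
      · exact absurd (hα (h.trans (map_one α).symm)) (vec_ne_one hn1 i)
      · rw [h, h]
      · rw [h, map_pow, h, ← pow_mul]
        have hc : (vec i : (j : Fin 1) → Multiplicative (ZMod (n j))) ^ 3 = 1 := by
          funext j
          obtain rfl : j = i := Subsingleton.elim _ _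
          rw [Pi.pow_apply, vec_apply, if_pos rfl, ← ofAdd_nsmul, nsmul_one, Pi.one_apply]
          have : ((3 : ℕ) : ZMod (n j)) = 0 := by rw [ZMod.natCast_eq_zero_iff, h3]
          rw [this, ofAdd_zero]
        rw [show 2 * 2 = 3 + 1 from rfl, pow_succ, hc, one_mul]
  refine ⟨Finset.univ.image vec, ?_, ?_, fun α hα hS => hom_sq_eq hn1 α fun i => ?_⟩
  · intro h
    obtain ⟨i, -, hi⟩ := Finset.mem_image.mp h
    exact vec_ne_one hn1 i hi
  · rw [hcard, Finset.card_image_of_injective _ (vec_injective hn1), Finset.card_univ, Fintype.card_fin]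
    rcases (show k = 0 ∨ k = 1 ∨ k = 2 by omega) with rfl | rfl | rfl
    · simp
    · push Not at hex
      obtain ⟨i, hi⟩ := hex rfl
      rw [Fin.prod_univ_one, ← Subsingleton.elim i 0]
      have := hn i
      omega
    · norm_num [Fin.prod_univ_two] at hge ⊢; omega
  · have hS' : ∀ j, ∃ l, α (vec j) = vec l := fun j => by
      obtain ⟨l, -, hl⟩ := Finset.mem_image.mp (hS _ (Finset.mem_image_of_mem vec (Finset.mem_univ j)))
      exact ⟨l, hl.symm⟩
    choose σ hσ using hS'
    have hσinj : Function.Injective σ := fun a b h =>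
      vec_injective hn1 (hα (by rw [hσ, hσ, h]))
    rw [hσ, hσ]
    congr 1
    by_cases h3 : σ i = i
    · rw [h3, h3]
    · have h5 : (σ i).val ≠ i.val := fun h => h3 (Fin.ext h)
      have h6 : (σ (σ i)).val ≠ (σ i).val := fun h => h3 (hσinj (Fin.ext h))
      exact Fin.ext (by have := (σ i).isLt; have := (σ (σ i)).isLt; have := i.isLt; omega)

end Pi

/-- A set of less than a third of the group whose stabiliser in the automorphism group has
exponent two. -/
theorem exists_small_set (X : Type u) [CommGroup X] [Finite X] (hX : Odd (Nat.card X)) :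
    ∃ S : Finset X, (1 : X) ∉ S ∧ 3 * S.card < Nat.card X ∧
      ∀ α : X →* X, Function.Injective α → (∀ x ∈ S, α x ∈ S) → ∀ x, α (α x) = x := by
  classical
  obtain ⟨ι, hι, n, hn, ⟨e⟩⟩ := CommGroup.equiv_prod_multiplicative_zmod_of_finite X
  let eι : Fin (Fintype.card ι) ≃ ι := (Fintype.equivFin ι).symm
  let F : ((i : ι) → Multiplicative (ZMod (n i))) ≃*
      ((i : Fin (Fintype.card ι)) → Multiplicative (ZMod (n (eι i)))) :=
    { (Equiv.piCongrLeft' (fun i => Multiplicative (ZMod (n i))) eι.symm) with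
      map_mul' := fun _ _ => rfl }
  let e' := e.trans F
  have hprod : Nat.card X = ∏ i, n (eι i) := by
    rw [Nat.card_congr e'.toEquiv, Nat.card_pi]
    exact Finset.prod_congr rfl fun j _ => (Nat.card_congr Multiplicative.toAdd).trans (Nat.card_zmod _)
  have hodd : ∀ i, Odd (n (eι i)) := fun i =>
    Odd.of_dvd_nat hX (hprod ▸ Finset.dvd_prod_of_mem _ (Finset.mem_univ i))
  have hn2 : ∀ i, 2 < n (eι i) := fun i => by
    have := hn (eι i)
    obtain ⟨c, hc⟩ := hodd i
    omega
  obtain ⟨S, hS1, hS3, hS⟩ := exists_small_set_pi hn2 hodd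
  refine ⟨S.map e'.symm.toEquiv.toEmbedding, ?_, ?_, fun α hα hSα x => ?_⟩
  · intro h
    obtain ⟨y, hy, he⟩ := Finset.mem_map.mp h
    exact hS1 (by
      have : y = 1 := e'.symm.injective (he.trans (map_one e'.symm).symm)
      rwa [this] at hy)
  · rw [Finset.card_map, Nat.card_congr e'.toEquiv]
    exact hS3
  · have := hS ((e'.toMonoidHom.comp α).comp e'.symm.toMonoidHom)
      (e'.injective.comp (hα.comp e'.symm.injective)) (fun y hy => by
        obtain ⟨z, hz, he⟩ := Finset.mem_map.mp (hSα _ (Finset.mem_map_of_mem _ hy))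
        show e' (α (e'.symm y)) ∈ S
        rw [show α (e'.symm y) = e'.symm z from he.symm, MulEquiv.apply_symm_apply]
        exact hz) (e' x)
    refine e'.injective ?_
    simpa using this

end Cfsg.Agent.Lib.BaseSize.Colour
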