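/-
Certificates for sets of vectors over the field of two elements with small stabilisers.
-/
import Mathlib

set_option autoImplicit false

namespace Cfsg.Agent.Lib.BaseSize.RigidTwo

/-- Certificates: a set, and a child for every involution allowed to fix it. -/
inductive Cert where
  | leaf (S : List ℕ)
  | add (g : List ℕ) (t rest : Cert)

/-- The set of a certificate. -/
def setOf : Cert → List ℕ
  | .leaf S => S
  | .add _ _ rest => setOf rest

/-- The children. -/
def kids : Cert → List (List ℕ × Cert)
  | .leaf _ => []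
  | .add g t rest => (g, t) :: kids rest

theorem sizeOf_kids : ∀ (c : Cert), ∀ gt ∈ kids c, sizeOf gt.2 < sizeOf c
  | .leaf _, gt, h => by simp [kids] at h
  | .add g t rest, gt, h => by
    rcases List.mem_cons.mp h with rfl | h
    · simp; omega
    · have := sizeOf_kids rest gt h
      simp
      omega

/-- The table of a map of numbers below `2 ^ k`. -/
def tbl (k : ℕ) (f : ℕ → ℕ) : List ℕ := (List.range (2 ^ k)).map f

/-- One more image of a unit vector. -/
def step (t : List ℕ) (y : ℕ) : List ℕ := t ++ t.map (fun z => z ^^^ y)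

/-- Candidates for the image of a unit vector. -/
def cand (k : ℕ) (S : List ℕ) (i : ℕ) : List ℕ :=
  if S.contains (2 ^ i) then S else List.range (2 ^ k)

/-- The new part of the set goes into the set. -/
def keep (S : List ℕ) (i : ℕ) (t : List ℕ) : Bool :=
  S.all fun c => !(decide (2 ^ i ≤ c) && decide (c < 2 ^ (i + 1))) || S.contains (t.getD c 0)

/-- Partial linear maps sending the set into itself. -/
def enum (k : ℕ) (S : List ℕ) : ℕ → List (List ℕ)
  | 0 => [[0]]
  | i + 1 => (enum k S i).flatMap fun t =>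
      (((cand k S i).filter fun y => !t.contains y).map (step t)).filter (keep S i)

/-- Composition of tables. -/
def mul (a b : List ℕ) : List ℕ := b.map fun x => a.getD x 0

/-- The identity table. -/
def one (k : ℕ) : List ℕ := tbl k fun x => x

/-- Powers of tables. -/
def powT (k : ℕ) (a : List ℕ) : ℕ → List ℕ
  | 0 => one k
  | n + 1 => mul a (powT k a n)

/-- Order exactly three. -/
def three (k : ℕ) (a : List ℕ) : Bool := (a != one k) && (powT k a 3 == one k)

/-- A power of `y`, or of its product with a chosen element, has order three. -/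
def bad (k : ℕ) (ch : List (List ℕ)) (y : List ℕ) : Bool :=
  (one k :: ch).any fun h => (List.range 4).any fun l => (List.range 7).any fun j =>
    three k (powT k (mul h (powT k y l)) j)

/-- The check at one node. -/
def nodeOk (k : ℕ) (c : Cert) (ch : List (List ℕ)) : Bool :=
  ((setOf c).all fun x => decide (0 < x) && decide (x < 2 ^ k)) &&
  ((enum k (setOf c) k).all fun y => y == one k || bad k ch y ||
    (kids c).any fun gt => (List.range 7).any fun j => powT k y j == gt.1)

/-- The check of the children. -/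
def checks (k : ℕ) : Cert → List (List ℕ) → Bool
  | .leaf _, _ => true
  | .add g t rest, ch => nodeOk k t (g :: ch) && checks k t (g :: ch) && checks k rest ch

/-- The check. -/
def check (k : ℕ) (c : Cert) (ch : List (List ℕ)) : Bool := nodeOk k c ch && checks k c ch

theorem checks_mem {k : ℕ} : ∀ {c : Cert} {ch : List (List ℕ)},
    checks k c ch = true → ∀ gt ∈ kids c, check k gt.2 (gt.1 :: ch) = true
  | .leaf _, ch, _, gt, hgt => by simp [kids] at hgt
  | .add g t rest, ch, h, gt, hgt => by
    simp only [checks, Bool.and_eq_true] at h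
    rcases List.mem_cons.mp hgt with rfl | h'
    · simp [check, h.1.1, h.1.2]
    · exact checks_mem h.2 gt h'

theorem tbl_succ (f : ℕ → ℕ) (i : ℕ) (h : ∀ x < 2 ^ i, f (2 ^ i + x) = f x ^^^ f (2 ^ i)) :
    tbl (i + 1) f = step (tbl i f) (f (2 ^ i)) := by
  rw [tbl, pow_succ, mul_two, List.range_add, List.map_append, List.map_map, step, tbl,
    List.map_map]
  congr 1
  refine List.map_congr_left fun x hx => ?_
  exact h x (List.mem_range.mp hx)

theorem getD_tbl {k : ℕ} (f : ℕ → ℕ) {c : ℕ} (h : c < 2 ^ k) : (tbl k f).getD c 0 = f c := by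
  simp [tbl, List.getD_eq_getElem?_getD, List.getElem?_map, List.getElem?_range h]

theorem mem_enum {k : ℕ} (f : ℕ → ℕ) (hlt : ∀ x < 2 ^ k, f x < 2 ^ k)
    (hinj : ∀ x < 2 ^ k, ∀ y < 2 ^ k, f x = f y → x = y)
    (hxor : ∀ x < 2 ^ k, ∀ y < 2 ^ k, f (x ^^^ y) = f x ^^^ f y) (S : List ℕ)
    (hS : ∀ c ∈ S, f c ∈ S) : ∀ i, i ≤ k → tbl i f ∈ enum k S i := by
  intro i
  induction i with
  | zero =>
    intro _
    have h0 : f 0 = 0 := by
      have h := hxor 0 (by positivity) 0 (by positivity)
      rwa [Nat.xor_self, Nat.xor_self] at h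
    simp [tbl, enum, h0]
  | succ i ih =>
    intro hi
    have hpow : 2 ^ i < 2 ^ k := Nat.pow_lt_pow_right (by norm_num) hi
    have hstep : tbl (i + 1) f = step (tbl i f) (f (2 ^ i)) := by
      refine tbl_succ f i fun x hx => ?_
      have he : 2 ^ i + x = x ^^^ 2 ^ i := by
        rw [Nat.xor_comm]
        apply Nat.eq_of_testBit_eq
        intro j
        rw [Nat.testBit_xor, Nat.testBit_two_pow]
        rcases lt_trichotomy i j with hj | rfl | hj
        · have h2 : 2 ^ (i + 1) ≤ 2 ^ j := Nat.pow_le_pow_right (by norm_num) hj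
          have h3 : 2 ^ i + x < 2 ^ j := by rw [pow_succ] at h2; omega
          rw [Nat.testBit_lt_two_pow h3, Nat.testBit_lt_two_pow (lt_of_le_of_lt (by omega) h3)]
          simp [hj.ne]
        · rw [Nat.testBit_two_pow_add_eq, Nat.testBit_lt_two_pow hx]; simp
        · rw [Nat.testBit_two_pow_add_gt hj]; simp [hj.ne']
      rw [he, hxor x (hx.trans hpow) _ hpow]
    refine List.mem_flatMap.mpr ⟨tbl i f, ih (by omega), List.mem_filter.mpr ⟨?_, ?_⟩⟩
    · rw [List.mem_map]
      refine ⟨f (2 ^ i), List.mem_filter.mpr ⟨?_, ?_⟩, hstep.symm⟩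
      · rw [cand]
        split_ifs with h
        · exact hS _ (List.contains_iff_mem.mp h)
        · exact List.mem_range.mpr (hlt _ hpow)
      · simp only [Bool.not_eq_true', List.contains_eq_mem, decide_eq_false_iff_not]
        intro h
        obtain ⟨x, hx, he⟩ := List.mem_map.mp h
        have hx' := List.mem_range.mp hx
        exact absurd (hinj x (hx'.trans hpow) _ hpow he) (by omega)
    · rw [keep, List.all_eq_true]
      intro c hc
      by_cases h : 2 ^ i ≤ c ∧ c < 2 ^ (i + 1)
      · rw [getD_tbl f h.2]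
        simp [List.contains_eq_mem, hS c hc]
      · simp only [not_and, not_lt] at h
        rcases Nat.lt_or_ge c (2 ^ i) with h1 | h1
        · simp [Nat.not_le.mpr h1]
        · simp [Nat.not_lt.mpr (h h1)]

theorem mul_tbl {k : ℕ} (f g : ℕ → ℕ) (hg : ∀ x < 2 ^ k, g x < 2 ^ k) :
    mul (tbl k f) (tbl k g) = tbl k fun x => f (g x) := by
  rw [mul, show tbl k g = (List.range (2 ^ k)).map g from rfl,
    show (tbl k fun x => f (g x)) = (List.range (2 ^ k)).map fun x => f (g x) from rfl,
    List.map_map]
  exact List.map_congr_left fun x hx => getD_tbl f (hg x (List.mem_range.mp hx))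

/-- A group of linear maps without elements of order three has a set fixed by no nontrivial
member. -/
theorem sound {k : ℕ} {A : Type*} [Monoid A] (act : A → ℕ → ℕ)
    (hlt : ∀ a, ∀ x < 2 ^ k, act a x < 2 ^ k)
    (hinj : ∀ a, ∀ x < 2 ^ k, ∀ y < 2 ^ k, act a x = act a y → x = y)
    (hxor : ∀ a, ∀ x < 2 ^ k, ∀ y < 2 ^ k, act a (x ^^^ y) = act a x ^^^ act a y)
    (h1 : tbl k (act 1) = one k)
    (hmul : ∀ a b, tbl k (act (a * b)) = mul (tbl k (act a)) (tbl k (act b)))
    (hthree : ∀ a, three k (tbl k (act a)) = false) :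
    ∀ (c : Cert) (ch : List (List ℕ)), (∀ g ∈ ch, ∃ a, tbl k (act a) = g) →
      check k c ch = true →
      ∃ S : List ℕ, (∀ x ∈ S, 0 < x ∧ x < 2 ^ k) ∧
        ∀ a, (∀ x ∈ S, act a x ∈ S) → tbl k (act a) = one k := by
  classical
  have hpow : ∀ (a : A) (n : ℕ), tbl k (act (a ^ n)) = powT k (tbl k (act a)) n := by
    intro a n
    induction n with
    | zero => rw [pow_zero, h1]; rfl
    | succ n ih => rw [pow_succ', hmul, ih]; rfl
  intro c
  induction hn : sizeOf c using Nat.strong_induction_on generalizing c with | _ n ih => ?_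
  intro ch hch hc
  simp only [check, nodeOk, Bool.and_eq_true, List.all_eq_true, decide_eq_true_eq] at hc
  obtain ⟨⟨hS, hall⟩, hcs⟩ := hc
  set S := setOf c with hSdef
  by_cases hgood : ∀ a, (∀ x ∈ S, act a x ∈ S) → tbl k (act a) = one k
  · exact ⟨S, hS, hgood⟩
  push Not at hgood
  obtain ⟨a, haS, hane⟩ := hgood
  have hy := hall _ (mem_enum (act a) (hlt a) (hinj a) (hxor a) S haS k le_rfl)
  simp only [Bool.or_eq_true, beq_iff_eq, List.any_eq_true] at hy
  rcases hy with (hy | hy) | ⟨gt, hgt, j, -, hj⟩
  · exact absurd hy hane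
  · exfalso
    simp only [bad, List.any_eq_true] at hy
    obtain ⟨h, hh, l, -, j, -, hj⟩ := hy
    obtain ⟨b, rfl⟩ : ∃ b, tbl k (act b) = h := by
      rcases List.mem_cons.mp hh with rfl | hh
      · exact ⟨1, h1⟩
      · exact hch h hh
    rw [← hpow, ← hmul, ← hpow, hthree] at hj
    exact Bool.false_ne_true hj
  · have hlt' : sizeOf gt.2 < n := hn ▸ sizeOf_kids c gt hgt
    refine ih _ hlt' gt.2 rfl (gt.1 :: ch) ?_ (checks_mem hcs gt hgt)
    intro g hg
    rcases List.mem_cons.mp hg with rfl | hg
    · exact ⟨a ^ j, by rw [hpow]; exact hj⟩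
    · exact hch g hg
end Cfsg.Agent.Lib.BaseSize.RigidTwo
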