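/-
The certificates for sets of vectors over the field of two elements.
-/
import Cfsg.Agent.Lib.BaseSize.RigidTwoCert

set_option autoImplicit false

namespace Cfsg.Agent.Lib.BaseSize.RigidTwo

def cert1 : Cert :=
  .leaf [1]

def cert2 : Cert :=
  .add [0, 2, 1, 3] (.leaf [1, 3]) (.leaf [1, 2])

def cert3 : Cert :=
  .add [0, 1, 4, 5, 2, 3, 6, 7] (.add [0, 7, 2, 5, 4, 3, 6, 1] (.add [0, 3, 2, 1, 4, 7, 6, 5] (.leaf [1, 2, 6]) (.leaf [1, 2, 3, 4])) (.leaf [1, 2, 7])) (.add [0, 2, 1, 3, 4, 6, 5, 7] (.add [0, 1, 2, 3, 7, 6, 5, 4] (.add [0, 1, 2, 3, 5, 4, 7, 6] (.leaf [1, 3, 4]) (.leaf [1, 2, 4, 5])) (.leaf [1, 4, 7])) (.add [0, 4, 2, 6, 1, 5, 3, 7] (.add [0, 1, 7, 6, 4, 5, 3, 2] (.add [0, 1, 3, 2, 4, 5, 7, 6] (.leaf [1, 2, 5]) (.leaf [1, 2, 3, 4])) (.leaf [1, 2, 7])) (.leaf [1, 2, 4])))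

def cert4 : Cert :=
  .add [0, 1, 2, 3, 5, 4, 7, 6, 8, 9, 10, 11, 13, 12, 15, 14] (.add [0, 1, 8, 9, 4, 5, 12, 13, 2, 3, 10, 11, 6, 7, 14, 15] (.leaf [1, 2, 4, 6, 7, 8]) (.leaf [1, 2, 4, 6, 7, 8, 12, 13])) (.add [0, 1, 3, 2, 4, 5, 7, 6, 8, 9, 11, 10, 12, 13, 15, 14] (.add [0, 1, 2, 3, 8, 9, 10, 11, 4, 5, 6, 7, 12, 13, 14, 15] (.leaf [1, 2, 4, 6, 7, 8]) (.leaf [1, 2, 4, 6, 7, 8, 10, 11])) (.add [0, 1, 3, 2, 5, 4, 6, 7, 8, 9, 11, 10, 13, 12, 14, 15] (.add [0, 1, 2, 3, 12, 13, 14, 15, 8, 9, 10, 11, 4, 5, 6, 7] (.leaf [1, 2, 4, 5, 6, 8, 10, 11]) (.leaf [1, 2, 3, 4, 8, 10, 12])) (.add [0, 1, 4, 5, 2, 3, 6, 7, 8, 9, 12, 13, 10, 11, 14, 15] (.add [0, 1, 2, 3, 4, 5, 6, 7, 9, 8, 11, 10, 13, 12, 15, 14] (.leaf [1, 2, 4, 8, 10, 11]) (.leaf [1, 2, 3, 4, 7, 8, 9])) (.add [0, 1, 5, 4, 3, 2, 6, 7, 8, 9, 13, 12, 11, 10,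 14, 15] (.add [0, 1, 2, 3, 4, 5, 6, 7, 9, 8, 11, 10, 13, 12, 15, 14] (.leaf [1, 2, 4, 5, 7, 8, 11, 12]) (.leaf [1, 2, 3, 4, 6, 8, 9])) (.leaf [1, 2, 3, 4, 5, 8])))))

def cert5 : Cert :=
  .leaf [1, 2, 3, 4, 7, 8, 9, 14, 16, 22, 25, 30]

def cert6 : Cert :=
  .leaf [1, 2, 4, 6, 7, 8, 9, 16, 29, 32, 52, 54]

def cert7 : Cert :=
  .leaf [1, 2, 4, 8, 15, 16, 29, 32, 58, 64, 65, 113]

theorem cert1_ok : check 1 cert1 [] = true := by decide +kernel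
theorem cert2_ok : check 2 cert2 [] = true := by decide +kernel
theorem cert3_ok : check 3 cert3 [] = true := by decide +kernel
theorem cert4_ok : check 4 cert4 [] = true := by decide +kernel
theorem cert5_ok : check 5 cert5 [] = true := by decide +kernel
theorem cert6_ok : check 6 cert6 [] = true := by decide +kernel
theorem cert7_ok : check 7 cert7 [] = true := by decide +kernel

theorem exists_cert {k : ℕ} (h0 : 0 < k) (h8 : k < 8) : ∃ c : Cert, check k c [] = true := by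
  interval_cases k
  exacts [⟨_, cert1_ok⟩, ⟨_, cert2_ok⟩, ⟨_, cert3_ok⟩, ⟨_, cert4_ok⟩, ⟨_, cert5_ok⟩,
    ⟨_, cert6_ok⟩, ⟨_, cert7_ok⟩]

end Cfsg.Agent.Lib.BaseSize.RigidTwo
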