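/-
In an elementary abelian two-group, a group of automorphisms without elements of order three fixes
some generating set only trivially.
-/
import Cfsg.Agent.Lib.BaseSize.RigidTwoData

set_option autoImplicit false
set_option linter.unusedSectionVars false

open scoped Classical

namespace Cfsg.Agent.Lib.BaseSize.RigidTwo

universe u

variable {X : Type u} [CommGroup X]

/-- The product of the members picked by the bits of `n`. -/
noncomputable def ψ (k : ℕ) (b : ℕ → X) (n : ℕ) : X :=
  ∏ i ∈ Finset.range k, if n.testBit i then b i else 1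

theorem ψ_succ (k : ℕ) (b : ℕ → X) (n : ℕ) :
    ψ (k + 1) b n = ψ k b n * if n.testBit k then b k else 1 :=
  Finset.prod_range_succ _ _

theorem ψ_xor (h2 : ∀ x : X, x * x = 1) (k : ℕ) (b : ℕ → X) (m n : ℕ) :
    ψ k b (m ^^^ n) = ψ k b m * ψ k b n := by
  induction k with
  | zero => simp [ψ]
  | succ k ih =>
    rw [ψ_succ, ψ_succ, ψ_succ, ih, Nat.testBit_xor]
    cases m.testBit k <;> cases n.testBit k
    · simp
    · simp [mul_assoc]
    · simp [mul_right_comm]
    · simp only [bne_self_eq_false, Bool.false_eq_true, if_false, if_true, mul_one]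
      rw [mul_mul_mul_comm, h2, mul_one]

theorem ψ_congr (k : ℕ) (b c : ℕ → X) (h : ∀ i < k, b i = c i) (n : ℕ) : ψ k b n = ψ k c n := by
  refine Finset.prod_congr rfl fun i hi => ?_
  rw [h i (Finset.mem_range.mp hi)]

theorem exists_coords [Finite X] (h2 : ∀ x : X, x * x = 1) :
    ∃ (k : ℕ) (b : ℕ → X), (∀ m < 2 ^ k, ∀ n < 2 ^ k, ψ k b m = ψ k b n → m = n) ∧
      ∀ x, ∃ n < 2 ^ k, ψ k b n = x := by
  haveI := Fintype.ofFinite X
  let P : ℕ → Prop := fun k => ∃ b : ℕ → X, ∀ m < 2 ^ k, ∀ n < 2 ^ k, ψ k b m = ψ k b n → m = n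
  have hP0 : P 0 := ⟨fun _ => 1, fun m hm n hn _ => by simp at hm hn; omega⟩
  have hbound : ∀ k, P k → k ≤ Nat.card X := by
    rintro k ⟨b, hb⟩
    have h1 := Nat.card_le_card_of_injective (fun i : Fin (2 ^ k) => ψ k b i.val)
      (fun i j h => Fin.ext (hb _ i.isLt _ j.isLt h))
    rw [Nat.card_fin] at h1
    exact (Nat.lt_two_pow_self.le).trans h1
  set k := Nat.findGreatest P (Nat.card X) with hk
  have hPk : P k := Nat.findGreatest_spec (Nat.zero_le _) hP0
  obtain ⟨b, hb⟩ := hPk
  refine ⟨k, b, hb, fun x => ?_⟩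
  by_contra hx
  push Not at hx
  let c : ℕ → X := fun i => if i = k then x else b i
  have hc : ∀ n, ψ k c n = ψ k b n := ψ_congr k c b fun i hi => by simp [c, hi.ne]
  have hP1 : P (k + 1) := by
    refine ⟨c, fun m hm n hn h => ?_⟩
    rw [ψ_succ, ψ_succ, hc, hc] at h
    have key : ∀ r < 2 ^ (k + 1), ψ k b r = ψ k b (r % 2 ^ k) := by
      intro r _
      refine Finset.prod_congr rfl fun i hi => ?_
      rw [Nat.testBit_mod_two_pow]
      simp [Finset.mem_range.mp hi]
    rw [key m hm, key n hn] at h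
    have hm' : m % 2 ^ k < 2 ^ k := Nat.mod_lt _ (by positivity)
    have hn' : n % 2 ^ k < 2 ^ k := Nat.mod_lt _ (by positivity)
    have hxor : ∀ a < 2 ^ k, ∀ e < 2 ^ k, ψ k b a * x = ψ k b e → False := by
      intro a ha e he h'
      refine hx (a ^^^ e) (Nat.xor_lt_two_pow ha he) ?_
      rw [ψ_xor h2, ← h', ← mul_assoc, h2, one_mul]
    apply Nat.eq_of_testBit_eq
    intro i
    have hlow : m % 2 ^ k = n % 2 ^ k ∧ m.testBit k = n.testBit k := by
      simp only [c, if_pos rfl] at h
      cases hmk : m.testBit k <;> cases hnk : n.testBit k <;> simp [hmk, hnk] at h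
      · exact ⟨hb _ hm' _ hn' h, rfl⟩
      · exact absurd h.symm (hxor _ hn' _ hm')
      · exact absurd h (hxor _ hm' _ hn')
      · exact ⟨hb _ hm' _ hn' h, rfl⟩
    rcases lt_trichotomy i k with hi | rfl | hi
    · have := congrArg (fun r => r.testBit i) hlow.1
      simpa [Nat.testBit_mod_two_pow, hi] using this
    · exact hlow.2
    · have h2 : 2 ^ (k + 1) ≤ 2 ^ i := Nat.pow_le_pow_right (by norm_num) hi
      rw [Nat.testBit_lt_two_pow (lt_of_lt_of_le hm h2), Nat.testBit_lt_two_pow (lt_of_lt_of_le hn h2)]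
  have := Nat.le_findGreatest (hbound _ hP1) hP1
  omega

/-- Small rank: certificates. -/
theorem exists_set_small (h2 : ∀ x : X, x * x = 1) (H : Subgroup (MulAut X))
    (h3 : ∀ α ∈ H, α ^ 3 = 1 → α = 1) {k : ℕ} {b : ℕ → X}
    (hinj : ∀ m < 2 ^ k, ∀ n < 2 ^ k, ψ k b m = ψ k b n → m = n)
    (hsurj : ∀ x, ∃ n < 2 ^ k, ψ k b n = x) (hk0 : 0 < k) (hk8 : k < 8) :
    ∃ S : Finset X, (1 : X) ∉ S ∧ ∀ α ∈ H, (∀ x ∈ S, α x ∈ S) → α = 1 := by
  choose d hd hψd using hsurj
  have hdψ : ∀ n < 2 ^ k, d (ψ k b n) = n := fun n hn => hinj _ (hd _) _ hn (hψd _)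
  let act : H → ℕ → ℕ := fun a n => d ((a : MulAut X) (ψ k b n))
  have hψact : ∀ a n, ψ k b (act a n) = (a : MulAut X) (ψ k b n) := fun a n => hψd _
  have hext : ∀ a : H, tbl k (act a) = one k → a = 1 := by
    intro a ha
    refine Subtype.ext (MulEquiv.ext fun x => ?_)
    have := congrArg (fun t => List.getD t (d x) 0) ha
    simp only [one, getD_tbl _ (hd x)] at this
    have h := congrArg (ψ k b) this
    rw [hψact, hψd] at h
    simpa using h
  have h1 : tbl k (act 1) = one k := List.map_congr_left fun n hn => by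
    simp [act, hdψ n (List.mem_range.mp hn)]
  have hmul : ∀ a c : H, tbl k (act (a * c)) = mul (tbl k (act a)) (tbl k (act c)) := fun a c => by
    rw [mul_tbl _ _ fun x _ => hd _]
    refine List.map_congr_left fun n _ => ?_
    simp [act, hψd]
  obtain ⟨c, hc⟩ := exists_cert hk0 hk8
  obtain ⟨S, hS, hrig⟩ := sound (k := k) act (fun _ _ _ => hd _)
    (fun a x hx y hy h => hinj x hx y hy ((a : MulAut X).injective (by
      rw [← hψd ((a : MulAut X) (ψ k b x)), ← hψd ((a : MulAut X) (ψ k b y))]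
      exact congrArg (ψ k b) h)))
    (fun a x hx y hy => hinj _ (hd _) _ (Nat.xor_lt_two_pow (hd _) (hd _)) (by
      simp only [act, hψd, ψ_xor h2, map_mul]))
    h1 hmul (fun a => by
      by_contra hne
      simp only [Bool.not_eq_false, three, Bool.and_eq_true, beq_iff_eq, bne_iff_ne] at hne
      apply hne.1
      have hp : ∀ n, tbl k (act (a ^ n)) = powT k (tbl k (act a)) n := by
        intro n
        induction n with
        | zero => rw [pow_zero, h1]; rfl
        | succ n ih => rw [pow_succ', hmul, ih]; rfl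
      have ha3 : (a : MulAut X) ^ 3 = 1 := congrArg Subtype.val (hext (a ^ 3) (by rw [hp]; exact hne.2))
      rw [show a = 1 from Subtype.ext (h3 _ a.2 ha3), h1])
    c [] (by simp) hc
  refine ⟨S.toFinset.image (ψ k b), fun h => ?_, fun α hα hαS => ?_⟩
  · obtain ⟨n, hn, he⟩ := Finset.mem_image.mp h
    obtain ⟨hn0, hnk⟩ := hS n (List.mem_toFinset.mp hn)
    have := hinj n hnk 0 (by positivity) (he.trans (by simp [ψ]))
    omega
  · refine congrArg Subtype.val (hext ⟨α, hα⟩ (hrig ⟨α, hα⟩ fun x hx => ?_))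
    obtain ⟨m, hm, he⟩ := Finset.mem_image.mp
      (hαS _ (Finset.mem_image.mpr ⟨x, List.mem_toFinset.mpr hx, rfl⟩))
    show d (α (ψ k b x)) ∈ S
    rw [← he, hdψ m (hS m (List.mem_toFinset.mp hm)).2]
    exact List.mem_toFinset.mp hm

/-- The subsets fixed by a nontrivial automorphism. -/
theorem card_fixed_sets [Fintype X] (α : MulAut X) (hα : α ≠ 1) :
    ∃ r, (Finset.univ.filter fun S : Finset X => ∀ x, α x ∈ S ↔ x ∈ S).card ≤ 2 ^ r ∧
      4 * r ≤ 3 * Fintype.card X := by
  haveI : Finite (MulAut X) := Finite.of_injective (fun a => (a : X → X)) DFunLike.coe_injective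
  let e := Fintype.equivFin X
  set R := Finset.univ.filter fun x : X => ∀ n : ℕ, e x ≤ e ((α ^ n) x) with hR
  have hrep : ∀ x, ∃ n : ℕ, (α ^ n) x ∈ R := by
    intro x
    obtain ⟨⟨y, n, rfl⟩, -, hmin⟩ := Finset.exists_min_image
      (Finset.univ : Finset {y : X // ∃ n : ℕ, (α ^ n) x = y}) (fun y => e y.1)
      ⟨⟨x, 0, rfl⟩, Finset.mem_univ _⟩
    refine ⟨n, Finset.mem_filter.mpr ⟨Finset.mem_univ _, fun m => ?_⟩⟩
    refine hmin ⟨_, m + n, ?_⟩ (Finset.mem_univ _)
    rw [pow_add, MulAut.mul_apply]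
  have hinv : ∀ S : Finset X, (∀ x, α x ∈ S ↔ x ∈ S) → ∀ (n : ℕ) x, (α ^ n) x ∈ S ↔ x ∈ S := by
    intro S hS n
    induction n with
    | zero => intro x; simp
    | succ n ih => intro x; rw [pow_succ', MulAut.mul_apply, hS, ih]
  have hcard : (Finset.univ.filter fun S : Finset X => ∀ x, α x ∈ S ↔ x ∈ S).card ≤ 2 ^ R.card := by
    rw [← Finset.card_powerset]
    refine Finset.card_le_card_of_injOn (fun S => S ∩ R)
      (fun S _ => Finset.mem_powerset.mpr Finset.inter_subset_right) fun S hS T hT h => ?_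
    have hS' := (Finset.mem_filter.mp hS).2
    have hT' := (Finset.mem_filter.mp hT).2
    ext x
    obtain ⟨n, hn⟩ := hrep x
    rw [← hinv S hS' n x, ← hinv T hT' n x]
    have := congrArg (fun U => (α ^ n) x ∈ U) h
    simpa [hn] using this
  let F : Subgroup X := MonoidHom.eqLocus α.toMonoidHom (MonoidHom.id X)
  have hmemF : ∀ x, x ∈ F ↔ α x = x := fun x => Iff.rfl
  have hFtop : F ≠ ⊤ := fun h => hα (MulEquiv.ext fun x => (hmemF x).mp (h ▸ Subgroup.mem_top x))
  have hF : 2 * (Finset.univ.filter fun x : X => α x = x).card ≤ Fintype.card X := by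
    have h1 : 2 ≤ F.index := by
      have := Subgroup.index_ne_zero_of_finite (H := F)
      have : F.index ≠ 1 := fun h => hFtop (Subgroup.index_eq_one.mp h)
      omega
    have h2 : Nat.card F = (Finset.univ.filter fun x : X => α x = x).card := by
      rw [Nat.card_eq_fintype_card, ← Fintype.card_subtype]
      exact Fintype.card_congr (Equiv.subtypeEquivRight hmemF)
    rw [← h2, ← Nat.card_eq_fintype_card, ← Subgroup.card_mul_index F, mul_comm 2]
    exact Nat.mul_le_mul_left _ h1
  set R' := R.filter fun x => α x ≠ x with hR'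
  have hmove : 2 * R'.card + (Finset.univ.filter fun x : X => α x = x).card ≤ Fintype.card X := by
    have hdisj : Disjoint R' (R'.image α) := by
      rw [Finset.disjoint_left]
      intro y hy hy'
      obtain ⟨x, hx, rfl⟩ := Finset.mem_image.mp hy'
      obtain ⟨hxR, hxne⟩ := Finset.mem_filter.mp hx
      have h1 := (Finset.mem_filter.mp hxR).2 1
      have h2 := (Finset.mem_filter.mp (Finset.mem_filter.mp hy).1).2
      obtain ⟨m, hm⟩ : ∃ m : ℕ, (α ^ m) (α x) = x := by
        obtain ⟨m, hm⟩ : ∃ m, orderOf α = m + 1 := ⟨orderOf α - 1, by have := orderOf_pos α; omega⟩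
        refine ⟨m, ?_⟩
        rw [← MulAut.mul_apply, ← pow_succ, ← hm, pow_orderOf_eq_one, MulAut.one_apply]
      have h3 := h2 m
      rw [hm] at h3
      rw [pow_one] at h1
      exact hxne (e.injective (le_antisymm h3 h1))
    have h1 : (R' ∪ R'.image α).card = 2 * R'.card := by
      rw [Finset.card_union_of_disjoint hdisj, Finset.card_image_of_injective _ α.injective]; ring
    rw [← h1, ← Finset.card_union_of_disjoint]
    · exact Finset.card_le_univ _
    · rw [Finset.disjoint_left]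
      intro y hy hy'
      have hfix := (Finset.mem_filter.mp hy').2
      rcases Finset.mem_union.mp hy with h | h
      · exact (Finset.mem_filter.mp h).2 hfix
      · obtain ⟨x, hx, rfl⟩ := Finset.mem_image.mp h
        exact (Finset.mem_filter.mp hx).2 (α.injective hfix)
  have hsplit : R.card ≤ R'.card + (Finset.univ.filter fun x : X => α x = x).card := by
    refine le_trans (Finset.card_le_card fun x hx => ?_) (Finset.card_union_le _ _)
    by_cases h : α x = x <;> simp [hR', hx, h]
  exact ⟨R.card, hcard, by omega⟩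

/-- Large rank: counting. -/
theorem exists_set_large [Finite X] (h2 : ∀ x : X, x * x = 1) {k : ℕ} {b : ℕ → X}
    (hinj : ∀ m < 2 ^ k, ∀ n < 2 ^ k, ψ k b m = ψ k b n → m = n)
    (hsurj : ∀ x, ∃ n < 2 ^ k, ψ k b n = x) (hk : 8 ≤ k) :
    ∃ S : Finset X, (1 : X) ∉ S ∧ ∀ α : MulAut X, (∀ x ∈ S, α x ∈ S) → α = 1 := by
  haveI := Fintype.ofFinite X
  haveI : Finite (MulAut X) := Finite.of_injective (fun a => (a : X → X)) DFunLike.coe_injective
  haveI := Fintype.ofFinite (MulAut X)
  choose d hd hψd using hsurj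
  have hX : Fintype.card X = 2 ^ k := by
    rw [← Fintype.card_fin (2 ^ k)]
    refine (Fintype.card_congr (Equiv.ofBijective (fun i : Fin (2 ^ k) => ψ k b i.val)
      ⟨fun i j h => Fin.ext (hinj _ i.isLt _ j.isLt h), fun x => ⟨⟨d x, hd x⟩, hψd x⟩⟩)).symm
  have hdet : ∀ α β : MulAut X, (∀ i < k, α (b i) = β (b i)) → α = β := by
    intro α β h
    refine MulEquiv.ext fun x => ?_
    rw [← hψd x]
    simp only [ψ, map_prod]
    refine Finset.prod_congr rfl fun i hi => ?_
    split_ifs
    · exact h i (Finset.mem_range.mp hi)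
    · rw [map_one, map_one]
  have hAut : Fintype.card (MulAut X) ≤ 2 ^ (k * k) := by
    refine le_trans (Fintype.card_le_of_injective (fun α (i : Fin k) => α (b i))
      fun α β h => hdet α β fun i hi => congrFun h ⟨i, hi⟩) ?_
    rw [Fintype.card_fun, Fintype.card_fin, hX, ← pow_mul]
  by_contra hne
  push Not at hne
  let fixd : MulAut X → Finset (Finset X) := fun α =>
    Finset.univ.filter fun S : Finset X => ∀ x, α x ∈ S ↔ x ∈ S
  have hcover : (Finset.univ : Finset (Finset X)) ⊆
      (Finset.univ.filter fun α : MulAut X => α ≠ 1).biUnion fixd := by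
    intro S _
    obtain ⟨α, hα, hα1⟩ := hne (S.erase 1) (Finset.notMem_erase 1 S)
    refine Finset.mem_biUnion.mpr ⟨α, by simp [hα1], Finset.mem_filter.mpr ⟨Finset.mem_univ _, ?_⟩⟩
    have him : (S.erase 1).image α = S.erase 1 := by
      refine Finset.eq_of_subset_of_card_le ?_ (by rw [Finset.card_image_of_injective _ α.injective])
      intro y hy
      obtain ⟨x, hx, rfl⟩ := Finset.mem_image.mp hy
      exact hα x hx
    intro x
    rcases eq_or_ne x 1 with rfl | hx
    · simp
    have hαx : α x ≠ 1 := fun h => hx (α.injective (h.trans (map_one α).symm))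
    constructor
    · intro h
      have h' : α x ∈ (S.erase 1).image α := him.symm ▸ Finset.mem_erase.mpr ⟨hαx, h⟩
      obtain ⟨y, hy, he⟩ := Finset.mem_image.mp h'
      exact α.injective he ▸ (Finset.mem_erase.mp hy).2
    · exact fun h => (Finset.mem_erase.mp (hα x (Finset.mem_erase.mpr ⟨hx, h⟩))).2
  obtain ⟨r, hr⟩ : ∃ r, 4 * r = 2 ^ k := ⟨2 ^ (k - 2), by
    rw [show (4 : ℕ) = 2 ^ 2 by norm_num, ← pow_add, Nat.add_sub_cancel' (by omega)]⟩
  have hsmall : ∀ α ∈ Finset.univ.filter (fun α : MulAut X => α ≠ 1),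
      (fixd α).card ≤ 2 ^ (3 * r) := by
    intro α hα
    obtain ⟨R, h1, h2⟩ := card_fixed_sets α (Finset.mem_filter.mp hα).2
    rw [hX, ← hr] at h2
    exact h1.trans (Nat.pow_le_pow_right (by norm_num) (by omega))
  have h0 := (Finset.card_le_card hcover).trans (Finset.card_biUnion_le_card_mul _ _ _
    hsmall)
  rw [Finset.card_univ, Fintype.card_finset, hX, ← hr] at h0
  have h1 : (Finset.univ.filter fun α : MulAut X => α ≠ 1).card < Fintype.card (MulAut X) := by
    rw [← Finset.card_univ]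
    exact Finset.card_lt_card ⟨Finset.filter_subset _ _, fun h => by simpa using h (Finset.mem_univ (1 : MulAut X))⟩
  have hk2 : ∀ n, 8 ≤ n → 4 * (n * n) ≤ 2 ^ n := by
    intro n hn
    induction n, hn using Nat.le_induction with
    | base => norm_num
    | succ n hn ih => rw [pow_succ]; nlinarith
  have h2' : (Finset.univ.filter fun α : MulAut X => α ≠ 1).card * 2 ^ (3 * r) <
      2 ^ (k * k) * 2 ^ (3 * r) :=
    Nat.mul_lt_mul_of_pos_right (h1.trans_le hAut) (by positivity)
  rw [← pow_add] at h2'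
  have h3 := (Nat.pow_lt_pow_iff_right (one_lt_two (α := ℕ))).mp (lt_of_le_of_lt h0 h2')
  have h4 := hk2 k hk
  omega

/-- A generating set fixed by no nontrivial member of a group of automorphisms without elements
of order three. -/
theorem exists_rigid_set [Finite X] [Nontrivial X] (h2 : ∀ x : X, x * x = 1)
    (H : Subgroup (MulAut X)) (h3 : ∀ α ∈ H, α ^ 3 = 1 → α = 1) :
    ∃ S : Finset X, (1 : X) ∉ S ∧ Subgroup.closure (S : Set X) = ⊤ ∧
      ∀ α ∈ H, (∀ x ∈ S, α x ∈ S) → α = 1 := by
  obtain ⟨k, b, hinj, hsurj⟩ := exists_coords h2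
  have hk0 : 0 < k := by
    by_contra hk
    obtain ⟨x, y, hxy⟩ := exists_pair_ne X
    obtain ⟨m, hm, rfl⟩ := hsurj x
    obtain ⟨n, hn, rfl⟩ := hsurj y
    simp [Nat.eq_zero_of_not_pos hk] at hm hn
    exact hxy (by rw [hm, hn])
  obtain ⟨S, hS1, hS⟩ : ∃ S : Finset X, (1 : X) ∉ S ∧ ∀ α ∈ H, (∀ x ∈ S, α x ∈ S) → α = 1 := by
    by_cases hk8 : k < 8
    · exact exists_set_small h2 H h3 hinj hsurj hk0 hk8
    · obtain ⟨S, hS1, hS⟩ := exists_set_large h2 hinj hsurj (by omega)
      exact ⟨S, hS1, fun α _ h => hS α h⟩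
  by_cases hgen : Subgroup.closure (S : Set X) = ⊤
  · exact ⟨S, hS1, hgen, hS⟩
  haveI := Fintype.ofFinite X
  set K := Subgroup.closure (S : Set X)
  refine ⟨(Finset.univ.filter fun x => x ≠ 1 ∧ x ∉ S), by simp, ?_, fun α hα h => hS α hα ?_⟩
  · rw [eq_top_iff]
    obtain ⟨z, hz⟩ : ∃ z, z ∉ K := by
      by_contra h; push Not at h; exact hgen (eq_top_iff.mpr fun x _ => h x)
    have hout : ∀ y, y ∉ K → y ∈ Subgroup.closure
        ((Finset.univ.filter fun x => x ≠ 1 ∧ x ∉ S : Finset X) : Set X) := fun y hy =>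
      Subgroup.subset_closure (Finset.mem_coe.mpr (Finset.mem_filter.mpr ⟨Finset.mem_univ _,
        fun h => hy (h ▸ one_mem K), fun h => hy (Subgroup.subset_closure h)⟩))
    intro x _
    by_cases hx : x ∈ K
    · have h1 : x * z ∉ K := fun h => hz ((K.mul_mem_cancel_left hx).mp h)
      have h3 := mul_mem (hout _ h1) (hout _ hz)
      rwa [mul_assoc, h2, mul_one] at h3
    · exact hout x hx
  · intro x hx
    by_contra hne
    set T := Finset.univ.filter fun x : X => x ≠ 1 ∧ x ∉ S with hT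
    have hbij : T.image α = T :=
      Finset.eq_of_subset_of_card_le (fun y hy => by
        obtain ⟨z, hz, rfl⟩ := Finset.mem_image.mp hy; exact h z hz)
        (by rw [Finset.card_image_of_injective _ α.injective])
    have hx1 : x ≠ 1 := fun e => hS1 (e ▸ hx)
    have hmem : α x ∈ T := Finset.mem_filter.mpr ⟨Finset.mem_univ _,
      fun e => hx1 (α.injective (e.trans (map_one α).symm)), hne⟩
    rw [← hbij] at hmem
    obtain ⟨y, hy, he⟩ := Finset.mem_image.mp hmem
    exact (Finset.mem_filter.mp hy).2.2 (α.injective he ▸ hx)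

end Cfsg.Agent.Lib.BaseSize.RigidTwo
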