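/-
Three colours for soluble transitive groups of order prime to three.
-/
import Cfsg.Agent.Lib.BaseSize.RigidOdd
import Cfsg.Agent.Lib.BaseSize.RigidTwo

set_option autoImplicit false
set_option linter.unusedSectionVars false
set_option linter.style.haveILetI false

open scoped Classical

namespace Cfsg.Agent.Lib.BaseSize.Colour

universe u

section Pi

variable {k : ℕ} {n : Fin k → ℕ}

/-- A map of the long set into itself fixing the first unit vector is the identity. -/
theorem members_fix (hn : ∀ i, 2 < n i)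
    (α : ((j : Fin k) → Multiplicative (ZMod (n j))) →* ((j : Fin k) → Multiplicative (ZMod (n j))))
    (hα : Function.Injective α)
    (hf : ∀ A ∈ members k, ∃ B ∈ members k, α (∏ i ∈ A, vec i) = ∏ i ∈ B, vec i)
    (hk : 0 < k) (h0 : α (vec ⟨0, hk⟩) = vec ⟨0, hk⟩) : ∀ x, α x = x := by
  have hn1 : ∀ i, 1 < n i := fun i => by have := hn i; omega
  choose π hπm hπ using hf
  have hπinj : ∀ A hA B hB, π A hA = π B hB → A = B := fun A hA B hB h =>
    finset_eq_of_prod_vec hn1 (hα (by rw [hπ A hA, hπ B hB, h]))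
  have hne : ∀ A ∈ members k, A.Nonempty := by
    intro A hA
    rcases mem_members.mp hA with ⟨i, rfl⟩ | ⟨i, -, rfl⟩
    · exact Finset.singleton_nonempty i
    · exact Finset.nonempty_Iic
  -- prefixes go to prefixes
  have hpre : ∀ i : Fin k, (hi : i.val ≠ 0) → ∃ j : Fin k, j.val ≠ 0 ∧
      π (Finset.Iic i) (mem_members.mpr (Or.inr ⟨i, hi, rfl⟩)) = Finset.Iic j := by
    intro i hi
    set i' : Fin k := ⟨i.val - 1, by omega⟩
    obtain ⟨A, hA, hAe⟩ : ∃ A ∈ members k, A = Finset.Iic i' := by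
      by_cases h1 : i'.val = 0
      · refine ⟨{i'}, mem_members.mpr (Or.inl ⟨i', rfl⟩), ?_⟩
        ext a
        simp only [Finset.mem_singleton, Finset.mem_Iic, Fin.le_def, Fin.ext_iff]
        omega
      · exact ⟨_, mem_members.mpr (Or.inr ⟨i', h1, rfl⟩), rfl⟩
    have hB : ({i} : Finset (Fin k)) ∈ members k := mem_members.mpr (Or.inl ⟨i, rfl⟩)
    have hsum : (∏ a ∈ A, (vec a : (j : Fin k) → Multiplicative (ZMod (n j)))) *
        ∏ a ∈ ({i} : Finset (Fin k)), vec a = ∏ a ∈ Finset.Iic i, vec a := by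
      have hd : Disjoint A {i} := by
        rw [hAe, Finset.disjoint_singleton_right, Finset.mem_Iic, Fin.le_def]
        simp only [i']
        omega
      rw [← Finset.prod_union hd]
      congr 1
      rw [hAe]
      ext a
      simp only [Finset.mem_union, Finset.mem_singleton, Finset.mem_Iic, Fin.le_def, Fin.ext_iff,
        i']
      omega
    have h1 := congrArg α hsum
    rw [map_mul, hπ A hA, hπ _ hB, hπ _ (mem_members.mpr (Or.inr ⟨i, hi, rfl⟩))] at h1
    obtain ⟨hd, hu⟩ := union_of_mul hn h1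
    rcases mem_members.mp (hπm (Finset.Iic i) (mem_members.mpr (Or.inr ⟨i, hi, rfl⟩))) with
      ⟨l, hl⟩ | ⟨j, hj, hj'⟩
    · have hc := congrArg Finset.card hu
      rw [hl, Finset.card_singleton, Finset.card_union_of_disjoint hd] at hc
      have h2 := (hne _ (hπm A hA)).card_pos
      have h3 := (hne _ (hπm _ hB)).card_pos
      omega
    · exact ⟨j, hj, hj'⟩
  choose τ hτ0 hτ using hpre
  -- so unit vectors go to unit vectors
  have hvec : ∀ i : Fin k, ∃ l : Fin k,
      π {i} (mem_members.mpr (Or.inl ⟨i, rfl⟩)) = {l} := by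
    intro i
    rcases mem_members.mp (hπm {i} (mem_members.mpr (Or.inl ⟨i, rfl⟩))) with h | ⟨j, hj, hj'⟩
    · exact h
    exfalso
    obtain ⟨⟨a, ha⟩, hja⟩ : ∃ a : {a : Fin k // a.val ≠ 0}, τ a.1 a.2 = j := by
      have hinj : Function.Injective
          (fun a : {a : Fin k // a.val ≠ 0} => (⟨τ a.1 a.2, hτ0 a.1 a.2⟩ : {a : Fin k // a.val ≠ 0})) := by
        intro a b h
        have h1 : τ a.1 a.2 = τ b.1 b.2 := congrArg Subtype.val h
        have h2 := hπinj (Finset.Iic a.1) _ (Finset.Iic b.1) _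
          ((hτ a.1 a.2).trans ((congrArg Finset.Iic h1).trans (hτ b.1 b.2).symm))
        have h3 := congrArg Finset.card h2
        rw [Fin.card_Iic, Fin.card_Iic] at h3
        exact Subtype.ext (Fin.ext (by omega))
      obtain ⟨a, ha⟩ := Finite.surjective_of_injective hinj ⟨j, hj⟩
      exact ⟨a, congrArg Subtype.val ha⟩
    have h1 := congrArg Finset.card (hπinj {i} _ (Finset.Iic a) _ (hj'.trans (hja ▸ hτ a ha).symm))
    rw [Finset.card_singleton, Fin.card_Iic] at h1
    change a.val ≠ 0 at ha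
    omega
  choose σ hσ using hvec
  have hασ : ∀ i, α (vec i) = vec (σ i) := fun i => by
    have := hπ {i} (mem_members.mpr (Or.inl ⟨i, rfl⟩))
    rwa [hσ, Finset.prod_singleton, Finset.prod_singleton] at this
  have hσinj : Function.Injective σ := fun a b h =>
    vec_injective hn1 (hα (by rw [hασ, hασ, h]))
  have hσpre : ∀ i : Fin k, i.val ≠ 0 → (Finset.Iic i).image σ = Finset.Iic i := by
    intro i hi
    have h1 : (Finset.Iic i).image σ = Finset.Iic (τ i hi) := by
      refine finset_eq_of_prod_vec hn1 ?_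
      rw [Finset.prod_image fun a _ b _ h => hσinj h]
      have h2 := hπ (Finset.Iic i) (mem_members.mpr (Or.inr ⟨i, hi, rfl⟩))
      rw [hτ, map_prod] at h2
      simpa [hασ] using h2
    rw [h1]
    congr 1
    have h2 := congrArg Finset.card h1
    rw [Finset.card_image_of_injective _ hσinj, Fin.card_Iic, Fin.card_Iic] at h2
    exact Fin.ext (by omega)
  have hfix : ∀ i : Fin k, 2 ≤ i.val → σ i = i := by
    intro i hi
    set i' : Fin k := ⟨i.val - 1, by omega⟩
    have h1 : σ i ∈ Finset.Iic i := by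
      rw [← hσpre i (by omega)]
      exact Finset.mem_image_of_mem σ (Finset.mem_Iic.mpr le_rfl)
    by_contra hne'
    have h2 : σ i ∈ (Finset.Iic i').image σ := by
      rw [hσpre i' (by simp only [i']; omega), Finset.mem_Iic, Fin.le_def]
      rw [Finset.mem_Iic, Fin.le_def] at h1
      have : (σ i).val ≠ i.val := fun h => hne' (Fin.ext h)
      simp only [i']
      omega
    obtain ⟨a, ha, hai⟩ := Finset.mem_image.mp h2
    rw [hσinj hai, Finset.mem_Iic, Fin.le_def] at ha
    simp only [i'] at ha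
    omega
  have hzero : σ ⟨0, hk⟩ = ⟨0, hk⟩ := vec_injective hn1 ((hασ _).symm.trans h0)
  have hid : ∀ i, σ i = i := by
    intro i
    by_cases hi : 2 ≤ i.val
    · exact hfix i hi
    by_cases hi0 : i.val = 0
    · rw [show i = ⟨0, hk⟩ from Fin.ext hi0, hzero]
    by_contra hne'
    have h1 : (σ i).val ≠ 0 := fun h => hi0 (congrArg Fin.val
      (hσinj (show σ i = σ ⟨0, hk⟩ by rw [hzero]; exact Fin.ext h)))
    have h2 : (σ i).val ≠ i.val := fun h => hne' (Fin.ext h)
    exact hne' (hσinj (hfix (σ i) (by omega)))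
  have : α = MonoidHom.id _ := by
    refine MonoidHom.pi_ext fun i z => ?_
    obtain ⟨m, hm⟩ : ∃ m : ℕ, z = (Multiplicative.ofAdd 1) ^ m := by
      haveI : NeZero (n i) := ⟨by have := hn i; omega⟩
      refine ⟨(Multiplicative.toAdd z).val, ?_⟩
      rw [← ofAdd_nsmul, nsmul_one, ZMod.natCast_zmod_val, ofAdd_toAdd]
    rw [hm, Pi.mulSingle_pow, map_pow]
    show α (vec i) ^ m = (vec i) ^ m
    rw [hασ, hid]
  exact fun x => DFunLike.congr_fun this x

/-- The doubled first unit vector joins the long set: rigid for orders at least five. -/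
theorem exists_rigid_pi (hk : 0 < k) (hn : ∀ i, 4 < n i) :
    ∃ S : Finset ((j : Fin k) → Multiplicative (ZMod (n j))), 1 ∉ S ∧
      ∀ α : ((j : Fin k) → Multiplicative (ZMod (n j))) →* ((j : Fin k) → Multiplicative (ZMod (n j))),
        Function.Injective α → (∀ x ∈ S, α x ∈ S) → ∀ x, α x = x := by
  have hn1 : ∀ i, 1 < n i := fun i => by have := hn i; omega
  have hn2 : ∀ i, 2 < n i := fun i => by have := hn i; omega
  set i₀ : Fin k := ⟨0, hk⟩
  set e : Finset (Fin k) → ((j : Fin k) → Multiplicative (ZMod (n j))) := fun A => ∏ i ∈ A, vec i with he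
  set d := (vec i₀ : (j : Fin k) → Multiplicative (ZMod (n j))) ^ 2 with hd
  have hne : ∀ A ∈ members k, A.Nonempty := by
    intro A hA
    rcases mem_members.mp hA with ⟨i, rfl⟩ | ⟨i, -, rfl⟩
    · exact Finset.singleton_nonempty i
    · exact Finset.nonempty_Iic
  have hcast : ∀ (j : Fin k) (a b : ℕ), a < n j → b < n j → (a : ZMod (n j)) = b → a = b := by
    intro j a b ha hb h
    haveI : NeZero (n j) := ⟨by omega⟩
    have := congrArg ZMod.val h
    rwa [ZMod.val_natCast_of_lt ha, ZMod.val_natCast_of_lt hb] at this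
  have hpow : ∀ (m : ℕ) (A : Finset (Fin k)) j,
      Multiplicative.toAdd ((e A ^ m) j) = ((if j ∈ A then m else 0 : ℕ) : ZMod (n j)) := by
    intro m A j
    rw [Pi.pow_apply, show e A j = (∏ i ∈ A, vec i : (j : Fin k) → Multiplicative (ZMod (n j))) j from rfl,
      prod_vec_apply]
    split_ifs <;> simp
  have hval : ∀ (a b : ℕ) (A B : Finset (Fin k)), a < 5 → b < 5 → e A ^ a = e B ^ b →
      ∀ j, (if j ∈ A then a else 0) = (if j ∈ B then b else 0) := by
    intro a b A B ha hb h j
    refine hcast j _ _ (by split_ifs <;> have := hn j <;> omega)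
      (by split_ifs <;> have := hn j <;> omega) ?_
    rw [← hpow, ← hpow, h]
  have hd' : d = e {i₀} ^ 2 := by rw [hd, he]; simp
  have hsq : ∀ A ∈ members k, e A ^ 2 = d → A = {i₀} := by
    intro A hA h
    ext j
    have := hval 2 2 A {i₀} (by omega) (by omega) (h.trans hd') j
    split_ifs at this <;> simp_all
  have hcross : ∀ A ∈ members k, ∀ B ∈ members k, e A ^ 2 ≠ e B := by
    intro A hA B hB h
    obtain ⟨j, hj⟩ := hne A hA
    have := hval 2 1 A B (by omega) (by omega) (by rw [pow_one]; exact h) j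
    split_ifs at this <;> omega
  refine ⟨insert d ((members k).image e), ?_, fun α hα hS => ?_⟩
  · intro h
    rcases Finset.mem_insert.mp h with h | h
    · have := hval 2 0 {i₀} ∅ (by omega) (by omega) (by rw [← hd', ← h, pow_zero]) i₀
      simp at this
    · obtain ⟨A, hA, hA1⟩ := Finset.mem_image.mp h
      exact (hne A hA).ne_empty (finset_eq_of_prod_vec hn1 (by simpa [he] using hA1))
  have hvm : ({i₀} : Finset (Fin k)) ∈ members k := mem_members.mpr (Or.inl ⟨i₀, rfl⟩)
  have hv0 : e {i₀} = vec i₀ := by rw [he]; simp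
  have hαd : α d = d ∧ α (vec i₀) = vec i₀ := by
    have h1 := hS _ (Finset.mem_insert_of_mem (Finset.mem_image_of_mem e hvm))
    have h2 := hS _ (Finset.mem_insert_self d _)
    have hαd' : α d = α (e {i₀}) ^ 2 := by rw [hd', map_pow]
    rw [hαd'] at h2
    rcases Finset.mem_insert.mp h1 with h1' | h1'
    · exfalso
      rw [h1', hd', ← pow_mul] at h2
      rcases Finset.mem_insert.mp h2 with h2' | h2'
      · have := hval (2 * 2) 2 {i₀} {i₀} (by omega) (by omega) h2' i₀
        simp at this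
      · obtain ⟨B, -, hB⟩ := Finset.mem_image.mp h2'
        have := hval (2 * 2) 1 {i₀} B (by omega) (by omega) (by rw [pow_one]; exact hB.symm) i₀
        simp at this
        split_ifs at this <;> omega
    · obtain ⟨A, hA, hA'⟩ := Finset.mem_image.mp h1'
      rw [← hA'] at h2 hαd'
      rcases Finset.mem_insert.mp h2 with h2' | h2'
      · exact ⟨hαd'.trans h2', by rw [← hv0, ← hA', hsq A hA h2']⟩
      · obtain ⟨B, hB, hB'⟩ := Finset.mem_image.mp h2'
        exact absurd hB'.symm (hcross A hA B hB)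
  refine members_fix hn2 α hα (fun A hA => ?_) hk hαd.2
  rcases Finset.mem_insert.mp (hS _ (Finset.mem_insert_of_mem (Finset.mem_image_of_mem e hA))) with h | h
  · have h' : e A = d := hα (h.trans hαd.1.symm)
    obtain ⟨j, hj⟩ := hne A hA
    have := hval 1 2 A {i₀} (by omega) (by omega) (by rw [pow_one, h', hd']) j
    split_ifs at this <;> omega
  · obtain ⟨B, hB, e'⟩ := Finset.mem_image.mp h
    exact ⟨B, hB, e'.symm⟩

end Pi

/-- A rigid set in an elementary abelian group, for automorphisms without elements of order three. -/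
theorem exists_rigid_three (X : Type u) [CommGroup X] [Finite X] [Nontrivial X] {q : ℕ}
    (hq : q.Prime) (hq3 : q ≠ 3) (hX : ∀ x : X, x ^ q = 1) (H : Subgroup (MulAut X))
    (h3 : ∀ α ∈ H, α ^ 3 = 1 → α = 1) :
    ∃ S : Finset X, (1 : X) ∉ S ∧ ∀ α ∈ H, (∀ x ∈ S, α x ∈ S) → α = 1 := by
  by_cases hq2 : q = 2
  · obtain ⟨S, h1, -, h2⟩ := RigidTwo.exists_rigid_set (fun x => by
      rw [← pow_two]; exact hq2 ▸ hX x) H h3
    exact ⟨S, h1, h2⟩
  obtain ⟨ι, hι, n, hn, ⟨e⟩⟩ := CommGroup.equiv_prod_multiplicative_zmod_of_finite X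
  let eι : Fin (Fintype.card ι) ≃ ι := (Fintype.equivFin ι).symm
  let F : ((i : ι) → Multiplicative (ZMod (n i))) ≃*
      ((i : Fin (Fintype.card ι)) → Multiplicative (ZMod (n (eι i)))) :=
    { (Equiv.piCongrLeft' (fun i => Multiplicative (ZMod (n i))) eι.symm) with
      map_mul' := fun _ _ => rfl }
  let e' := e.trans F
  have hk : 0 < Fintype.card ι := by
    rw [Fintype.card_pos_iff]
    by_contra hne
    rw [not_nonempty_iff] at hne
    obtain ⟨a, b, hab⟩ := exists_pair_ne X
    exact hab (e.injective (Subsingleton.elim _ _))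
  have hn4 : ∀ i, 4 < n (eι i) := by
    intro i
    have h1 := hX (e'.symm (Pi.mulSingle i (Multiplicative.ofAdd 1)))
    rw [← map_pow, ← map_one e'.symm, e'.symm.injective.eq_iff] at h1
    have h2 := congrFun h1 i
    rw [Pi.pow_apply, Pi.mulSingle_eq_same, Pi.one_apply, ← ofAdd_nsmul, ofAdd_eq_one, nsmul_one,
      ZMod.natCast_eq_zero_iff] at h2
    rcases hq.eq_one_or_self_of_dvd _ h2 with h | h
    · have := hn (eι i); omega
    · have h5 := hq.two_le
      have h6 : q ≠ 4 := fun h4 => by rw [h4] at hq; norm_num at hq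
      omega
  obtain ⟨S, hS1, hS⟩ := exists_rigid_pi hk hn4
  refine ⟨S.image e'.symm, fun h => ?_, fun α hα hαS => MulEquiv.ext fun x => e'.injective ?_⟩
  · obtain ⟨y, hy, he⟩ := Finset.mem_image.mp h
    exact hS1 (by rwa [e'.symm.injective (he.trans (map_one e'.symm).symm)] at hy)
  · have := hS ((e'.toMonoidHom.comp α.toMonoidHom).comp e'.symm.toMonoidHom)
      (e'.injective.comp (α.injective.comp e'.symm.injective)) (fun y hy => by
        obtain ⟨z, hz, he⟩ := Finset.mem_image.mp (hαS _ (Finset.mem_image_of_mem _ hy))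
        show e' (α (e'.symm y)) ∈ S
        rwa [← he, MulEquiv.apply_symm_apply]) (e' x)
    simpa using this

/-- Three colourings of a transitive group of order prime to three with an elementary abelian
transitive normal subgroup, regular and in different orbits. -/
theorem three_colourings {Ω : Type u} [Finite Ω] [Nontrivial Ω] (P : Subgroup (Equiv.Perm Ω))
    (hP : ¬ 3 ∣ Nat.card P) (W : Subgroup (Equiv.Perm Ω)) (hWP : W ≤ P)
    (hPW : ∀ g ∈ P, ∀ w ∈ W, g * w * g⁻¹ ∈ W)
    (hW : ∀ a ∈ W, ∀ b ∈ W, a * b = b * a) {q : ℕ} (hq : q.Prime) (hWq : ∀ w ∈ W, w ^ q = 1)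
    (htr : ∀ a b : Ω, ∃ w ∈ W, w a = b) :
    ∃ col : Fin 3 → Ω → Fin 3, ∀ i j, ∀ g ∈ P, (∀ a, col j (g a) = col i a) →
      i = j ∧ g = 1 := by
  obtain ⟨a₀⟩ : Nonempty Ω := inferInstance
  letI : CommGroup W := { (inferInstance : Group W) with
    mul_comm := fun a b => Subtype.ext (hW a a.2 b b.2) }
  have hreg : Function.Bijective (fun w : W => (w : Equiv.Perm Ω) a₀) := by
    refine ⟨fun u v h => Subtype.ext (Equiv.ext fun a => ?_), fun a => ?_⟩
    · obtain ⟨w, hw, rfl⟩ := htr a₀ a
      have h' : (u : Equiv.Perm Ω) a₀ = (v : Equiv.Perm Ω) a₀ := h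
      rw [← Equiv.Perm.mul_apply, ← Equiv.Perm.mul_apply, hW _ u.2 _ hw, hW _ v.2 _ hw,
        Equiv.Perm.mul_apply, Equiv.Perm.mul_apply, h']
    · obtain ⟨w, hw, h⟩ := htr a₀ a
      exact ⟨⟨w, hw⟩, h⟩
  let e : W ≃ Ω := Equiv.ofBijective _ hreg
  haveI : Nontrivial W := e.nontrivial
  have hq3 : q ≠ 3 := by
    intro h
    obtain ⟨w, hw⟩ := exists_ne (1 : W)
    refine hP ?_
    have h1 : orderOf (w : Equiv.Perm Ω) ∣ 3 := orderOf_dvd_of_pow_eq_one (h ▸ hWq w w.2)
    rcases (Nat.dvd_prime Nat.prime_three).mp h1 with h2 | h2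
    · exact absurd (Subtype.ext (orderOf_eq_one_iff.mp h2)) hw
    · exact h2 ▸ Subgroup.orderOf_dvd_natCard P (hWP w.2)
  -- the stabiliser acting on `W`
  let K : Subgroup P := (MulAction.stabilizer (Equiv.Perm Ω) a₀).comap P.subtype
  let ρ : K →* MulAut W :=
    { toFun := fun g =>
        { toFun := fun w => ⟨(g.1 : Equiv.Perm Ω) * w * (g.1 : Equiv.Perm Ω)⁻¹, hPW _ g.1.2 w w.2⟩
          invFun := fun w => ⟨(g.1 : Equiv.Perm Ω)⁻¹ * w * (g.1 : Equiv.Perm Ω), by
            simpa using hPW _ (P.inv_mem g.1.2) w w.2⟩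
          left_inv := fun w => Subtype.ext (by simp [mul_assoc])
          right_inv := fun w => Subtype.ext (by simp [mul_assoc])
          map_mul' := fun u v => Subtype.ext (by simp) }
      map_one' := MulEquiv.ext fun w => Subtype.ext (by simp)
      map_mul' := fun a b => MulEquiv.ext fun w => Subtype.ext (by simp [mul_assoc]) }
  have h3 : ∀ α ∈ ρ.range, α ^ 3 = 1 → α = 1 := by
    rintro α ⟨g, rfl⟩ h
    have h1 := orderOf_dvd_of_pow_eq_one h
    rcases (Nat.dvd_prime Nat.prime_three).mp h1 with h2 | h2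
    · exact orderOf_eq_one_iff.mp h2
    · exact absurd ((h2 ▸ orderOf_map_dvd ρ g).trans ((orderOf_dvd_natCard g).trans
        (Subgroup.card_subgroup_dvd_card K))) hP
  obtain ⟨S, hS1, hS⟩ := exists_rigid_three W hq hq3 (fun w => Subtype.ext (hWq w w.2)) ρ.range h3
  let f : W → Fin 3 := fun w => if w = 1 then 0 else if w ∈ S then 1 else 2
  have hf0 : ∀ w, f w = 0 ↔ w = 1 := fun w => by simp only [f]; split_ifs <;> simp_all
  have hf1 : ∀ w, f w = 1 ↔ w ∈ S := fun w => by
    simp only [f]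
    split_ifs with h1 h2
    · subst h1; simp [hS1]
    · simp [h2]
    · simp [h2]
  have hfb : ¬ Function.Bijective f := fun h => by
    have h1 : Nat.card W = 3 := by rw [Nat.card_congr (Equiv.ofBijective f h), Nat.card_fin]
    exact hP (h1 ▸ Subgroup.card_dvd_of_le hWP)
  refine ⟨fun i a => f (e.symm a) + i, fun i j g hg h => ?_⟩
  have h' : ∀ a, f (e.symm (g a)) = f (e.symm a) + (i - j) := fun a => by
    have := h a
    simp only at this
    rw [← add_sub_assoc, ← this, add_sub_cancel_right]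
  have hij : i = j := by
    by_contra hne
    have hd : i - j ≠ 0 := sub_ne_zero.mpr hne
    apply hfb
    have hφ : ∀ w : W, f (e.symm (g (e w))) = f w + (i - j) := fun w => by
      rw [h', e.symm_apply_apply]
    let φ : Equiv.Perm W := e.trans ((g : Equiv.Perm Ω).trans e.symm)
    have hpow : ∀ (m : ℕ) (w : W), f ((φ ^ m) w) = f w + Fin.ofNat 3 m * (i - j) := by
      intro m
      induction m with
      | zero => intro w; simp [show Fin.ofNat 3 0 = (0 : Fin 3) from rfl]
      | succ m ih =>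
        intro w
        rw [pow_succ, Equiv.Perm.mul_apply, ih, show f (φ w) = f w + (i - j) from hφ w,
          show Fin.ofNat 3 (m + 1) = Fin.ofNat 3 m + 1 from Fin.ext (by simp [Fin.val_add]), add_mul, one_mul]
        abel
    have hcyc : ∀ d : Fin 3, d ≠ 0 → ∀ c : Fin 3, ∃ m : Fin 3, c = m * d := by decide
    refine ⟨fun a b hab => ?_, fun c => ?_⟩
    · obtain ⟨m, hm⟩ := hcyc _ hd (- f a)
      have h1 : ∀ w, f w = f a → (φ ^ (m : ℕ)) w = 1 := fun w hw => by
        rw [← hf0, hpow, hw, Fin.ofNat_val_eq_self, ← hm, add_neg_cancel]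
      exact (φ ^ (m : ℕ)).injective ((h1 a rfl).trans (h1 b hab.symm).symm)
    · obtain ⟨m, hm⟩ := hcyc _ hd c
      refine ⟨(φ ^ (m : ℕ)) 1, ?_⟩
      rw [hpow, (hf0 1).mpr rfl, zero_add, Fin.ofNat_val_eq_self, hm]
  refine ⟨hij, ?_⟩
  subst hij
  simp only [sub_self, add_zero] at h'
  have hfix : g a₀ = a₀ := by
    have h1 := h' a₀
    have h2 : e.symm a₀ = 1 := e.symm_apply_eq.mpr rfl
    rw [h2, (hf0 1).mpr rfl, hf0] at h1
    rw [← h2] at h1
    exact e.symm.injective h1
  let gK : K := ⟨⟨g, hg⟩, hfix⟩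
  have hα : ∀ w : W, e (ρ gK w) = g (e w) := fun w => by
    show (g * (w : Equiv.Perm Ω) * g⁻¹) a₀ = g ((w : Equiv.Perm Ω) a₀)
    have : g⁻¹ a₀ = a₀ := by rw [Equiv.Perm.inv_eq_iff_eq, hfix]
    rw [Equiv.Perm.mul_apply, Equiv.Perm.mul_apply, this]
  have hid := hS (ρ gK) ⟨gK, rfl⟩ fun w hw => by
    rw [← hf1]
    have := h' (e w)
    rw [← hα, e.symm_apply_apply, e.symm_apply_apply, (hf1 w).mpr hw] at this
    exact this
  refine Equiv.ext fun a => ?_
  obtain ⟨w, rfl⟩ := e.surjective a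
  rw [← hα, hid]
  rfl

end Cfsg.Agent.Lib.BaseSize.Colour
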