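/-
Five regular orbits on triples for imprimitive irreducible actions.
-/
import Cfsg.Agent.Lib.BaseSize.Basic
import Cfsg.Agent.Lib.BaseSize.Colour

set_option autoImplicit false
set_option linter.unusedSectionVars false
set_option linter.style.haveILetI false

namespace Cfsg.Agent.Lib.BaseSize

universe u v

variable {G : Type u} [Group G] {V : Type v} [AddCommGroup V] [DistribMulAction G V]

/-- No proper nonzero invariant subgroup. -/
def Irr (G : Type u) [Group G] (V : Type v) [AddCommGroup V] [DistribMulAction G V] : Prop :=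
  ∀ U : AddSubgroup V, (∀ (g : G), ∀ w ∈ U, g • w ∈ U) → U = ⊥ ∨ U = ⊤

/-- A system of imprimitivity. -/
structure Sys (G : Type u) [Group G] (V : Type v) [AddCommGroup V] [DistribMulAction G V] {m : ℕ}
    (D : Fin m → AddSubgroup V) : Prop where
  two_le : 2 ≤ m
  ne_bot : ∀ i, D i ≠ ⊥
  indep : iSupIndep D
  top : iSup D = ⊤
  perm : ∀ (g : G) (i : Fin m), ∃ j, ∀ w ∈ D i, g • w ∈ D j

namespace Sys

variable {m : ℕ} {D : Fin m → AddSubgroup V}

theorem sum_eq_zero (hD : Sys G V D) (y : (i : Fin m) → D i) (h : ∑ i, (y i : V) = 0) : y = 0 := by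
  classical
  funext i
  apply Subtype.ext
  show (y i : V) = 0
  have h1 : (y i : V) = - ∑ j ∈ Finset.univ.erase i, (y j : V) := by
    rw [eq_neg_iff_add_eq_zero, Finset.add_sum_erase _ (fun j => (y j : V)) (Finset.mem_univ i), h]
  have h2 : (y i : V) ∈ ⨆ (j : Fin m) (_ : j ≠ i), D j := by
    rw [h1]
    refine neg_mem (sum_mem fun j hj => ?_)
    exact AddSubgroup.mem_iSup_of_mem j (AddSubgroup.mem_iSup_of_mem (Finset.mem_erase.mp hj).1 (y j).2)
  have := disjoint_iff_inf_le.mp (hD.indep i) ⟨(y i).2, h2⟩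
  simpa using this

theorem eq_of_sum (hD : Sys G V D) (y z : (i : Fin m) → D i)
    (h : ∑ i, (y i : V) = ∑ i, (z i : V)) : y = z :=
  sub_eq_zero.mp (hD.sum_eq_zero (y - z) (by simp [h]))

theorem exists_sum (_hD : Sys G V D) (S : Set (Fin m)) {x : V} (hx : x ∈ ⨆ i ∈ S, D i) :
    ∃ y : (i : Fin m) → D i, (∀ i ∉ S, y i = 0) ∧ ∑ i, (y i : V) = x := by
  classical
  induction hx using AddSubgroup.iSup_induction' with
  | h1 => exact ⟨0, fun _ _ => rfl, by simp⟩
  | hadd a b _ _ ha hb =>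
    obtain ⟨y, hy, rfl⟩ := ha
    obtain ⟨z, hz, rfl⟩ := hb
    exact ⟨y + z, fun i hi => by rw [Pi.add_apply, hy i hi, hz i hi, add_zero],
      by simp [Finset.sum_add_distrib]⟩
  | hp i x hx =>
    by_cases hi : i ∈ S
    · rw [iSup_pos hi] at hx
      refine ⟨Pi.single i ⟨x, hx⟩, fun j hj => Pi.single_eq_of_ne (fun (e : j = i) => hj (by rw [e]; exact hi)) _, ?_⟩
      rw [Finset.sum_eq_single i]
      · simp
      · intro j _ hj; simp [Pi.single_eq_of_ne hj]
      · simp
    · rw [iSup_neg hi, AddSubgroup.mem_bot] at hx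
      exact ⟨0, fun _ _ => rfl, by simp [hx]⟩

theorem eq_of_mem (hD : Sys G V D) {w : V} (hw : w ≠ 0) {i j : Fin m} (hi : w ∈ D i)
    (hj : w ∈ D j) : i = j := by
  by_contra hne
  have hmem : w ∈ D i ⊓ ⨆ (k : Fin m) (_ : k ≠ i), D k := AddSubgroup.mem_inf.mpr
    ⟨hi, AddSubgroup.mem_iSup_of_mem j (AddSubgroup.mem_iSup_of_mem (Ne.symm hne) hj)⟩
  exact hw (by simpa using disjoint_iff_inf_le.mp (hD.indep i) hmem)

/-- The permutation of the members. -/
noncomputable def idx (hD : Sys G V D) (g : G) (i : Fin m) : Fin m := (hD.perm g i).choose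

theorem idx_spec (hD : Sys G V D) (g : G) (i : Fin m) {w : V} (hw : w ∈ D i) :
    g • w ∈ D (hD.idx g i) := (hD.perm g i).choose_spec w hw

theorem exists_ne (hD : Sys G V D) (i : Fin m) : ∃ w ∈ D i, w ≠ 0 := by
  by_contra h
  push Not at h
  exact hD.ne_bot i ((AddSubgroup.eq_bot_iff_forall _).mpr h)

theorem idx_eq (hD : Sys G V D) {g : G} {i j : Fin m} {w : V} (hw : w ≠ 0) (hi : w ∈ D i)
    (hj : g • w ∈ D j) : hD.idx g i = j :=
  hD.eq_of_mem (fun h => hw ((smul_eq_zero_iff_eq g).mp h)) (hD.idx_spec g i hi) hj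

theorem idx_one (hD : Sys G V D) (i : Fin m) : hD.idx 1 i = i := by
  obtain ⟨w, hw, hw0⟩ := hD.exists_ne i
  exact hD.idx_eq hw0 hw (by rwa [one_smul])

theorem idx_mul (hD : Sys G V D) (g h : G) (i : Fin m) :
    hD.idx (g * h) i = hD.idx g (hD.idx h i) := by
  obtain ⟨w, hw, hw0⟩ := hD.exists_ne i
  exact hD.idx_eq hw0 hw (by rw [mul_smul]; exact hD.idx_spec g _ (hD.idx_spec h i hw))

/-- The action on the members. -/
noncomputable def toPerm (hD : Sys G V D) : G →* Equiv.Perm (Fin m) where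
  toFun g :=
    { toFun := hD.idx g
      invFun := hD.idx g⁻¹
      left_inv := fun i => by rw [← hD.idx_mul, inv_mul_cancel, hD.idx_one]
      right_inv := fun i => by rw [← hD.idx_mul, mul_inv_cancel, hD.idx_one] }
  map_one' := Equiv.ext hD.idx_one
  map_mul' g h := Equiv.ext (hD.idx_mul g h)

theorem toPerm_apply (hD : Sys G V D) (g : G) (i : Fin m) : hD.toPerm g i = hD.idx g i := rfl

theorem pretransitive (hD : Sys G V D) (hirr : Irr G V) (i j : Fin m) :
    ∃ g : G, hD.idx g i = j := by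
  classical
  by_contra hne
  push Not at hne
  set S : Set (Fin m) := {k | ∃ g : G, hD.idx g i = k}
  have hinv : ∀ (g : G), ∀ w ∈ (⨆ k ∈ S, D k), g • w ∈ ⨆ k ∈ S, D k := by
    intro g
    have : (⨆ k ∈ S, D k) ≤ (⨆ k ∈ S, D k).comap (DistribSMul.toAddMonoidHom V g) :=
      iSup₂_le fun k hk w hw => AddSubgroup.mem_iSup_of_mem (hD.idx g k)
        (AddSubgroup.mem_iSup_of_mem (by
          obtain ⟨g', rfl⟩ := hk
          exact ⟨g * g', hD.idx_mul g g' i⟩) (hD.idx_spec g k hw))
    exact fun w hw => this hw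
  obtain ⟨w, hw, hw0⟩ := hD.exists_ne i
  have hiS : i ∈ S := ⟨1, hD.idx_one i⟩
  rcases hirr _ hinv with h | h
  · exact hw0 ((AddSubgroup.eq_bot_iff_forall _).mp h w
      (AddSubgroup.mem_iSup_of_mem i (AddSubgroup.mem_iSup_of_mem hiS hw)))
  · obtain ⟨u, hu, hu0⟩ := hD.exists_ne j
    have hdis := disjoint_iff_inf_le.mp
      (hD.indep.disjoint_biSup (x := j) (y := S) (fun ⟨g, hg⟩ => hne g hg))
    exact hu0 (by simpa using hdis (AddSubgroup.mem_inf.mpr ⟨hu, h ▸ AddSubgroup.mem_top u⟩))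

/-- A normal subgroup of the group of permutations moving something gives a coarser system unless it
is transitive. -/
theorem transitive_of_normal (hD : Sys G V D) (hirr : Irr G V)
    (hmin : ∀ (m' : ℕ) (D' : Fin m' → AddSubgroup V), Sys G V D' → m ≤ m')
    (W : Subgroup (Equiv.Perm (Fin m))) (hW : W ≠ ⊥)
    (hn : ∀ (g : G), ∀ w ∈ W, hD.toPerm g * w * (hD.toPerm g)⁻¹ ∈ W) :
    ∀ a b : Fin m, ∃ w ∈ W, w a = b := by
  classical
  let r : Setoid (Fin m) :=
    { r := fun a b => ∃ w ∈ W, w a = b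
      iseqv := ⟨fun a => ⟨1, one_mem _, rfl⟩,
        fun {a b} ⟨w, hw, h⟩ => ⟨w⁻¹, inv_mem hw, by rw [← h]; simp⟩,
        fun {a b c} ⟨w, hw, h⟩ ⟨w', hw', h'⟩ => ⟨w' * w, mul_mem hw' hw, by
          rw [Equiv.Perm.mul_apply, h, h']⟩⟩ }
  intro a b
  by_contra hab
  let Q := Quotient r
  haveI : Fintype Q := Fintype.ofFinite Q
  let e : Fin (Fintype.card Q) ≃ Q := (Fintype.equivFin Q).symm
  let D' : Fin (Fintype.card Q) → AddSubgroup V := fun q =>
    ⨆ k ∈ {k : Fin m | Quotient.mk r k = e q}, D k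
  have hlt : Fintype.card Q < m := by
    have := Fintype.card_lt_of_surjective_not_injective (Quotient.mk r) Quotient.mk_surjective
      fun hinj => hW ((Subgroup.eq_bot_iff_forall _).mpr fun w hw => Equiv.ext fun k =>
        (hinj (Quotient.sound (s := r) ⟨w, hw, rfl⟩)).symm)
    rwa [Fintype.card_fin] at this
  have hsys : Sys G V D' := by
    refine ⟨?_, fun q hq => ?_, fun q => ?_, ?_, fun g q => ?_⟩
    · by_contra h
      haveI : Subsingleton Q := Fintype.card_le_one_iff_subsingleton.mp (by omega)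
      exact hab (Quotient.exact (Subsingleton.elim (Quotient.mk r a) (Quotient.mk r b)))
    · obtain ⟨k, hk⟩ := Quotient.mk_surjective (e q)
      obtain ⟨w, hw, hw0⟩ := hD.exists_ne k
      exact hw0 ((AddSubgroup.eq_bot_iff_forall _).mp hq w
        (AddSubgroup.mem_iSup_of_mem k (AddSubgroup.mem_iSup_of_mem hk hw)))
    · rw [disjoint_iff_inf_le]
      rintro x ⟨hx1, hx2⟩
      have hx2' : x ∈ ⨆ k ∈ {k : Fin m | Quotient.mk r k ≠ e q}, D k := by
        refine (iSup₂_le fun q' hq' => ?_ : (⨆ (q' : Fin (Fintype.card Q)) (_ : q' ≠ q), D' q') ≤ _) hx2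
        exact iSup₂_le fun k hk => le_iSup₂_of_le k (fun h => hq' (e.injective (hk.symm.trans h))) le_rfl
      obtain ⟨y, hy, hyx⟩ := hD.exists_sum _ hx1
      obtain ⟨z, hz, hzx⟩ := hD.exists_sum _ hx2'
      have hyz := hD.eq_of_sum y z (hyx.trans hzx.symm)
      rw [AddSubgroup.mem_bot, ← hyx]
      refine Finset.sum_eq_zero fun k _ => ?_
      by_cases hk : Quotient.mk r k = e q
      · rw [hyz, hz k (fun h => h hk)]; rfl
      · rw [hy k hk]; rfl
    · rw [eq_top_iff, ← hD.top]
      refine iSup_le fun k => le_iSup_of_le (e.symm (Quotient.mk r k)) ?_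
      exact le_iSup₂_of_le k (e.apply_symm_apply _).symm le_rfl
    · obtain ⟨k₀, hk₀⟩ := Quotient.mk_surjective (e q)
      refine ⟨e.symm (Quotient.mk r (hD.idx g k₀)), fun w hw => ?_⟩
      refine (iSup₂_le fun k hk u hu => ?_ :
        D' q ≤ (D' (e.symm (Quotient.mk r (hD.idx g k₀)))).comap (DistribSMul.toAddMonoidHom V g)) hw
      refine AddSubgroup.mem_iSup_of_mem (hD.idx g k) (AddSubgroup.mem_iSup_of_mem ?_ (hD.idx_spec g k hu))
      show Quotient.mk r (hD.idx g k) = e (e.symm _)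
      rw [Equiv.apply_symm_apply]
      refine Quotient.sound (s := r) ?_
      obtain ⟨w', hw', hwk⟩ := Quotient.exact (s := r) (hk.trans hk₀.symm)
      refine ⟨_, hn g w' hw', ?_⟩
      rw [← hwk, ← hD.toPerm_apply, ← hD.toPerm_apply, Equiv.Perm.mul_apply, Equiv.Perm.mul_apply,
        Equiv.Perm.inv_def, Equiv.symm_apply_apply]
  exact absurd (hmin _ D' hsys) (by omega)

end Sys

/-- Orbits of families of `r` vectors, one for each colour, fixed only by elements acting
trivially. -/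
def Many (r : ℕ) (C : Type*) (G : Type u) [Group G] (V : Type v) [AddCommGroup V]
    [DistribMulAction G V] : Prop :=
  ∃ t : C → Fin r → V, ∀ i j, ∀ g : G, (∀ k, g • t i k = t j k) → i = j ∧ ∀ w : V, g • w = w

open Sys in
/-- The imprimitive step: colour the members by orbits of the stabiliser of one of them. -/
theorem many_of_sys [Finite G] [Finite V] (hirr : Irr G V) {m : ℕ} {D : Fin m → AddSubgroup V}
    (hD : Sys G V D) {r : ℕ} {C ι : Type*} (col : ι → Fin m → C)
    (hcol : ∀ i j, ∀ g ∈ hD.toPerm.range, (∀ a, col j (g a) = col i a) → i = j ∧ g = 1)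
    (hIH : ∀ (H : Subgroup G) (U : AddSubgroup V) [DistribMulAction H U] [Nontrivial U],
      Nat.card U < Nat.card V → Irr H U → Many r C H U) :
    Many r ι G V := by
  classical
  have hm := hD.two_le
  set i₀ : Fin m := ⟨0, by omega⟩
  set π := hD.toPerm
  let P := π.range
  haveI : Nontrivial (Fin m) := Fin.nontrivial_iff_two_le.mpr hm
  -- the stabiliser of one member
  let H : Subgroup G := (MulAction.stabilizer (Equiv.Perm (Fin m)) i₀).comap π
  have hH : ∀ h : H, ∀ w ∈ D i₀, (h : G) • w ∈ D i₀ := fun h w hw => by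
    have h1 := hD.idx_spec (h : G) i₀ hw
    rwa [show hD.idx (h : G) i₀ = i₀ from h.2] at h1
  letI : DistribMulAction H (D i₀) :=
    { smul := fun h w => ⟨(h : G) • (w : V), hH h w w.2⟩
      one_smul := fun w => Subtype.ext (one_smul G (w : V))
      mul_smul := fun a b w => Subtype.ext (mul_smul (a : G) b (w : V))
      smul_zero := fun a => Subtype.ext (smul_zero (a : G))
      smul_add := fun a x y => Subtype.ext (smul_add (a : G) (x : V) y) }
  choose g hg using fun i => hD.pretransitive hirr i₀ i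
  have hcoset : ∀ (x : G) (i : Fin m), (g (hD.idx x i))⁻¹ * x * g i ∈ H := by
    intro x i
    show π ((g (hD.idx x i))⁻¹ * x * g i) i₀ = i₀
    rw [map_mul, map_mul, map_inv, Equiv.Perm.mul_apply, Equiv.Perm.mul_apply,
      show π (g i) i₀ = i from hg i, Equiv.Perm.inv_eq_iff_eq]
    exact (hg _).symm
  have hbig : ∀ w : V, w ∈ D i₀ → ∀ x : G, ∀ i, x • g i • w = g (hD.idx x i) •
      ((g (hD.idx x i))⁻¹ * x * g i) • w := by
    intro w _ x i
    rw [smul_smul, smul_smul]
    congr 1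
    group
  haveI : Nontrivial (D i₀) := (AddSubgroup.nontrivial_iff_ne_bot _).mpr (hD.ne_bot i₀)
  have hlt : Nat.card (D i₀) < Nat.card V := by
    refine lt_of_le_of_ne (Nat.card_le_card_of_injective _ Subtype.val_injective) fun h => ?_
    have htop := AddSubgroup.eq_top_of_card_eq _ h
    obtain ⟨j, hj⟩ := exists_ne i₀
    obtain ⟨w, hw, hw0⟩ := hD.exists_ne j
    exact hj (hD.eq_of_mem hw0 hw (htop ▸ AddSubgroup.mem_top w))
  have hirrH : Irr H (D i₀) := by
    intro U hU
    by_contra hne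
    push Not at hne
    set U' := U.map (D i₀).subtype
    let big : AddSubgroup V := ⨆ i, U'.map (DistribSMul.toAddMonoidHom V (g i))
    have hbinv : ∀ x : G, ∀ w ∈ big, x • w ∈ big := by
      intro x
      have : big ≤ big.comap (DistribSMul.toAddMonoidHom V x) := by
        refine iSup_le fun i => ?_
        rintro _ ⟨_, ⟨u, hu, rfl⟩, rfl⟩
        refine AddSubgroup.mem_iSup_of_mem (hD.idx x i)
          ⟨_, ⟨(⟨_, hcoset x i⟩ : H) • u, hU _ u hu, rfl⟩, ?_⟩
        exact (hbig u u.2 x i).symm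
      exact fun w hw => this hw
    rcases hirr big hbinv with h | h
    · obtain ⟨u, hu, hu0⟩ : ∃ u ∈ U, u ≠ 0 := by
        by_contra h'
        push Not at h'
        exact hne.1 ((AddSubgroup.eq_bot_iff_forall _).mpr h')
      have h0 := (AddSubgroup.eq_bot_iff_forall _).mp h _ (AddSubgroup.mem_iSup_of_mem i₀
        ⟨_, ⟨u, hu, rfl⟩, rfl⟩)
      exact hu0 (Subtype.ext ((smul_eq_zero_iff_eq (g i₀)).mp h0))
    · refine hne.2 (eq_top_iff.mpr fun u _ => ?_)
      have hmem : (g i₀ • (u : V)) ∈ big := h ▸ AddSubgroup.mem_top _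
      have hle : big ≤ U'.map (DistribSMul.toAddMonoidHom V (g i₀)) ⊔
          ⨆ (j : Fin m) (_ : j ≠ i₀), D j := by
        refine iSup_le fun i => ?_
        by_cases hi : i = i₀
        · subst hi; exact le_sup_left
        · refine le_sup_of_le_right (le_iSup₂_of_le i hi ?_)
          rintro _ ⟨_, ⟨v, -, rfl⟩, rfl⟩
          have := hD.idx_spec (g i) i₀ v.2
          rwa [hg i] at this
      obtain ⟨a, ha, b, hb, hab⟩ := AddSubgroup.mem_sup.mp (hle hmem)
      obtain ⟨_, ⟨v, hv, rfl⟩, rfl⟩ := ha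
      have hdiff : g i₀ • ((u : V) - (v : V)) ∈ D i₀ := by
        have := hD.idx_spec (g i₀) i₀ ((D i₀).sub_mem u.2 v.2)
        rwa [hg i₀] at this
      have hb' : g i₀ • ((u : V) - (v : V)) = b := by
        rw [smul_sub, ← hab]; exact add_sub_cancel_left _ _
      have hzero : b = 0 := by
        simpa using (disjoint_iff_inf_le.mp (hD.indep i₀)) (AddSubgroup.mem_inf.mpr ⟨hb' ▸ hdiff, hb⟩)
      rw [hzero, smul_eq_zero_iff_eq, sub_eq_zero] at hb'
      rwa [show u = v from Subtype.ext hb']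
  obtain ⟨s, hs⟩ := hIH H (D i₀) hlt hirrH
  refine ⟨fun c k => ∑ i, g i • ((s (col c i) k : D i₀) : V), fun c c' x hx => ?_⟩
  have hcomp : ∀ k i, (((⟨_, hcoset x i⟩ : H) • s (col c i) k : D i₀) : V) =
      ((s (col c' (hD.idx x i)) k : D i₀) : V) := by
    intro k
    have hmem : ∀ j (w : D i₀), g j • (w : V) ∈ D j := fun j w => by
      have := hD.idx_spec (g j) i₀ w.2
      rwa [hg j] at this
    let y : (j : Fin m) → D j := fun j =>
      ⟨_, hmem j ((⟨_, hcoset x ((π x).symm j)⟩ : H) • s (col c ((π x).symm j)) k)⟩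
    let z : (j : Fin m) → D j := fun j => ⟨_, hmem j (s (col c' j) k)⟩
    have hyz : y = z := by
      refine hD.eq_of_sum y z (Eq.trans ?_ (hx k))
      rw [Finset.smul_sum, ← Equiv.sum_comp (π x)]
      refine Finset.sum_congr rfl fun i _ => ?_
      show g (π x i) • (((g (hD.idx x ((π x).symm (π x i))))⁻¹ * x * g ((π x).symm (π x i))) •
        ((s (col c ((π x).symm (π x i))) k : D i₀) : V)) = x • g i • _
      rw [Equiv.symm_apply_apply]
      exact (hbig _ (s (col c i) k).2 x i).symm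
    intro i
    have h1 := congrArg Subtype.val (congrFun hyz (π x i))
    simp only [y, z, Equiv.symm_apply_apply] at h1
    exact MulAction.injective (g (π x i)) h1
  have hall : ∀ i, col c i = col c' (hD.idx x i) ∧
      ∀ w : D i₀, (((g (hD.idx x i))⁻¹ * x * g i) • (w : V)) = w := by
    intro i
    obtain ⟨h1, h2⟩ := hs (col c i) (col c' (hD.idx x i)) ⟨_, hcoset x i⟩
      fun k => Subtype.ext (hcomp k i)
    exact ⟨h1, fun w => congrArg Subtype.val (h2 w)⟩
  obtain ⟨hcc, hπ⟩ := hcol c c' (π x) ⟨x, rfl⟩ fun i => (hall i).1.symm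
  refine ⟨hcc, fun w => ?_⟩
  have hfix : (⊤ : AddSubgroup V) ≤
      AddMonoidHom.eqLocus (DistribSMul.toAddMonoidHom V x) (AddMonoidHom.id V) := by
    rw [← hD.top]
    refine iSup_le fun i u hu => ?_
    show x • u = u
    have hu₀ : (g i)⁻¹ • u ∈ D i₀ := by
      have h1 := hD.idx_spec (g i)⁻¹ i hu
      have h2 : hD.idx ((g i)⁻¹ * g i) i₀ = i₀ := by rw [inv_mul_cancel, hD.idx_one]
      rw [hD.idx_mul, hg i] at h2
      rwa [h2] at h1
    have hxi : hD.idx x i = i := Equiv.congr_fun hπ i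
    have h2 := (hall i).2 ⟨_, hu₀⟩
    simp only [hxi] at h2
    rw [mul_smul, mul_smul, smul_inv_smul, inv_smul_eq_iff, smul_inv_smul] at h2
    exact h2
  exact hfix (AddSubgroup.mem_top w)


open Sys in
/-- The imprimitive step. -/
theorem five_of_sys [Finite G] [Finite V] (hsol : Group.IsSolvable G) (hirr : Irr G V) {m : ℕ}
    {D : Fin m → AddSubgroup V} (hD : Sys G V D)
    (hmin : ∀ (m' : ℕ) (D' : Fin m' → AddSubgroup V), Sys G V D' → m ≤ m')
    (hIH : ∀ (H : Type u) [Group H] [Finite H] (U : Type v) [AddCommGroup U] [DistribMulAction H U]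
      [Finite U] [Nontrivial U], Group.IsSolvable H → Irr H U → Nat.card U < Nat.card V → Five H U) :
    Five G V := by
  classical
  have hm := hD.two_le
  set i₀ : Fin m := ⟨0, by omega⟩
  set π := hD.toPerm
  let P := π.range
  haveI : Nontrivial (Fin m) := Fin.nontrivial_iff_two_le.mpr hm
  -- an abelian normal subgroup of the permutation group
  haveI := hsol
  have hPsol : Group.IsSolvable P := Group.isSolvable_of_surjective π.rangeRestrict_surjective
  have hPne : P ≠ ⊥ := by
    intro h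
    obtain ⟨a, b, hab⟩ := exists_pair_ne (Fin m)
    obtain ⟨g, hg⟩ := hD.pretransitive hirr a b
    have : π g = 1 := (Subgroup.eq_bot_iff_forall _).mp h _ ⟨g, rfl⟩
    rw [← hD.toPerm_apply] at hg
    exact hab (by simpa [π] using (Equiv.congr_fun this a).symm.trans hg)
  obtain ⟨n, hn⟩ := (Group.isSolvable_def P).1 hPsol
  have hex : ∃ n, derivedSeries P n = ⊥ := ⟨n, hn⟩
  obtain ⟨k, hk⟩ : ∃ k, Nat.find hex = k + 1 := by
    refine ⟨Nat.find hex - 1, ?_⟩
    have : Nat.find hex ≠ 0 := by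
      intro h0
      have h1 := Nat.find_spec hex
      rw [h0, derivedSeries_zero] at h1
      exact hPne (by rw [← P.range_subtype, MonoidHom.range_eq_map, h1, Subgroup.map_bot])
    omega
  have hne : derivedSeries P k ≠ ⊥ := Nat.find_min hex (by omega)
  have hab : ⁅derivedSeries P k, derivedSeries P k⁆ = ⊥ := by
    have := Nat.find_spec hex
    rwa [hk, derivedSeries_succ] at this
  let W := (derivedSeries P k).map P.subtype
  have hWne : W ≠ ⊥ := fun h => hne ((Subgroup.map_eq_bot_iff_of_injective _ P.subtype_injective).mp h)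
  have hWn : ∀ g ∈ P, ∀ w ∈ W, g * w * g⁻¹ ∈ W := by
    rintro g hg _ ⟨w, hw, rfl⟩
    exact ⟨⟨g, hg⟩ * w * ⟨g, hg⟩⁻¹, (derivedSeries_normal P k).conj_mem w hw _, rfl⟩
  have hWc : ∀ a ∈ W, ∀ b ∈ W, a * b = b * a := by
    rintro _ ⟨a, ha, rfl⟩ _ ⟨b, hb, rfl⟩
    have := Subgroup.commutator_mem_commutator ha hb
    rw [hab, Subgroup.mem_bot, commutatorElement_eq_one_iff_mul_comm] at this
    exact congrArg Subtype.val this
  obtain ⟨col, hcol⟩ := Colour.five_colourings P W hWn hWc
    (hD.transitive_of_normal hirr hmin W hWne fun g w hw => hWn _ ⟨g, rfl⟩ w hw)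
  refine many_of_sys hirr hD col hcol fun H U _ _ hlt hU => ?_
  exact hIH H U inferInstance hU hlt

end Cfsg.Agent.Lib.BaseSize
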