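/-
The structure of a primitive maximal soluble linear group.
-/
import Cfsg.Agent.Lib.BaseSize.Imprimitive
import Cfsg.Agent.Lib.Spectrum.PrimitiveSoluble
import Mathlib.RingTheory.IntegralDomain
import Mathlib.Data.Nat.Squarefree

set_option autoImplicit false
set_option linter.unusedSectionVars false
set_option linter.style.haveILetI false

open scoped commutatorElement Pointwise

namespace Cfsg.Agent.Lib.BaseSize

universe u

section Endo

variable {p : ℕ} {V : Type u} [AddCommGroup V] [Module (ZMod p) V]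

/-- The endomorphism of an element. -/
def endo (G : Subgroup (V ≃ₗ[ZMod p] V)) : G →* Module.End (ZMod p) V :=
  (LinearEquiv.automorphismGroup.toLinearMapMonoidHom).comp G.subtype

@[simp] theorem endo_apply (G : Subgroup (V ≃ₗ[ZMod p] V)) (g : G) (v : V) :
    endo G g v = g • v := rfl

theorem endo_injective (G : Subgroup (V ≃ₗ[ZMod p] V)) : Function.Injective (endo G) :=
  fun _ _ h => Subtype.ext (LinearEquiv.toLinearMap_injective h)

theorem prod_mem_normal {Γ : Type*} [Group Γ] (G U : Subgroup Γ)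
    (hn : ∀ g ∈ G, ∀ u ∈ U, g * u * g⁻¹ ∈ U) [Group.IsSolvable G] [Group.IsSolvable U] :
    ∃ S : Subgroup Γ, G ≤ S ∧ U ≤ S ∧ Group.IsSolvable S := by
  let S := G ⊔ U
  have hS : S ≤ Subgroup.normalizer (U : Set Γ) := by
    refine sup_le (fun g hg => Subgroup.mem_normalizer_iff.mpr fun u => ⟨hn g hg u, fun h => ?_⟩)
      Subgroup.le_normalizer
    have := hn g⁻¹ (inv_mem hg) _ h
    simpa [mul_assoc] using this
  haveI hUn : (U.subgroupOf S).Normal := Subgroup.normal_subgroupOf_of_le_normalizer hS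
  haveI : Group.IsSolvable (U.subgroupOf S) :=
    Group.isSolvable_of_isSolvable_injective (f := (Subgroup.subgroupOfEquivOfLe (le_sup_right : U ≤ S)).toMonoidHom)
      (MulEquiv.injective _)
  let f : G →* S ⧸ U.subgroupOf S :=
    (QuotientGroup.mk' (U.subgroupOf S)).comp (Subgroup.inclusion le_sup_left)
  haveI : Group.IsSolvable (S ⧸ U.subgroupOf S) := by
    refine Group.isSolvable_of_surjective (f := f) fun x => ?_
    induction x using QuotientGroup.induction_on with | _ x => ?_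
    have hx : (x : Γ) ∈ ((G : Set Γ) * (U : Set Γ)) := by
      rw [← Subgroup.coe_mul_of_left_le_normalizer_right G U (le_sup_left.trans hS)]
      exact x.2
    obtain ⟨g, hg, u, hu, hgu⟩ := Set.mem_mul.mp hx
    refine ⟨⟨g, hg⟩, QuotientGroup.eq.mpr ?_⟩
    rw [Subgroup.mem_subgroupOf]
    show g⁻¹ * (x : Γ) ∈ U
    rw [← hgu, inv_mul_cancel_left]
    exact hu
  exact ⟨S, le_sup_left, le_sup_right,
    Group.isSolvable_of_ker_le_range (U.subgroupOf S).subtype (QuotientGroup.mk' (U.subgroupOf S))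
      (by simp)⟩

end Endo

variable {p : ℕ} [Fact p.Prime] {V : Type u} [AddCommGroup V] [Module (ZMod p) V]

/-- The data of a primitive group. -/
structure Ctx (G : Subgroup (V ≃ₗ[ZMod p] V)) where
  M : Subgroup G
  B : Subgroup G
  θ : G
  N : ℕ
  M_normal : M.Normal
  B_normal : B.Normal
  M_le : M ≤ B
  θ_mem : θ ∈ M
  gen : ∀ m ∈ M, m ∈ Subgroup.zpowers θ
  inj : ∀ r ∈ Spectrum.PrimitiveSoluble.span (endo G) M, ∀ v : V, v ≠ 0 → r v = 0 → r = 0
  cenM : ∀ b ∈ B, ∀ m ∈ M, b * m = m * b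
  comm : ∀ x ∈ B, ∀ y ∈ B, ⁅x, y⁆ ∈ M
  sqf : Squarefree N
  powN : ∀ x ∈ B, x ^ N ∈ M
  centre : ∀ x ∈ B, (∀ y ∈ B, x * y = y * x) → x ∈ M
  centB : ∀ g : G, (∀ m ∈ M, g * m = m * g) → (∀ y ∈ B, g * y = y * g) → g ∈ M

theorem exists_ctx [Finite V] [Nontrivial V] (G : Subgroup (V ≃ₗ[ZMod p] V))
    (hsol : Group.IsSolvable G)
    (hirr : Irr G V) (hprim : ∀ (m : ℕ) (D : Fin m → AddSubgroup V), ¬ Sys G V D) :
    ∃ τ : Ctx G, (∀ S : Subgroup (V ≃ₗ[ZMod p] V), G ≤ S → Group.IsSolvable S → S = G) →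
      ∀ r ∈ Spectrum.PrimitiveSoluble.span (endo G) τ.M, r ≠ 0 → ∃ m ∈ τ.M, endo G m = r := by
  classical
  haveI : Finite (V ≃ₗ[ZMod p] V) :=
    Finite.of_injective (fun e => (e : V → V)) DFunLike.coe_injective
  set e := endo G with he
  have hirr' : ∀ W : Submodule (ZMod p) V, (∀ g, ∀ w ∈ W, e g w ∈ W) → W = ⊥ ∨ W = ⊤ := by
    intro W hW
    rcases hirr W.toAddSubgroup hW with h | h
    · exact Or.inl (Submodule.toAddSubgroup_injective (by rw [h]; rfl))
    · exact Or.inr (Submodule.toAddSubgroup_injective (by rw [h]; rfl))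
  have hprim' : ∀ (t m : ℕ) (D : Fin t → Submodule (ZMod p) V), 2 ≤ t → 0 < m →
      (∀ i, Module.finrank (ZMod p) (D i) = m) → iSupIndep D → iSup D = ⊤ →
      ¬ ∀ g : G, ∃ σ : Equiv.Perm (Fin t), ∀ i, (D i).map (e g) = D (σ i) := by
    intro t m D ht hm hD hind htop hperm
    refine hprim t (fun i => (D i).toAddSubgroup) ⟨ht, fun i h => ?_, fun i => ?_, ?_, fun g i => ?_⟩
    · have h1 : D i = ⊥ := Submodule.toAddSubgroup_injective (by rw [h]; rfl)
      have := hD i
      rw [h1, finrank_bot] at this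
      omega
    · rw [disjoint_iff_inf_le]
      rintro x ⟨hx1, hx2⟩
      have hle : (⨆ (j : Fin t) (_ : j ≠ i), (D j).toAddSubgroup) ≤
          (⨆ (j : Fin t) (_ : j ≠ i), D j).toAddSubgroup :=
        iSup₂_le fun j hj w hw => Submodule.mem_iSup_of_mem j (Submodule.mem_iSup_of_mem hj hw)
      exact Submodule.disjoint_def.mp (hind i) x hx1 (hle hx2)
    · rw [eq_top_iff]
      intro x _
      have hle : iSup D ≤ AddSubgroup.toZModSubmodule p (⨆ i, (D i).toAddSubgroup) :=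
        iSup_le fun i w hw => AddSubgroup.mem_iSup_of_mem i (show w ∈ (D i).toAddSubgroup from hw)
      exact hle (htop ▸ Submodule.mem_top)
    · obtain ⟨σ, hσ⟩ := hperm g
      exact ⟨σ i, fun w hw => (hσ i).le ⟨w, hw, rfl⟩⟩
  obtain ⟨M, ⟨hM, hMc⟩, hMmax⟩ := Set.Finite.exists_maximal
    (s := {A : Subgroup G | A.Normal ∧ ∀ a ∈ A, ∀ b ∈ A, a * b = b * a}) (Set.toFinite _)
    ⟨⊥, inferInstance, fun a ha b hb => by rw [Subgroup.mem_bot] at ha hb; rw [ha, hb]⟩
  haveI := hM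
  set R := Spectrum.PrimitiveSoluble.span e M with hR
  have hinj : ∀ r ∈ R, ∀ v : V, v ≠ 0 → r v = 0 → r = 0 := fun r hr v hv h0 =>
    Spectrum.PrimitiveSoluble.eq_zero_of_apply_eq_zero e hirr' hprim' hM hMc hr hv h0
  haveI : Finite (Module.End (ZMod p) V) :=
    Finite.of_injective (fun f => (f : V → V)) DFunLike.coe_injective
  -- the units of the field
  let U : Subgroup (V ≃ₗ[ZMod p] V) :=
    { carrier := {u | (u : V →ₗ[ZMod p] V) ∈ R ∧ ((u⁻¹ : V ≃ₗ[ZMod p] V) : V →ₗ[ZMod p] V) ∈ R}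
      one_mem' := ⟨one_mem R, by rw [inv_one]; exact one_mem R⟩
      mul_mem' := fun {a b} ha hb => ⟨mul_mem ha.1 hb.1, by
        rw [mul_inv_rev]; exact mul_mem hb.2 ha.2⟩
      inv_mem' := fun {a} ha => ⟨ha.2, by rw [inv_inv]; exact ha.1⟩ }
  have hUc : ∀ a ∈ U, ∀ b ∈ U, a * b = b * a := fun a ha b hb =>
    LinearEquiv.toLinearMap_injective (Spectrum.PrimitiveSoluble.span_comm e hMc ha.1 hb.1).eq
  have hUn : ∀ g ∈ G, ∀ u ∈ U, g * u * g⁻¹ ∈ U := by
    intro g hg u hu
    refine ⟨?_, ?_⟩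
    · exact Spectrum.PrimitiveSoluble.conj_mem_span e hM ⟨g, hg⟩ hu.1
    · rw [show (g * u * g⁻¹)⁻¹ = g * u⁻¹ * g⁻¹ by group]
      exact Spectrum.PrimitiveSoluble.conj_mem_span e hM ⟨g, hg⟩ hu.2
  haveI := hsol
  haveI : Group.IsSolvable U :=
    Group.isSolvable_of_comm fun a b => Subtype.ext (hUc a a.2 b b.2)
  obtain ⟨S, hGS, hUS, hS⟩ := prod_mem_normal G U hUn
  have hunits : (∀ S : Subgroup (V ≃ₗ[ZMod p] V), G ≤ S → Group.IsSolvable S → S = G) →
      ∀ r ∈ R, r ≠ 0 → ∃ m ∈ M, e m = r := by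
    intro hmax
    have hUG : U ≤ G := hUS.trans (hmax S hGS hS).le
    haveI hUnG : (U.subgroupOf G).Normal :=
      ⟨fun u hu g => hUn g g.2 u hu⟩
    have hMU : ∀ m ∈ M, (m : V ≃ₗ[ZMod p] V) ∈ U := fun m hm =>
      ⟨Subring.subset_closure ⟨m, hm, rfl⟩, Subring.subset_closure ⟨m⁻¹, inv_mem hm, rfl⟩⟩
    have hUM : U.subgroupOf G ≤ M := hMmax
      ⟨hUnG, fun a ha b hb => Subtype.ext (hUc a ha b hb)⟩ (fun m hm => hMU m hm)
    intro r hr hr0
    have hrinj : Function.Injective r := (injective_iff_map_eq_zero r).mpr fun v hv => by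
      by_contra hv0
      exact hr0 (hinj r hr v hv0 hv)
    let u : V ≃ₗ[ZMod p] V := LinearEquiv.ofBijective r ⟨hrinj, Finite.surjective_of_injective hrinj⟩
    have hu : (u : V →ₗ[ZMod p] V) = r := rfl
    have huinv : ((u⁻¹ : V ≃ₗ[ZMod p] V) : V →ₗ[ZMod p] V) ∈ R := by
      obtain ⟨k, hk⟩ := mem_powers_iff_mem_zpowers.mpr (inv_mem (Subgroup.mem_zpowers u))
      rw [← hk]
      clear hk
      induction k with
      | zero => exact one_mem R
      | succ k ih =>
        show ((u ^ (k + 1) : V ≃ₗ[ZMod p] V) : V →ₗ[ZMod p] V) ∈ R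
        rw [pow_succ]
        exact mul_mem ih (hu ▸ hr)
    exact ⟨⟨u, hUG ⟨hu ▸ hr, huinv⟩⟩, hUM (show u ∈ U from ⟨hu ▸ hr, huinv⟩), rfl⟩
  letI : CommRing R := { (inferInstance : Ring R) with
    mul_comm := fun a b => Subtype.ext (Spectrum.PrimitiveSoluble.span_comm e hMc a.2 b.2).eq }
  obtain ⟨v₀, hv₀⟩ := exists_ne (0 : V)
  haveI : Nontrivial R := ⟨0, 1, fun h => hv₀ (by
    have := congrArg (fun r : R => (r : Module.End (ZMod p) V) v₀) h
    simpa using this.symm)⟩
  haveI : NoZeroDivisors R := ⟨fun {a b} hab => by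
    by_contra hne
    obtain ⟨ha, hb⟩ := not_or.1 hne
    obtain ⟨v, hv⟩ : ∃ v, (b : Module.End (ZMod p) V) v ≠ 0 := by
      by_contra hall
      push Not at hall
      exact hb (Subtype.ext (LinearMap.ext hall))
    exact ha (Subtype.ext (hinj a a.2 _ hv (LinearMap.congr_fun (congrArg Subtype.val hab) v)))⟩
  haveI : IsDomain R := NoZeroDivisors.to_isDomain R
  haveI : IsCyclic M := isCyclic_of_injective_ringHom
    (R := R)
    { toFun := fun m => ⟨e m, Subring.subset_closure ⟨m, m.2, rfl⟩⟩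
      map_one' := Subtype.ext (map_one e)
      map_mul' := fun a b => Subtype.ext (map_mul e (a : G) b) }
    fun a b h => Subtype.ext (endo_injective G (congrArg Subtype.val h))
  obtain ⟨θ, hθ⟩ := IsCyclic.exists_generator (α := M)
  -- the group above `M`
  set N := ∏ q ∈ (Nat.card G).primeFactors, q with hN
  have hNsq : Squarefree N := by
    rw [hN]
    refine Finset.squarefree_prod_of_pairwise_isCoprime (fun a ha b hb hab => ?_) fun a ha =>
      (Nat.prime_of_mem_primeFactors ha).squarefree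
    exact Nat.coprime_iff_isRelPrime.mp
      ((Nat.coprime_primes (Nat.prime_of_mem_primeFactors ha) (Nat.prime_of_mem_primeFactors hb)).mpr hab)
  set C := Subgroup.centralizer (M : Set G) with hCdef
  haveI hC : C.Normal := Subgroup.normal_centralizer
  have hcen : ∀ c ∈ C, ∀ a ∈ M, c * a = a * c := fun c hc a ha =>
    ((Subgroup.mem_centralizer_iff.1 hc) a ha).symm
  have hMC : M ≤ C := fun a ha => Subgroup.mem_centralizer_iff.2 fun b hb => hMc b hb a ha
  obtain ⟨B, ⟨hB, hMB, hBC, hBcomm, hBN⟩, hBmax⟩ := Set.Finite.exists_maximal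
    (s := {B : Subgroup G | B.Normal ∧ M ≤ B ∧ B ≤ C ∧ (∀ x ∈ B, ∀ y ∈ B, ⁅x, y⁆ ∈ M) ∧
      ∀ x ∈ B, x ^ N ∈ M}) (Set.toFinite _)
    ⟨M, hM, le_rfl, hMC, fun x hx y hy => by
      exact M.mul_mem (M.mul_mem (M.mul_mem hx hy) (M.inv_mem hx)) (M.inv_mem hy),
      fun x hx => pow_mem hx _⟩
  haveI := hB
  haveI : (Subgroup.centralizer (B : Set G)).Normal := Subgroup.normal_centralizer
  have hcentre : ∀ x ∈ B, (∀ y ∈ B, x * y = y * x) → x ∈ M := by
    intro x hx hxy
    set Z := B ⊓ Subgroup.centralizer (B : Set G)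
    have hxZ : x ∈ Z := ⟨hx, Subgroup.mem_centralizer_iff.2 fun y hy => (hxy y hy).symm⟩
    have hMZ : M ≤ Z := fun a ha => ⟨hMB ha, Subgroup.mem_centralizer_iff.2 fun y hy =>
      hcen y (hBC hy) a ha⟩
    exact hMmax ⟨(inferInstance : Z.Normal),
      fun a ha b hb => (Subgroup.mem_centralizer_iff.1 ha.2 b hb.1).symm⟩ hMZ hxZ
  have hcentB : C ⊓ Subgroup.centralizer (B : Set G) ≤ M := by
    by_contra hne
    set D := C ⊓ Subgroup.centralizer (B : Set G) with hDdef
    have hDn : D.Normal := inferInstance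
    have hMD : M ≤ D := fun a ha => ⟨hMC ha, Subgroup.mem_centralizer_iff.2 fun y hy =>
      hcen y (hBC hy) a ha⟩
    obtain ⟨D₁, hD₁, hMD₁, hD₁D, hD₁comm⟩ :=
      Spectrum.Huppert.exists_commutative_step hsol hM hDn (lt_of_le_of_ne hMD fun h => hne h.ge)
    haveI := hD₁
    let π := QuotientGroup.mk' M
    have hπ : ∀ x ∈ D₁, ∀ y ∈ D₁, Commute (π x) (π y) := fun x hx y hy => by
      refine commutatorElement_eq_one_iff_commute.mp ?_
      rw [← map_commutatorElement]
      exact (QuotientGroup.eq_one_iff _).mpr (hD₁comm x hx y hy)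
    let Ω : Subgroup G :=
      { carrier := {x | x ∈ D₁ ∧ x ^ N ∈ M}
        one_mem' := ⟨one_mem _, by rw [one_pow]; exact one_mem _⟩
        mul_mem' := fun {x y} hx hy => ⟨mul_mem hx.1 hy.1, by
          rw [← QuotientGroup.eq_one_iff]
          show π ((x * y) ^ N) = 1
          rw [map_pow, map_mul, (hπ x hx.1 y hy.1).mul_pow, ← map_pow, ← map_pow,
            show π (x ^ N) = 1 from (QuotientGroup.eq_one_iff _).mpr hx.2,
            show π (y ^ N) = 1 from (QuotientGroup.eq_one_iff _).mpr hy.2, one_mul]⟩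
        inv_mem' := fun {x} hx => ⟨inv_mem hx.1, by rw [inv_pow]; exact inv_mem hx.2⟩ }
    haveI hΩn : Ω.Normal := ⟨fun x hx g => ⟨hD₁.conj_mem x hx.1 g, by
      rw [conj_pow]; exact hM.conj_mem _ hx.2 g⟩⟩
    have hMΩ : M ≤ Ω := fun m hm => ⟨hMD₁.le hm, pow_mem hm _⟩
    obtain ⟨x, hxD, hxM⟩ := SetLike.exists_of_lt hMD₁
    have hx1 : orderOf (π x) ≠ 1 := fun h => hxM
      ((QuotientGroup.eq_one_iff x).mp (orderOf_eq_one_iff.mp h))
    set q := (orderOf (π x)).minFac
    have hq : q.Prime := Nat.minFac_prime hx1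
    have hqN : q ∣ N := by
      refine Finset.dvd_prod_of_mem _ (Nat.mem_primeFactors.mpr ⟨hq, ?_, Nat.card_pos.ne'⟩)
      exact (Nat.minFac_dvd _).trans ((orderOf_map_dvd π x).trans (orderOf_dvd_natCard x))
    set z := x ^ (orderOf (π x) / q)
    have hzΩ : z ∈ Ω := ⟨pow_mem hxD _, by
      rw [← QuotientGroup.eq_one_iff]
      show π (z ^ N) = 1
      obtain ⟨c, hc⟩ := hqN
      rw [map_pow, map_pow, ← pow_mul, hc, ← mul_assoc, Nat.div_mul_cancel (Nat.minFac_dvd _),
        pow_mul, pow_orderOf_eq_one, one_pow]⟩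
    have hzM : z ∉ M := fun h => by
      have h1 : π x ^ (orderOf (π x) / q) = 1 := by
        rw [← map_pow]; exact (QuotientGroup.eq_one_iff _).mpr h
      have h2 := orderOf_dvd_of_pow_eq_one h1
      have h3 := Nat.le_of_dvd (Nat.div_pos (Nat.minFac_le (orderOf_pos _)) hq.pos) h2
      exact absurd (h3 : orderOf (π x) ≤ orderOf (π x) / q) (not_le.mpr (Nat.div_lt_self (orderOf_pos (π x)) hq.one_lt))
    have hcomm' : ∀ b ∈ B ⊔ Ω, ∀ b' ∈ B ⊔ Ω, Commute (π b) (π b') := by
      intro b hb b' hb'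
      obtain ⟨u, hu, a, ha, rfl⟩ := Subgroup.mem_sup_of_normal_right.1 hb
      obtain ⟨u', hu', a', ha', rfl⟩ := Subgroup.mem_sup_of_normal_right.1 hb'
      have e1 : Commute (π u) (π u') := commutatorElement_eq_one_iff_commute.mp (by
        rw [← map_commutatorElement]; exact (QuotientGroup.eq_one_iff _).mpr (hBcomm u hu u' hu'))
      have e2 : Commute (π a) (π a') := hπ a ha.1 a' ha'.1
      have e3 : Commute (π u) (π a') :=
        congrArg π (Subgroup.mem_centralizer_iff.1 (hD₁D ha'.1).2 u hu)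
      have e4 : Commute (π a) (π u') :=
        (congrArg π (Subgroup.mem_centralizer_iff.1 (hD₁D ha.1).2 u' hu')).symm
      rw [map_mul, map_mul]
      exact (e1.mul_right e3).mul_left (e4.mul_right e2)
    have hle : Ω ≤ B := le_sup_right.trans (hBmax
      ⟨inferInstance, hMB.trans le_sup_left, sup_le hBC fun a ha => (hD₁D ha.1).1,
        fun b hb b' hb' => by
          rw [← QuotientGroup.eq_one_iff]
          show π ⁅b, b'⁆ = 1
          rw [map_commutatorElement]
          exact commutatorElement_eq_one_iff_commute.mpr (hcomm' b hb b' hb'),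
        fun b hb => by
          obtain ⟨u, hu, a, ha, rfl⟩ := Subgroup.mem_sup_of_normal_right.1 hb
          rw [← QuotientGroup.eq_one_iff]
          show π ((u * a) ^ N) = 1
          rw [map_pow, map_mul, (hcomm' u (le_sup_left (b := Ω) hu) a
              (le_sup_right (a := B) ha)).mul_pow, ← map_pow, ← map_pow,
            show π (u ^ N) = 1 from (QuotientGroup.eq_one_iff _).mpr (hBN u hu),
            show π (a ^ N) = 1 from (QuotientGroup.eq_one_iff _).mpr ha.2, one_mul]⟩ le_sup_left)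
    refine hzM (hcentre z (hle hzΩ) fun y hy => ?_)
    exact (Subgroup.mem_centralizer_iff.1 (hD₁D hzΩ.1).2 y hy).symm
  refine ⟨⟨M, B, θ, N, hM, hB, hMB, θ.2,
    fun m hm => by
      obtain ⟨k, hk⟩ := Subgroup.mem_zpowers_iff.mp (hθ ⟨m, hm⟩)
      exact ⟨k, congrArg Subtype.val hk⟩,
    hinj, fun b hb m hm => hcen b (hBC hb) m hm, hBcomm, hNsq, hBN, hcentre,
    fun g hg hgB => hcentB ⟨Subgroup.mem_centralizer_iff.2 fun m hm => (hg m hm).symm,
      Subgroup.mem_centralizer_iff.2 fun y hy => (hgB y hy).symm⟩⟩, hunits⟩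

end Cfsg.Agent.Lib.BaseSize
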