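/-
The centraliser of a maximal stabiliser in a primitive soluble linear group is generated by two
elements modulo the stabiliser and the scalars.
-/
import Cfsg.Agent.Lib.BaseSize.PrimitiveCore
import Cfsg.Agent.Lib.LAEven57.RankOne

set_option autoImplicit false
set_option linter.unusedSectionVars false
set_option linter.style.haveILetI false

open scoped commutatorElement

namespace Cfsg.Agent.Lib.BaseSize

universe u

variable {p : ℕ} [Fact p.Prime] {V : Type u} [AddCommGroup V] [Module (ZMod p) V] [Finite V]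
  [Nontrivial V] {G : Subgroup (V ≃ₗ[ZMod p] V)}

namespace Ctx

variable (τ : Ctx G)

/-- The scalars. -/
abbrev sp : Subring (Module.End (ZMod p) V) := Spectrum.PrimitiveSoluble.span (endo G) τ.M

theorem endo_mem {m : G} (hm : m ∈ τ.M) : endo G m ∈ τ.sp := Subring.subset_closure ⟨m, hm, rfl⟩

theorem eq_one_of_fix {m : G} (hm : m ∈ τ.M) {v : V} (hv : v ≠ 0) (h : m • v = v) : m = 1 := by
  have h1 := τ.inj (endo G m - 1) (sub_mem (τ.endo_mem hm) (one_mem _)) v hv (by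
    rw [LinearMap.sub_apply, Module.End.one_apply, endo_apply, h, sub_self])
  exact endo_injective G (by rw [map_one]; exact sub_eq_zero.mp h1)

theorem commute_sp {b : G} (hb : ∀ m ∈ τ.M, b * m = m * b) {r : Module.End (ZMod p) V}
    (hr : r ∈ τ.sp) : Commute (endo G b) r := by
  induction hr using Subring.closure_induction with
  | mem x hx =>
    obtain ⟨a, ha, rfl⟩ := hx
    show endo G b * endo G a = endo G a * endo G b
    rw [← map_mul, ← map_mul, hb a ha]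
  | zero => exact Commute.zero_right _
  | one => exact Commute.one_right _
  | add x y _ _ hx hy => exact hx.add_right hy
  | neg x _ hx => exact hx.neg_right
  | mul x y _ _ hx hy => exact hx.mul_right hy

theorem smul_sp {b : G} (hb : ∀ m ∈ τ.M, b * m = m * b) {r : Module.End (ZMod p) V}
    (hr : r ∈ τ.sp) (w : V) : b • r w = r (b • w) :=
  LinearMap.congr_fun (τ.commute_sp hb hr).eq w

theorem comm_left {x y z : G} (hx : x ∈ τ.B) (hy : y ∈ τ.B) (hz : z ∈ τ.B) :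
    ⁅x * y, z⁆ = ⁅x, z⁆ * ⁅y, z⁆ := by
  rw [show ⁅x * y, z⁆ = x * ⁅y, z⁆ * x⁻¹ * ⁅x, z⁆ by simp only [commutatorElement_def]; group,
    τ.cenM x hx _ (τ.comm y hy z hz), mul_inv_cancel_right]
  exact (τ.cenM _ (τ.M_le (τ.comm y hy z hz)) _ (τ.comm x hx z hz))

theorem comm_right {x y z : G} (hx : x ∈ τ.B) (hy : y ∈ τ.B) (hz : z ∈ τ.B) :
    ⁅x, y * z⁆ = ⁅x, y⁆ * ⁅x, z⁆ := by
  rw [show ⁅x, y * z⁆ = ⁅x, y⁆ * (y * ⁅x, z⁆ * y⁻¹) by simp only [commutatorElement_def]; group,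
    τ.cenM y hy _ (τ.comm x hx z hz), mul_inv_cancel_right]

theorem comm_pow_left {x z : G} (hx : x ∈ τ.B) (hz : z ∈ τ.B) (n : ℕ) :
    ⁅x ^ n, z⁆ = ⁅x, z⁆ ^ n := by
  induction n with
  | zero => simp
  | succ n ih => rw [pow_succ, τ.comm_left (pow_mem hx n) hx hz, ih, pow_succ]

theorem comm_pow_right {x z : G} (hx : x ∈ τ.B) (hz : z ∈ τ.B) (n : ℕ) :
    ⁅x, z ^ n⁆ = ⁅x, z⁆ ^ n := by
  induction n with
  | zero => simp
  | succ n ih => rw [pow_succ, τ.comm_right hx (pow_mem hz n) hz, ih, pow_succ]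

theorem comm_pow_eq_one {x y : G} (hx : x ∈ τ.B) (hy : y ∈ τ.B) {n : ℕ} (hxn : x ^ n ∈ τ.M) :
    ⁅x, y⁆ ^ n = 1 := by
  rw [← τ.comm_pow_left hx hy, commutatorElement_eq_one_iff_mul_comm]
  exact (τ.cenM y hy _ hxn).symm

theorem not_dvd_card_M : ¬ p ∣ Nat.card τ.M := by
  classical
  intro hp
  haveI : Finite (V ≃ₗ[ZMod p] V) :=
    Finite.of_injective (fun e => (e : V → V)) DFunLike.coe_injective
  obtain ⟨m, hm⟩ := exists_prime_orderOf_dvd_card' (G := τ.M) p hp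
  have hm1 : (m : G) ^ p = 1 := by
    have := congrArg Subtype.val (pow_orderOf_eq_one m)
    rwa [hm, Subgroup.coe_pow, Subgroup.coe_one] at this
  haveI : CharP (Module.End (ZMod p) V) p := by
    refine (CharP.charP_iff_prime_eq_zero (Fact.out : p.Prime)).mpr (LinearMap.ext fun w => ?_)
    rw [Module.End.natCast_apply, LinearMap.zero_apply, ← Nat.cast_smul_eq_nsmul (ZMod p),
      ZMod.natCast_self, zero_smul]
  set r := endo G (m : G) - 1
  have h1 : r ^ p = 0 := by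
    rw [sub_pow_char_of_commute p (Commute.one_right _), one_pow, ← map_pow, hm1, map_one, sub_self]
  have hr : r = 0 := by
    by_contra hne
    obtain ⟨w, hw⟩ : ∃ w, r w ≠ 0 := by
      by_contra h
      push Not at h
      exact hne (LinearMap.ext h)
    have h2 : ∀ k, (r ^ k) w ≠ 0 := by
      intro k
      induction k with
      | zero => intro h; rw [pow_zero] at h; exact hw (by rw [show w = 0 from h, map_zero])
      | succ k ih =>
        intro h
        rw [pow_succ', Module.End.mul_apply] at h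
        exact hne (τ.inj r (sub_mem (τ.endo_mem m.2) (one_mem _)) _ ih h)
    exact h2 p (by rw [h1]; rfl)
  have : (m : G) = 1 := endo_injective G (by rw [map_one]; exact sub_eq_zero.mp hr)
  rw [show m = 1 from Subtype.ext this, orderOf_one] at hm
  exact (Fact.out : p.Prime).ne_one hm.symm

/-- An element of order two in the scalars is `-1`. -/
theorem endo_eq_neg_one {m : G} (hm : m ∈ τ.M) (h2 : m ^ 2 = 1) (h1 : m ≠ 1) :
    endo G m = -1 := by
  have h3 : (endo G m - 1) * (endo G m + 1) = 0 := by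
    have : endo G m * endo G m = 1 := by rw [← map_mul, ← pow_two, h2, map_one]
    rw [sub_mul, mul_add, this, one_mul, mul_one, add_comm (endo G m) 1, sub_self]
  refine eq_neg_of_add_eq_zero_left (LinearMap.ext fun w => ?_)
  by_contra hw
  refine h1 (τ.eq_one_of_fix hm hw ?_)
  have h4 := LinearMap.congr_fun h3 w
  rw [Module.End.mul_apply, LinearMap.sub_apply, Module.End.one_apply, LinearMap.zero_apply,
    sub_eq_zero] at h4
  exact h4

/-- The stabiliser in `B`. -/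
def fix (v : V) : Subgroup G := τ.B ⊓ MulAction.stabilizer G v

theorem mem_fix {v : V} {g : G} : g ∈ τ.fix v ↔ g ∈ τ.B ∧ g • v = v := Iff.rfl

/-- A vector with a maximal stabiliser. -/
def IsMax (v : V) : Prop :=
  v ≠ 0 ∧ ∀ w : V, w ≠ 0 → τ.fix v ≤ τ.fix w → τ.fix w ≤ τ.fix v

theorem exists_isMax : ∃ v, τ.IsMax v := by
  classical
  haveI : Finite (V ≃ₗ[ZMod p] V) :=
    Finite.of_injective (fun e => (e : V → V)) DFunLike.coe_injective
  haveI : Nonempty {v : V // v ≠ 0} := let ⟨v, hv⟩ := exists_ne (0 : V); ⟨⟨v, hv⟩⟩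
  obtain ⟨v, hv⟩ := Finite.exists_max fun w : {v : V // v ≠ 0} => Nat.card (τ.fix w.1)
  exact ⟨v, v.2, fun w hw hle => (Subgroup.eq_of_le_of_card_ge hle (hv ⟨w, hw⟩)).ge⟩

/-- The centraliser of the stabiliser. -/
def cen (v : V) : Subgroup G := τ.B ⊓ Subgroup.centralizer (τ.fix v : Set G)

/-- The stabiliser times the scalars. -/
def base (v : V) : Subgroup G := τ.fix v ⊔ τ.M

theorem fix_inter {v : V} (hv : v ≠ 0) {m : G} (hm : m ∈ τ.M) (hmv : m ∈ τ.fix v) : m = 1 :=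
  τ.eq_one_of_fix hm hv hmv.2

theorem fix_comm {v : V} (hv : v ≠ 0) {a b : G} (ha : a ∈ τ.fix v) (hb : b ∈ τ.fix v) :
    a * b = b * a :=
  commutatorElement_eq_one_iff_mul_comm.mp (τ.fix_inter hv (τ.comm a ha.1 b hb.1)
    (mul_mem (mul_mem (mul_mem ha hb) (inv_mem ha)) (inv_mem hb)))

theorem fix_le_cen {v : V} (hv : v ≠ 0) : τ.fix v ≤ τ.cen v := fun _ ha =>
  ⟨ha.1, Subgroup.mem_centralizer_iff.mpr fun _ hb => τ.fix_comm hv hb ha⟩

theorem M_le_cen (v : V) : τ.M ≤ τ.cen v := fun m hm =>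
  ⟨τ.M_le hm, Subgroup.mem_centralizer_iff.mpr fun b hb => τ.cenM b hb.1 m hm⟩

theorem base_le_cen {v : V} (hv : v ≠ 0) : τ.base v ≤ τ.cen v :=
  sup_le (τ.fix_le_cen hv) (τ.M_le_cen v)

theorem cen_comm_fix {v : V} {r l : G} (hr : r ∈ τ.cen v) (hl : l ∈ τ.fix v) : r * l = l * r :=
  (Subgroup.mem_centralizer_iff.mp hr.2 l hl).symm

/-- Elements of prime order centralising the stabiliser lie below the scalars. -/
theorem mem_base_of_pow_eq_one {v : V} (hv : τ.IsMax v) {q : ℕ} (hq : q.Prime) {s : G}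
    (hs : s ∈ τ.cen v) (hsq : s ^ q = 1) : s ∈ τ.base v := by
  classical
  haveI : Finite (V ≃ₗ[ZMod p] V) :=
    Finite.of_injective (fun e => (e : V → V)) DFunLike.coe_injective
  by_cases hsM : s ∈ τ.M
  · exact (le_sup_right : τ.M ≤ τ.base v) hsM
  obtain ⟨y, hy, hsy⟩ : ∃ y ∈ τ.B, s * y ≠ y * s := by
    by_contra h
    push Not at h
    exact hsM (τ.centre s hs.1 h)
  set ζ := ⁅s, y⁆ with hζdef
  have hζ : ζ ∈ τ.M := τ.comm s hs.1 y hy
  have hζ1 : ζ ≠ 1 := fun h => hsy (commutatorElement_eq_one_iff_mul_comm.mp h)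
  have hζq : ζ ^ q = 1 := τ.comm_pow_eq_one hs.1 hy (by rw [hsq]; exact one_mem _)
  have hord : orderOf ζ = q := @orderOf_eq_prime G _ ζ q ⟨hq⟩ hζq hζ1
  have hqp : q ≠ p := by
    intro h
    have h1 : orderOf ζ ∣ Nat.card τ.M := Subgroup.orderOf_dvd_natCard _ hζ
    rw [hord, h] at h1
    exact τ.not_dvd_card_M h1
  have hsc : ∀ m ∈ τ.M, Commute s m := fun m hm => τ.cenM s hs.1 m hm
  let w : ℕ → V := fun i => ∑ j ∈ Finset.range q, (ζ ^ i * s) ^ j • v
  have hsum : ∑ i ∈ Finset.range q, w i = (q : ZMod p) • v := by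
    simp only [w]
    rw [Finset.sum_comm, Finset.sum_eq_single 0]
    · simp only [pow_zero, one_smul, Finset.sum_const, Finset.card_range]
      rw [Nat.cast_smul_eq_nsmul]
    · intro j hj hj0
      have hη : ζ ^ j ≠ 1 := fun h => by
        have := orderOf_dvd_of_pow_eq_one h
        rw [hord] at this
        exact absurd (Nat.le_of_dvd (Nat.pos_of_ne_zero hj0) this) (not_le.mpr (Finset.mem_range.mp hj))
      have hterm : ∀ i, (ζ ^ i * s) ^ j • v = (ζ ^ j) ^ i • s ^ j • v := fun i => by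
        rw [((hsc _ (pow_mem hζ i)).symm).mul_pow, mul_smul, ← pow_mul, ← pow_mul, mul_comm]
      simp only [hterm]
      set u := ∑ i ∈ Finset.range q, (ζ ^ j) ^ i • s ^ j • v
      by_contra hu
      refine hη (τ.eq_one_of_fix (pow_mem hζ j) hu ?_)
      simp only [u, Finset.smul_sum, smul_smul, ← mul_assoc, ← pow_succ']
      have h1 := Finset.sum_range_succ' (fun i => ((ζ ^ j) ^ i * s ^ j) • v) q
      have h2 := Finset.sum_range_succ (fun i => ((ζ ^ j) ^ i * s ^ j) • v) q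
      have hq1 : (ζ ^ j) ^ q = 1 := by rw [← pow_mul, mul_comm, pow_mul, hζq, one_pow]
      rw [hq1, h1, pow_zero] at h2
      exact add_right_cancel h2
    · intro h; exact absurd (Finset.mem_range.mpr hq.pos) h
  obtain ⟨i, hi⟩ : ∃ i, w i ≠ 0 := by
    by_contra h
    push Not at h
    rw [Finset.sum_eq_zero fun i _ => h i] at hsum
    rcases smul_eq_zero.mp hsum.symm with h0 | h0
    · rw [ZMod.natCast_eq_zero_iff] at h0
      exact hqp ((Nat.prime_dvd_prime_iff_eq Fact.out hq).mp h0).symm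
    · exact hv.1 h0
  set t := ζ ^ i * s
  have ht : t ∈ τ.cen v := mul_mem (τ.M_le_cen v (pow_mem hζ i)) hs
  have htq : t ^ q = 1 := by
    rw [((hsc _ (pow_mem hζ i)).symm).mul_pow, hsq, ← pow_mul, mul_comm, pow_mul, hζq, one_pow,
      one_mul]
  have htw : t • w i = w i := by
    show t • (∑ j ∈ Finset.range q, t ^ j • v) = ∑ j ∈ Finset.range q, t ^ j • v
    simp only [Finset.smul_sum, smul_smul, ← pow_succ']
    have h1 := Finset.sum_range_succ' (fun j => t ^ j • v) q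
    have h2 := Finset.sum_range_succ (fun j => t ^ j • v) q
    rw [htq, h1, pow_zero] at h2
    exact add_right_cancel h2
  have hle : τ.fix v ≤ τ.fix (w i) := fun l hl => by
    refine ⟨hl.1, ?_⟩
    show l • w i = w i
    simp only [w, Finset.smul_sum]
    refine Finset.sum_congr rfl fun j _ => ?_
    rw [smul_smul, ← τ.cen_comm_fix (pow_mem ht j) hl, mul_smul, hl.2]
  have htfix : t ∈ τ.fix v := hv.2 _ hi hle ⟨ht.1, htw⟩
  have : s = (ζ ^ i)⁻¹ * t := by simp [t]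
  rw [this]
  exact mul_mem ((le_sup_right : τ.M ≤ τ.base v) (inv_mem (pow_mem hζ i)))
    ((le_sup_left : τ.fix v ≤ τ.base v) htfix)

/-- The elements of order `q` modulo the scalars. -/
def Part (v : V) (q : ℕ) (x : G) : Prop := x ∈ τ.cen v ∧ x ^ q ∈ τ.M

theorem exists_exponent {x : G} {q : ℕ} (hx : x ^ q ∈ τ.M) : ∃ i : ℤ, x ^ q = τ.θ ^ i := by
  obtain ⟨i, hi⟩ := Subgroup.mem_zpowers_iff.mp (τ.gen _ hx)
  exact ⟨i, hi.symm⟩

theorem θ_zpow_mem (i : ℤ) : τ.θ ^ i ∈ τ.M := zpow_mem τ.θ_mem i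

theorem not_dvd_exponent {v : V} (hv : τ.IsMax v) {q : ℕ} (hq : q.Prime) {x : G}
    (hx : x ∈ τ.cen v) {i : ℤ} (hi : x ^ q = τ.θ ^ i) (hxK : x ∉ τ.base v) : ¬ (q : ℤ) ∣ i := by
  rintro ⟨t, rfl⟩
  refine hxK ?_
  have hc : Commute x (τ.θ ^ (-t)) := τ.cenM x hx.1 _ (τ.θ_zpow_mem _)
  have h1 := τ.mem_base_of_pow_eq_one hv hq
    (mul_mem hx (τ.M_le_cen v (τ.θ_zpow_mem (-t)))) (by
      rw [hc.mul_pow, hi, ← zpow_natCast (τ.θ ^ (-t)), ← zpow_mul, ← zpow_add,
        show (q : ℤ) * t + -t * q = 0 by ring, zpow_zero])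
  have h2 := mul_mem h1 (inv_mem ((le_sup_right : τ.M ≤ τ.base v) (τ.θ_zpow_mem (-t))))
  rwa [mul_inv_cancel_right] at h2

/-- Two elements of order `q` modulo the scalars, commuting or with `q` odd. -/
theorem mem_of_pair {v : V} (hv : τ.IsMax v) {q : ℕ} (hq : q.Prime) {x y : G}
    (hx : τ.Part v q x) (hy : τ.Part v q y) (hy' : y ∉ τ.base v)
    (hc : q ≠ 2 ∨ x * y = y * x) : x ∈ Subgroup.zpowers y ⊔ τ.base v := by
  haveI := Fact.mk hq
  obtain ⟨i, hi⟩ := τ.exists_exponent hx.2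
  obtain ⟨j, hj⟩ := τ.exists_exponent hy.2
  have hjne : (j : ZMod q) ≠ 0 := fun h =>
    τ.not_dvd_exponent hv hq hy.1 hj hy' ((ZMod.intCast_zmod_eq_zero_iff_dvd _ _).mp h)
  set a := (-(i : ZMod q) / (j : ZMod q)).val
  obtain ⟨t, ht⟩ : (q : ℤ) ∣ i + j * a := by
    rw [← ZMod.intCast_zmod_eq_zero_iff_dvd]
    push_cast
    rw [ZMod.natCast_zmod_val, mul_div_cancel₀ _ hjne, add_neg_cancel]
  have hya : y ^ a ∈ τ.B := pow_mem hy.1.1 a
  have hcomm : ⁅y ^ a, x⁆ ^ q.choose 2 = 1 := by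
    rcases hc with h2 | hc
    · obtain ⟨c, hc⟩ := hq.dvd_choose_self (show 2 ≠ 0 by norm_num)
        (lt_of_le_of_ne hq.two_le (Ne.symm h2))
      rw [hc, pow_mul, τ.comm_pow_eq_one hya hx.1.1
        (by rw [← pow_mul, mul_comm, pow_mul]; exact pow_mem hy.2 a), one_pow]
    · rw [τ.comm_pow_left hy.1.1 hx.1.1, commutatorElement_eq_one_iff_mul_comm.mpr hc.symm,
        one_pow, one_pow]
  have hpow : (x * y ^ a) ^ q = τ.θ ^ ((q : ℤ) * t) := by
    have hcen : ∀ b ∈ τ.B, Commute ⁅y ^ a, x⁆ b := fun b hb =>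
      (τ.cenM b hb _ (τ.comm _ hya _ hx.1.1)).symm
    rw [LAEven57.mul_pow_of_central (c := ⁅y ^ a, x⁆) ?_ (hcen x hx.1.1) (hcen _ hya) q, hcomm,
      mul_one, hi, ← pow_mul, mul_comm a q, pow_mul, hj, ← zpow_natCast (τ.θ ^ j), ← zpow_mul,
      ← zpow_add, ← ht]
    calc y ^ a * x = ⁅y ^ a, x⁆ * (x * y ^ a) := by simp only [commutatorElement_def]; group
      _ = x * y ^ a * ⁅y ^ a, x⁆ := (hcen _ (mul_mem hx.1.1 hya)).eq
  have hK : x * y ^ a ∈ τ.base v := by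
    by_contra hne
    exact τ.not_dvd_exponent hv hq (mul_mem hx.1 (pow_mem hy.1 a)) hpow hne ⟨t, rfl⟩
  have : x = x * y ^ a * (y ^ a)⁻¹ := by group
  rw [this]
  exact mul_mem (Subgroup.mem_sup_right hK)
    (Subgroup.mem_sup_left (inv_mem (pow_mem (Subgroup.mem_zpowers y) a)))

theorem exists_gen_odd {v : V} (hv : τ.IsMax v) {q : ℕ} (hq : q.Prime) (h2 : q ≠ 2) :
    ∃ g, τ.Part v q g ∧ ∀ x, τ.Part v q x → x ∈ Subgroup.zpowers g ⊔ τ.base v := by
  by_cases h : ∀ x, τ.Part v q x → x ∈ τ.base v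
  · exact ⟨1, ⟨one_mem _, by rw [one_pow]; exact one_mem _⟩, fun x hx => Subgroup.mem_sup_right (h x hx)⟩
  push Not at h
  obtain ⟨g, hg, hg'⟩ := h
  exact ⟨g, hg, fun x hx => τ.mem_of_pair hv hq hx hg hg' (Or.inl h2)⟩

theorem two_cases {v : V} (hv : τ.IsMax v) :
    (∃ g, τ.Part v 2 g ∧ ∀ x, τ.Part v 2 x → x ∈ Subgroup.zpowers g ⊔ τ.base v) ∨
    ∃ g h, τ.Part v 2 g ∧ endo G g ^ 2 = -1 ∧ τ.Part v 2 h ∧
      ∀ x, τ.Part v 2 x → x ∈ (Subgroup.zpowers g ⊔ Subgroup.zpowers h) ⊔ τ.base v := by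
  by_cases h : ∀ x, τ.Part v 2 x → x ∈ τ.base v
  · exact Or.inl ⟨1, ⟨one_mem _, by rw [one_pow]; exact one_mem _⟩,
      fun x hx => Subgroup.mem_sup_right (h x hx)⟩
  push Not at h
  obtain ⟨a, ha, ha'⟩ := h
  by_cases h : ∀ x, τ.Part v 2 x → x ∈ Subgroup.zpowers a ⊔ τ.base v
  · exact Or.inl ⟨a, ha, h⟩
  push Not at h
  obtain ⟨b, hb, hb'⟩ := h
  right
  set ε := ⁅a, b⁆ with hεdef
  have hεM : ε ∈ τ.M := τ.comm a ha.1.1 b hb.1.1
  have hε2 : ε ^ 2 = 1 := τ.comm_pow_eq_one ha.1.1 hb.1.1 ha.2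
  have hε1 : ε ≠ 1 := fun h => hb'
    (τ.mem_of_pair hv Nat.prime_two hb ha ha' (Or.inr (commutatorElement_eq_one_iff_mul_comm.mp h).symm))
  have hεu : ∀ {x y}, τ.Part v 2 x → τ.Part v 2 y → ⁅x, y⁆ = 1 ∨ ⁅x, y⁆ = ε := fun {x y} hx hy => by
    by_cases h1 : ⁅x, y⁆ = 1
    · exact Or.inl h1
    · refine Or.inr (endo_injective G ?_)
      rw [τ.endo_eq_neg_one (τ.comm x hx.1.1 y hy.1.1) (τ.comm_pow_eq_one hx.1.1 hy.1.1 hx.2) h1,
        τ.endo_eq_neg_one hεM hε2 hε1]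
  have hba : ⁅b, a⁆ = ε := by
    rcases hεu hb ha with h | h
    · exact absurd (by rw [hεdef, ← commutatorElement_inv, h, inv_one]) hε1
    · exact h
  have hPart : ∀ {x y}, τ.Part v 2 x → τ.Part v 2 y → τ.Part v 2 (x * y) := fun {x y} hx hy => by
    refine ⟨mul_mem hx.1 hy.1, ?_⟩
    rw [show (x * y) ^ 2 = x ^ 2 * (⁅x⁻¹, y⁆ * y ^ 2) by
      simp only [commutatorElement_def, pow_two]; group]
    exact mul_mem hx.2 (mul_mem (τ.comm _ (inv_mem hx.1.1) _ hy.1.1) hy.2)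
  have hall : ∀ x, τ.Part v 2 x →
      x ∈ (Subgroup.zpowers a ⊔ Subgroup.zpowers b) ⊔ τ.base v := by
    intro x hx
    set S := (Subgroup.zpowers a ⊔ Subgroup.zpowers b) ⊔ τ.base v
    have haS : a ∈ S := Subgroup.mem_sup_left (Subgroup.mem_sup_left (Subgroup.mem_zpowers a))
    have hbS : b ∈ S := Subgroup.mem_sup_left (Subgroup.mem_sup_right (Subgroup.mem_zpowers b))
    obtain ⟨x₁, hx₁, hS₁, hc₁⟩ : ∃ x₁, τ.Part v 2 x₁ ∧ (x₁ ∈ S → x ∈ S) ∧ ⁅x₁, a⁆ = 1 := by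
      rcases hεu hx ha with h | h
      · exact ⟨x, hx, id, h⟩
      · refine ⟨x * b, hPart hx hb, fun h' => ?_, ?_⟩
        · have := mul_mem h' (inv_mem hbS)
          rwa [mul_inv_cancel_right] at this
        · rw [τ.comm_left hx.1.1 hb.1.1 ha.1.1, h, hba, ← pow_two, hε2]
    obtain ⟨x₂, hx₂, hS₂, hc₂, hd₂⟩ : ∃ x₂, τ.Part v 2 x₂ ∧ (x₂ ∈ S → x ∈ S) ∧ ⁅x₂, a⁆ = 1 ∧
        ⁅x₂, b⁆ = 1 := by
      rcases hεu hx₁ hb with h | h
      · exact ⟨x₁, hx₁, hS₁, hc₁, h⟩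
      · refine ⟨x₁ * a, hPart hx₁ ha, fun h' => hS₁ ?_, ?_, ?_⟩
        · have := mul_mem h' (inv_mem haS)
          rwa [mul_inv_cancel_right] at this
        · rw [τ.comm_left hx₁.1.1 ha.1.1 ha.1.1, hc₁, commutatorElement_self, one_mul]
        · rw [τ.comm_left hx₁.1.1 ha.1.1 hb.1.1, h, ← hεdef, ← pow_two, hε2]
    exact hS₂ ((sup_le (le_sup_left.trans le_sup_left) le_sup_right :
      Subgroup.zpowers a ⊔ τ.base v ≤ S) (τ.mem_of_pair hv Nat.prime_two hx₂ ha ha'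
        (Or.inr (commutatorElement_eq_one_iff_mul_comm.mp hc₂))))
  obtain ⟨i, hi⟩ := τ.exists_exponent ha.2
  obtain ⟨j, hj⟩ := τ.exists_exponent hb.2
  obtain ⟨k, hk⟩ := Subgroup.mem_zpowers_iff.mp (τ.gen _ hεM)
  have hoi : ¬ (2 : ℤ) ∣ i := τ.not_dvd_exponent hv Nat.prime_two ha.1 hi ha'
  have hoj : ¬ (2 : ℤ) ∣ j := τ.not_dvd_exponent hv Nat.prime_two hb.1 hj
    fun h => hb' (Subgroup.mem_sup_right h)
  have hoij : ¬ (2 : ℤ) ∣ i + j + k := by
    refine τ.not_dvd_exponent hv Nat.prime_two (mul_mem ha.1 hb.1) (i := i + j + k) ?_ ?_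
    · rw [zpow_add, zpow_add, ← hi, ← hj, hk,
        LAEven57.mul_pow_of_central (c := ⁅b, a⁆) ?_ ?_ ?_ 2, hba]
      · simp [Nat.choose_self]
      · calc b * a = ⁅b, a⁆ * (a * b) := by simp only [commutatorElement_def]; group
          _ = a * b * ⁅b, a⁆ :=
            (τ.cenM _ (mul_mem ha.1.1 hb.1.1) _ (τ.comm b hb.1.1 a ha.1.1)).symm
      · exact (τ.cenM a ha.1.1 _ (τ.comm b hb.1.1 a ha.1.1)).symm
      · exact (τ.cenM b hb.1.1 _ (τ.comm b hb.1.1 a ha.1.1)).symm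
    · intro h
      refine hb' ?_
      have := mul_mem (Subgroup.mem_sup_left (T := τ.base v) (inv_mem (Subgroup.mem_zpowers a)))
        (Subgroup.mem_sup_right (S := Subgroup.zpowers a) h)
      rwa [inv_mul_cancel_left] at this
  obtain ⟨s, hs⟩ : (2 : ℤ) ∣ k - i := by omega
  set a' := a * τ.θ ^ s
  have hca : Commute a (τ.θ ^ s) := τ.cenM a ha.1.1 _ (τ.θ_zpow_mem s)
  have ha'sq : a' ^ 2 = ε := by
    rw [hca.mul_pow, hi, ← zpow_natCast (τ.θ ^ s), ← zpow_mul, ← zpow_add, ← hk]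
    congr 1
    omega
  refine ⟨a', b, ⟨mul_mem ha.1 (τ.M_le_cen v (τ.θ_zpow_mem s)), ha'sq ▸ hεM⟩, ?_, hb, fun x hx => ?_⟩
  · rw [← map_pow, ha'sq, τ.endo_eq_neg_one hεM hε2 hε1]
  · refine (sup_le (sup_le ?_ ?_) le_sup_right :
      (Subgroup.zpowers a ⊔ Subgroup.zpowers b) ⊔ τ.base v ≤
        (Subgroup.zpowers a' ⊔ Subgroup.zpowers b) ⊔ τ.base v) (hall x hx)
    · rw [Subgroup.zpowers_le]
      have := mul_mem (Subgroup.mem_sup_left (T := τ.base v)
          (Subgroup.mem_sup_left (T := Subgroup.zpowers b) (Subgroup.mem_zpowers a')))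
        (Subgroup.mem_sup_right (S := Subgroup.zpowers a' ⊔ Subgroup.zpowers b)
          ((le_sup_right : τ.M ≤ τ.base v) (inv_mem (τ.θ_zpow_mem s))))
      rwa [mul_inv_cancel_right] at this
    · exact le_sup_right.trans le_sup_left

theorem mem_of_parts {H : Subgroup G} (hMH : τ.M ≤ H) {y : G} (hy : y ∈ τ.B)
    (h : ∀ q, q.Prime → q ∣ τ.N → y ^ (τ.N / q) ∈ H) : y ∈ H := by
  classical
  have hN : 0 < τ.N := Nat.pos_of_ne_zero fun h0 => not_squarefree_zero (h0 ▸ τ.sqf)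
  have hex : ∃ d, 0 < d ∧ y ^ d ∈ H := ⟨τ.N, hN, hMH (τ.powN y hy)⟩
  obtain ⟨hd, hdH⟩ := Nat.find_spec hex
  set d := Nat.find hex
  have hdvd : ∀ n, y ^ n ∈ H → d ∣ n := by
    intro n hn
    rw [Nat.dvd_iff_mod_eq_zero]
    by_contra h0
    have hlt := Nat.mod_lt n hd
    refine Nat.find_min hex hlt ⟨Nat.pos_of_ne_zero h0, ?_⟩
    rw [← Nat.div_add_mod n d, pow_add, pow_mul] at hn
    exact (H.mul_mem_cancel_left (pow_mem hdH _)).mp hn
  by_contra hyH
  have hd1 : d ≠ 1 := fun e => hyH (by simpa [e] using hdH)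
  obtain ⟨q, hq, hqd⟩ := Nat.exists_prime_and_dvd hd1
  have hqN : q ∣ τ.N := hqd.trans (hdvd _ (hMH (τ.powN y hy)))
  have h2 : q ∣ τ.N / q := hqd.trans (hdvd _ (h q hq hqN))
  have h3 : q * q ∣ τ.N := by
    have := Nat.mul_dvd_mul_left q h2
    rwa [Nat.mul_div_cancel' hqN] at this
  exact hq.not_isUnit (τ.sqf q h3)

theorem part_pow {v : V} {q : ℕ} {y : G} (hy : y ∈ τ.cen v) (hqN : q ∣ τ.N) :
    τ.Part v q (y ^ (τ.N / q)) :=
  ⟨pow_mem hy _, by rw [← pow_mul, Nat.div_mul_cancel hqN]; exact τ.powN y hy.1⟩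

theorem join {v : V} (hv : v ≠ 0) {a g : G} {n q : ℕ} (ha : a ∈ τ.cen v) (hg : g ∈ τ.cen v)
    (han : a ^ n ∈ τ.base v) (hgq : g ^ q ∈ τ.base v) (hnq : n.Coprime q) :
    (a * g) ^ (n * q) ∈ τ.base v ∧ a ∈ Subgroup.zpowers (a * g) ⊔ τ.base v ∧
      g ∈ Subgroup.zpowers (a * g) ⊔ τ.base v := by
  set C := τ.cen v
  set K := (τ.base v).subgroupOf C
  have hKle := τ.base_le_cen hv
  haveI : K.Normal := by
    refine ⟨fun k hk x => ?_⟩
    rw [Subgroup.mem_subgroupOf] at hk ⊢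
    have := mul_mem ((le_sup_right : τ.M ≤ τ.base v) (τ.comm x x.2.1 k k.2.1)) hk
    rwa [show ⁅(x : G), (k : G)⁆ * (k : G) = ((x * k * x⁻¹ : C) : G) by
      simp only [commutatorElement_def, Subgroup.coe_mul, Subgroup.coe_inv]; group] at this
  let π := QuotientGroup.mk' K
  have hπ : ∀ x y : C, Commute (π x) (π y) := fun x y =>
    commutatorElement_eq_one_iff_commute.mp (by
      rw [← map_commutatorElement]
      exact (QuotientGroup.eq_one_iff _).mpr
        ((le_sup_right : τ.M ≤ τ.base v) (τ.comm x x.2.1 y y.2.1)))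
  set a' : C := ⟨a, ha⟩
  set g' : C := ⟨g, hg⟩
  have h1 : π a' ^ n = 1 := by
    rw [← map_pow]; exact (QuotientGroup.eq_one_iff _).mpr (Subgroup.mem_subgroupOf.mpr han)
  have h2 : π g' ^ q = 1 := by
    rw [← map_pow]; exact (QuotientGroup.eq_one_iff _).mpr (Subgroup.mem_subgroupOf.mpr hgq)
  have hmem : ∀ x : C, π x ∈ Subgroup.zpowers (π (a' * g')) →
      (x : G) ∈ Subgroup.zpowers (a * g) ⊔ τ.base v := by
    intro x hx
    obtain ⟨k, hk⟩ := Subgroup.mem_zpowers_iff.mp hx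
    rw [← map_zpow] at hk
    have h3 : ((a * g) ^ k)⁻¹ * x ∈ τ.base v := by
      have := Subgroup.mem_subgroupOf.mp (QuotientGroup.eq.mp hk)
      simpa [a', g'] using this
    have := mul_mem (Subgroup.mem_sup_left (T := τ.base v)
      (zpow_mem (Subgroup.mem_zpowers (a * g)) k)) (Subgroup.mem_sup_right (S := Subgroup.zpowers (a * g)) h3)
    rwa [mul_inv_cancel_left] at this
  refine ⟨?_, hmem a' ?_, hmem g' ?_⟩
  · have h3 : π ((a' * g') ^ (n * q)) = 1 := by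
      rw [map_pow, map_mul, (hπ a' g').mul_pow, pow_mul, h1, one_pow, one_mul, mul_comm, pow_mul,
        h2, one_pow]
    exact Subgroup.mem_subgroupOf.mp ((QuotientGroup.eq_one_iff _).mp h3)
  · obtain ⟨k, hk⟩ := exists_pow_eq_self_of_coprime (x := π a')
      ((Nat.Coprime.coprime_dvd_left (orderOf_dvd_of_pow_eq_one h1) hnq).symm)
    rw [← hk, show π a' ^ q = π (a' * g') ^ q by rw [map_mul, (hπ a' g').mul_pow, h2, mul_one]]
    exact pow_mem (pow_mem (Subgroup.mem_zpowers _) _) _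
  · obtain ⟨k, hk⟩ := exists_pow_eq_self_of_coprime (x := π g')
      (Nat.Coprime.coprime_dvd_right (orderOf_dvd_of_pow_eq_one h2) hnq)
    rw [← hk, show π g' ^ n = π (a' * g') ^ n by rw [map_mul, (hπ a' g').mul_pow, h1, one_mul]]
    exact pow_mem (pow_mem (Subgroup.mem_zpowers _) _) _

theorem exists_gen_set {v : V} (hv : τ.IsMax v) : ∀ s : Finset ℕ,
    (∀ q ∈ s, q.Prime ∧ q ≠ 2) →
    ∃ a n, a ∈ τ.cen v ∧ a ^ n ∈ τ.base v ∧ (∀ r : ℕ, r.Prime → r ∉ s → ¬ r ∣ n) ∧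
      ∀ q ∈ s, ∀ x, τ.Part v q x → x ∈ Subgroup.zpowers a ⊔ τ.base v := by
  classical
  intro s
  induction s using Finset.induction_on with
  | empty =>
    intro _
    exact ⟨1, 1, one_mem _, by rw [one_pow]; exact one_mem _, fun r hr _ => hr.not_dvd_one,
      fun q hq => absurd hq (Finset.notMem_empty q)⟩
  | insert q s hqs ih =>
    intro hs
    obtain ⟨a, n, ha, han, hn, hgen⟩ := ih fun r hr => hs r (Finset.mem_insert_of_mem hr)
    obtain ⟨hq, hq2⟩ := hs q (Finset.mem_insert_self q s)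
    obtain ⟨g, hg, hgall⟩ := τ.exists_gen_odd hv hq hq2
    obtain ⟨h1, h2, h3⟩ := τ.join hv.1 ha hg.1 han ((le_sup_right : τ.M ≤ τ.base v) hg.2)
      ((hq.coprime_iff_not_dvd.mpr (hn q hq hqs)).symm)
    refine ⟨a * g, n * q, mul_mem ha hg.1, h1, fun r hr hrs hd => ?_, fun r hr x hx => ?_⟩
    · rw [Finset.mem_insert, not_or] at hrs
      rcases (Nat.Prime.dvd_mul hr).mp hd with h | h
      · exact hn r hr hrs.2 h
      · exact hrs.1 ((Nat.prime_dvd_prime_iff_eq hr hq).mp h)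
    · rcases Finset.mem_insert.mp hr with rfl | hr
      · exact (sup_le (Subgroup.zpowers_le.mpr h3) le_sup_right :
          Subgroup.zpowers g ⊔ τ.base v ≤ _) (hgall x hx)
      · exact (sup_le (Subgroup.zpowers_le.mpr h2) le_sup_right :
          Subgroup.zpowers a ⊔ τ.base v ≤ _) (hgen r hr x hx)

/-- Two generators of the centraliser. -/
theorem exists_gens {v : V} (hv : τ.IsMax v) :
    ∃ a b : G, a ∈ τ.cen v ∧ b ∈ τ.cen v ∧
      τ.cen v ≤ (Subgroup.zpowers a ⊔ Subgroup.zpowers b) ⊔ τ.base v ∧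
      (τ.B ≤ τ.cen v → endo G a ^ 2 = 1 ∨ endo G a ^ 2 = -1) := by
  classical
  by_cases hRB : τ.B ≤ τ.cen v
  · -- the odd parts are scalars
    have hbase : τ.base v ≤ τ.M := by
      refine sup_le (fun l hl => τ.centre l hl.1 fun y hy => ?_) le_rfl
      exact (τ.cen_comm_fix (hRB hy) hl).symm
    have hcent : ∀ {q : ℕ} (g : G), q.Prime →
        (∀ x, τ.Part v q x → x ∈ Subgroup.zpowers g ⊔ τ.base v) → g ∈ τ.cen v →
        ∀ x, τ.Part v q x → x ∈ τ.M := by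
      intro q g hq hg hgc x hx
      refine τ.centre x hx.1.1 fun y hy => ?_
      have key : y ∈ Subgroup.centralizer ({x} : Set G) ⊓ τ.B := by
        refine τ.mem_of_parts (H := Subgroup.centralizer ({x} : Set G) ⊓ τ.B)
          (fun m hm => ⟨Subgroup.mem_centralizer_singleton_iff.mpr (τ.cenM x hx.1.1 m hm).symm,
            τ.M_le hm⟩) hy fun r hr hrN => ⟨?_, pow_mem hy _⟩
        have hyp := τ.part_pow (q := r) (hRB hy) hrN
        refine Subgroup.mem_centralizer_singleton_iff.mpr ?_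
        rcases eq_or_ne r q with rfl | hne
        · have hle : Subgroup.zpowers g ⊔ τ.base v ≤ Subgroup.centralizer ({g} : Set G) :=
            sup_le (Subgroup.zpowers_le.mpr (Subgroup.mem_centralizer_singleton_iff.mpr rfl))
              fun m hm => Subgroup.mem_centralizer_singleton_iff.mpr
                (τ.cenM g hgc.1 m (hbase hm)).symm
          have h1 := hle (hg x hx)
          have h2 : Subgroup.zpowers g ⊔ τ.base v ≤ Subgroup.centralizer ({x} : Set G) :=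
            sup_le (Subgroup.zpowers_le.mpr (Subgroup.mem_centralizer_singleton_iff.mpr
              (Subgroup.mem_centralizer_singleton_iff.mp h1).symm))
              fun m hm => Subgroup.mem_centralizer_singleton_iff.mpr
                (τ.cenM x hx.1.1 m (hbase hm)).symm
          exact Subgroup.mem_centralizer_singleton_iff.mp (h2 (hg _ hyp))
        · have h1 : ⁅x, y ^ (τ.N / r)⁆ ^ q = 1 := τ.comm_pow_eq_one hx.1.1 hyp.1.1 hx.2
          have h2 : ⁅x, y ^ (τ.N / r)⁆ ^ r = 1 := by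
            rw [← τ.comm_pow_right hx.1.1 hyp.1.1, commutatorElement_eq_one_iff_mul_comm]
            exact τ.cenM x hx.1.1 _ hyp.2
          have h3 := Nat.dvd_gcd (orderOf_dvd_of_pow_eq_one h1) (orderOf_dvd_of_pow_eq_one h2)
          rw [Nat.Coprime.gcd_eq_one ((Nat.coprime_primes hq hr).mpr hne.symm), Nat.dvd_one,
            orderOf_eq_one_iff, commutatorElement_eq_one_iff_mul_comm] at h3
          exact h3.symm
      exact (Subgroup.mem_centralizer_singleton_iff.mp key.1).symm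
    have hodd : ∀ {q : ℕ}, q.Prime → q ≠ 2 → ∀ x, τ.Part v q x → x ∈ τ.M := by
      intro q hq hq2
      obtain ⟨g, hg, hall⟩ := τ.exists_gen_odd hv hq hq2
      exact hcent g hq hall hg.1
    rcases τ.two_cases hv with ⟨g, hg, hall⟩ | ⟨g, h, hg, hg2, hh, hall⟩
    · refine ⟨1, 1, one_mem _, one_mem _, fun y hy => ?_, fun _ => Or.inl (by rw [map_one, one_pow])⟩
      refine τ.mem_of_parts ((le_sup_right : τ.M ≤ τ.base v).trans le_sup_right) hy.1 fun q hq hqN => ?_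
      refine Subgroup.mem_sup_right ((le_sup_right : τ.M ≤ τ.base v) ?_)
      by_cases hq2 : q = 2
      · subst hq2; exact hcent g hq hall hg.1 _ (τ.part_pow hy hqN)
      · exact hodd hq hq2 _ (τ.part_pow hy hqN)
    · refine ⟨g, h, hg.1, hh.1, fun y hy => ?_, fun _ => Or.inr hg2⟩
      refine τ.mem_of_parts ((le_sup_right : τ.M ≤ τ.base v).trans le_sup_right) hy.1 fun q hq hqN => ?_
      by_cases hq2 : q = 2
      · subst hq2; exact hall _ (τ.part_pow hy hqN)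
      · exact Subgroup.mem_sup_right ((le_sup_right : τ.M ≤ τ.base v)
          (hodd hq hq2 _ (τ.part_pow hy hqN)))
  · obtain ⟨a, n, ha, han, hn, hgen⟩ := τ.exists_gen_set hv (τ.N.primeFactors.filter (· ≠ 2))
      (fun q hq => ⟨Nat.prime_of_mem_primeFactors (Finset.mem_filter.mp hq).1,
        (Finset.mem_filter.mp hq).2⟩)
    obtain ⟨g, h, hg, hh, hall⟩ : ∃ g h, τ.Part v 2 g ∧ h ∈ τ.cen v ∧
        ∀ x, τ.Part v 2 x → x ∈ (Subgroup.zpowers g ⊔ Subgroup.zpowers h) ⊔ τ.base v := by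
      rcases τ.two_cases hv with ⟨g, hg, hall⟩ | ⟨g, h, hg, -, hh, hall⟩
      · exact ⟨g, 1, hg, one_mem _, fun x hx =>
          (sup_le_sup_right le_sup_left _ : Subgroup.zpowers g ⊔ τ.base v ≤ _) (hall x hx)⟩
      · exact ⟨g, h, hg, hh.1, hall⟩
    obtain ⟨-, h2, h3⟩ := τ.join hv.1 ha hg.1 han ((le_sup_right : τ.M ≤ τ.base v) hg.2)
      ((Nat.prime_two.coprime_iff_not_dvd.mpr (hn 2 Nat.prime_two (by simp))).symm)
    refine ⟨a * g, h, mul_mem ha hg.1, hh, fun y hy => ?_, fun hB => absurd hB hRB⟩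
    set T := (Subgroup.zpowers (a * g) ⊔ Subgroup.zpowers h) ⊔ τ.base v
    have hT : Subgroup.zpowers (a * g) ⊔ τ.base v ≤ T :=
      sup_le (le_sup_left.trans le_sup_left) le_sup_right
    refine τ.mem_of_parts ((le_sup_right : τ.M ≤ τ.base v).trans le_sup_right) hy.1 fun q hq hqN => ?_
    by_cases hq2 : q = 2
    · subst hq2
      exact (sup_le (sup_le (Subgroup.zpowers_le.mpr (hT h3)) (le_sup_right.trans le_sup_left))
        le_sup_right : (Subgroup.zpowers g ⊔ Subgroup.zpowers h) ⊔ τ.base v ≤ T)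
          (hall _ (τ.part_pow hy hqN))
    · refine (sup_le (Subgroup.zpowers_le.mpr (hT h2)) le_sup_right :
        Subgroup.zpowers a ⊔ τ.base v ≤ T) (hgen q ?_ _ (τ.part_pow hy hqN))
      exact Finset.mem_filter.mpr ⟨Nat.mem_primeFactors.mpr ⟨hq, hqN, fun h0 =>
        not_squarefree_zero (h0 ▸ τ.sqf)⟩, hq2⟩

end Ctx

end Cfsg.Agent.Lib.BaseSize
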