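/-
A primitive maximal soluble linear group has a regular orbit on triples of vectors.
-/
import Cfsg.Agent.Lib.BaseSize.PrimitiveGens
import Cfsg.Agent.Lib.BaseSize.Colour

set_option autoImplicit false
set_option linter.unusedSectionVars false
set_option linter.style.haveILetI false

open scoped commutatorElement

namespace Cfsg.Agent.Lib.BaseSize

universe u

variable {p : ℕ} [Fact p.Prime] {V : Type u} [AddCommGroup V] [Module (ZMod p) V] [Finite V]
  [Nontrivial V] {G : Subgroup (V ≃ₗ[ZMod p] V)}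

namespace Ctx

variable (τ : Ctx G)

theorem mem_B_conj (g : G) {x : G} (hx : x ∈ τ.B) : g * x * g⁻¹ ∈ τ.B :=
  τ.B_normal.conj_mem x hx g

theorem comm_cong {v : V} {l y y' : G} (hl : l ∈ τ.fix v) (hy : y ∈ τ.B) (h : y⁻¹ * y' ∈ τ.cen v) :
    ⁅l, y⁆ = ⁅l, y'⁆ := by
  have h1 := τ.comm_right hl.1 hy h.1
  rw [mul_inv_cancel_left, commutatorElement_eq_one_iff_mul_comm.mpr (τ.cen_comm_fix h hl).symm,
    mul_one] at h1
  exact h1.symm

theorem mem_cen_of_comm_eq {v : V} {y y' : G} (hy : y ∈ τ.B) (hy' : y' ∈ τ.B)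
    (h : ∀ l ∈ τ.fix v, ⁅l, y⁆ = ⁅l, y'⁆) : y⁻¹ * y' ∈ τ.cen v := by
  refine ⟨τ.B.mul_mem (τ.B.inv_mem hy) hy', Subgroup.mem_centralizer_iff.mpr fun l hl => ?_⟩
  have h1 := τ.comm_right hl.1 hy (mul_mem (inv_mem hy) hy')
  rw [mul_inv_cancel_left, ← h l hl, left_eq_mul] at h1
  exact commutatorElement_eq_one_iff_mul_comm.mp h1

/-- The vectors on which the stabiliser acts through the commutator with `y`. -/
def weight (v : V) (y : G) : AddSubgroup V where
  carrier := {u | ∀ l ∈ τ.fix v, l • u = ⁅l, y⁆ • u}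
  zero_mem' := fun l _ => by rw [smul_zero, smul_zero]
  add_mem' := fun {a b} ha hb l hl => by rw [smul_add, smul_add, ha l hl, hb l hl]
  neg_mem' := fun {a} ha l hl => by rw [smul_neg, smul_neg, ha l hl]

theorem smul_mem_weight {v : V} {y : G} : y • v ∈ τ.weight v y := fun l hl => by
  rw [smul_smul, smul_smul, show l * y = ⁅l, y⁆ * y * l by simp only [commutatorElement_def]; group,
    mul_smul, hl.2]

theorem apply_mem_weight {v : V} {y : G} (hy : y ∈ τ.B) {u : V} (hu : u ∈ τ.weight v y)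
    {r : Module.End (ZMod p) V} (hr : r ∈ τ.sp) : r u ∈ τ.weight v y := fun l hl => by
  rw [τ.smul_sp (τ.cenM l hl.1) hr, hu l hl,
    τ.smul_sp (τ.cenM _ (τ.M_le (τ.comm l hl.1 y hy))) hr]

theorem weight_congr {v : V} {y y' : G} (hy : y ∈ τ.B) (h : y⁻¹ * y' ∈ τ.cen v) {u : V}
    (hu : u ∈ τ.weight v y) : u ∈ τ.weight v y' := fun l hl => by
  rw [hu l hl, τ.comm_cong hl hy h]

theorem conj_mem_fix {v : V} {g l : G} (hg : g • v = v) (hl : l ∈ τ.fix v) :
    g * l * g⁻¹ ∈ τ.fix v := ⟨τ.mem_B_conj g hl.1, by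
  show (g * l * g⁻¹) • v = v
  rw [mul_smul, mul_smul, inv_smul_eq_iff.mpr hg.symm, hl.2, hg]⟩

theorem smul_mem_weight_conj {v : V} {g y : G} (hg : g • v = v) {u : V}
    (hu : u ∈ τ.weight v y) : g • u ∈ τ.weight v (g * y * g⁻¹) := fun l hl => by
  have hl' : g⁻¹ * l * g ∈ τ.fix v := by
    have := τ.conj_mem_fix (g := g⁻¹) (inv_smul_eq_iff.mpr hg.symm) hl
    rwa [inv_inv] at this
  have h1 := congrArg (g • ·) (hu _ hl')
  simp only [smul_smul] at h1 ⊢
  rw [show g * (g⁻¹ * l * g) = l * g by group] at h1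
  rw [h1]
  congr 1
  simp only [commutatorElement_def]
  group

theorem mem_fix_of_smul {v : V} {g x : G} (hg : g • v = v) (hx : x ∈ τ.B)
    (h : g • x • v = x • v) : x⁻¹ * g * x * g⁻¹ ∈ τ.fix v :=
  ⟨by rw [show x⁻¹ * g * x * g⁻¹ = x⁻¹ * (g * x * g⁻¹) by group]
      exact τ.B.mul_mem (τ.B.inv_mem hx) (τ.mem_B_conj g hx), by
    show (x⁻¹ * g * x * g⁻¹) • v = v
    rw [mul_smul, mul_smul, mul_smul, inv_smul_eq_iff.mpr hg.symm, h, inv_smul_smul]⟩

/-- The last step: an element fixing enough vectors is trivial. -/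
theorem eq_one_of_fixes {v : V} (hv : v ≠ 0) {a b g : G}
    (ha : a ∈ τ.cen v) (hb : b ∈ τ.cen v)
    (hgen : τ.cen v ≤ (Subgroup.zpowers a ⊔ Subgroup.zpowers b) ⊔ τ.base v)
    (hg : g • v = v) (hM : ∀ m ∈ τ.M, g * m = m * g)
    (hy : ∀ x ∈ τ.B, ∃ y ∈ τ.B, y⁻¹ * x ∈ τ.cen v ∧ g • y • v = y • v)
    (hga : g • a • v = a • v) (hgb : g • b • v = b • v) : g = 1 := by
  let Φ : Subgroup G :=
    { carrier := {r | r ∈ τ.cen v ∧ r⁻¹ * g * r * g⁻¹ ∈ τ.fix v}
      one_mem' := ⟨one_mem _, by simp⟩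
      mul_mem' := fun {r s} hr hs => ⟨mul_mem hr.1 hs.1, by
        rw [show (r * s)⁻¹ * g * (r * s) * g⁻¹ =
          s⁻¹ * (r⁻¹ * g * r * g⁻¹) * s * (s⁻¹ * g * s * g⁻¹) by group]
        refine mul_mem ?_ hs.2
        rw [mul_assoc, ← τ.cen_comm_fix hs.1 hr.2, inv_mul_cancel_left]
        exact hr.2⟩
      inv_mem' := fun {r} hr => ⟨inv_mem hr.1, by
        rw [inv_inv, show r * g * r⁻¹ * g⁻¹ = r * (r⁻¹ * g * r * g⁻¹)⁻¹ * r⁻¹ by group,
          τ.cen_comm_fix hr.1 (inv_mem hr.2), mul_inv_cancel_right]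
        exact inv_mem hr.2⟩ }
  have hΦ : τ.cen v ≤ Φ := by
    refine hgen.trans (sup_le (sup_le (Subgroup.zpowers_le.mpr ⟨ha, τ.mem_fix_of_smul hg ha.1 hga⟩)
      (Subgroup.zpowers_le.mpr ⟨hb, τ.mem_fix_of_smul hg hb.1 hgb⟩)) (sup_le ?_ ?_))
    · exact fun l hl => ⟨τ.fix_le_cen hv hl, by
        rw [show l⁻¹ * g * l * g⁻¹ = l⁻¹ * (g * l * g⁻¹) by group]
        exact mul_mem (inv_mem hl) (τ.conj_mem_fix hg hl)⟩
    · exact fun m hm => ⟨τ.M_le_cen v hm, by
        rw [mul_assoc m⁻¹, hM m hm, inv_mul_cancel_left, mul_inv_cancel]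
        exact one_mem _⟩
  have hall : ∀ x ∈ τ.B, x⁻¹ * g * x * g⁻¹ ∈ τ.fix v := by
    intro x hx
    obtain ⟨y, hyB, hyx, hyv⟩ := hy x hx
    have h1 := τ.mem_fix_of_smul hg hyB hyv
    have h2 := (hΦ hyx).2
    rw [show x⁻¹ * g * x * g⁻¹ = (y⁻¹ * x)⁻¹ * (y⁻¹ * g * y * g⁻¹) * (y⁻¹ * x) *
      ((y⁻¹ * x)⁻¹ * g * (y⁻¹ * x) * g⁻¹) by group]
    refine mul_mem ?_ h2
    rw [mul_assoc, ← τ.cen_comm_fix hyx h1, inv_mul_cancel_left]
    exact h1
  have hcentral : ∀ x ∈ τ.B, x⁻¹ * g * x * g⁻¹ = 1 := by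
    intro x hx
    set l := x⁻¹ * g * x * g⁻¹ with hl
    refine τ.fix_inter hv (τ.centre l (hall x hx).1 fun y hyB => ?_) (hall x hx)
    have h1 : y⁻¹ * l * y ∈ τ.fix v := by
      have := mul_mem (hall (x * y) (mul_mem hx hyB)) (inv_mem (hall y hyB))
      rwa [show (x * y)⁻¹ * g * (x * y) * g⁻¹ * (y⁻¹ * g * y * g⁻¹)⁻¹ = y⁻¹ * l * y by
        rw [hl]; group] at this
    have h2 : ⁅l⁻¹, y⁻¹⁆ = 1 := τ.fix_inter hv (τ.comm _ (inv_mem (hall x hx).1) _ (inv_mem hyB)) (by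
      rw [show ⁅l⁻¹, y⁻¹⁆ = l⁻¹ * (y⁻¹ * l * y) by simp only [commutatorElement_def]; group]
      exact mul_mem (inv_mem (hall x hx)) h1)
    have h3 : Commute l⁻¹ y⁻¹ := commutatorElement_eq_one_iff_commute.mp h2
    exact (Commute.inv_inv_iff.mp h3).eq
  refine τ.eq_one_of_fix (τ.centB g hM fun x hx => ?_) hv hg
  calc g * x = g * x * g⁻¹ * g := by group
    _ = x * g := by
      have h := hcentral x hx
      rw [show x⁻¹ * g * x * g⁻¹ = x⁻¹ * (g * x * g⁻¹) by group, inv_mul_eq_one] at h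
      rw [← h]

theorem eq_zero_of_sum {v : V} {ι : Type*} (y : ι → G) (hy : ∀ i, y i ∈ τ.B)
    (hinj : ∀ i j, (y i)⁻¹ * y j ∈ τ.cen v → i = j) :
    ∀ (s : Finset ι) (u : ι → V), (∀ i ∈ s, u i ∈ τ.weight v (y i)) → ∑ i ∈ s, u i = 0 →
      ∀ i ∈ s, u i = 0 := by
  classical
  intro s
  induction s using Finset.induction_on with
  | empty => exact fun u _ _ i hi => absurd hi (Finset.notMem_empty i)
  | insert j s hjs ih =>
    intro u hu hsum
    have hz : ∀ i ∈ s, u i = 0 := by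
      intro i hi
      obtain ⟨l, hl, hne⟩ : ∃ l ∈ τ.fix v, ⁅l, y i⁆ ≠ ⁅l, y j⁆ := by
        by_contra h
        push Not at h
        exact hjs (hinj i j (τ.mem_cen_of_comm_eq (hy i) (hy j) h) ▸ hi)
      let r : ι → Module.End (ZMod p) V := fun k => endo G ⁅l, y k⁆ - endo G ⁅l, y j⁆
      have hr : ∀ k, r k ∈ τ.sp := fun k => sub_mem (τ.endo_mem (τ.comm l hl.1 _ (hy k)))
        (τ.endo_mem (τ.comm l hl.1 _ (hy j)))
      have h0 : ∑ k ∈ s, r k (u k) = 0 := by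
        have h1 : ∀ k ∈ insert j s, r k (u k) = l • u k - endo G ⁅l, y j⁆ (u k) := fun k hk => by
          rw [hu k hk l hl]; rfl
        have h2 : ∑ k ∈ insert j s, r k (u k) = 0 := by
          rw [Finset.sum_congr rfl h1, Finset.sum_sub_distrib, ← Finset.smul_sum, ← map_sum, hsum,
            smul_zero, map_zero, sub_zero]
        rw [Finset.sum_insert hjs] at h2
        simpa [r] using h2
      have h3 := ih (fun k => r k (u k))
        (fun k hk => τ.apply_mem_weight (hy k) (hu k (Finset.mem_insert_of_mem hk)) (hr k)) h0 i hi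
      by_contra hui
      exact hne (endo_injective G (sub_eq_zero.mp (τ.inj _ (hr i) _ hui h3)))
    intro i hi
    rcases Finset.mem_insert.mp hi with rfl | hi
    · rwa [Finset.sum_insert hjs, Finset.sum_eq_zero hz, add_zero] at hsum
    · exact hz i hi

/-- If an element sends `θ` to its negative it fixes it. -/
theorem conj_θ_eq
    (hu : ∀ r ∈ τ.sp, r ≠ 0 → ∃ m ∈ τ.M, endo G m = r) {g : G} (h : endo G (g * τ.θ * g⁻¹) = -endo G τ.θ) :
    g * τ.θ * g⁻¹ = τ.θ := by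
  refine endo_injective G ?_
  rw [h]
  set T := endo G τ.θ with hT
  have hconj : ∀ r : Module.End (ZMod p) V, endo G g * -r * endo G g⁻¹ =
      -(endo G g * r * endo G g⁻¹) := fun r => by rw [mul_neg, neg_mul]
  have h1 : endo G g * 1 * endo G g⁻¹ = 1 := by
    rw [mul_one, ← map_mul, mul_inv_cancel, map_one]
  by_cases h0 : 1 + T = 0
  · have hT1 : T = -1 := eq_neg_of_add_eq_zero_right h0
    have h2 : endo G (g * τ.θ * g⁻¹) = T := by
      rw [map_mul, map_mul, ← hT, hT1, hconj, h1]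
    rw [← h, h2]
  obtain ⟨m, hm, hmT⟩ := hu _ (add_mem (one_mem _) (τ.endo_mem τ.θ_mem)) h0
  obtain ⟨j, hj⟩ := Subgroup.mem_zpowers_iff.mp (τ.gen m hm)
  obtain ⟨ε, hε⟩ : ∃ ε, ε = g * τ.θ * g⁻¹ * τ.θ⁻¹ := ⟨_, rfl⟩
  have hεe : endo G ε = -1 := by
    rw [hε, map_mul, h, hT, neg_mul, ← map_mul, mul_inv_cancel, map_one]
  have hεθ : Commute ε τ.θ := by
    refine endo_injective G ?_
    rw [map_mul, map_mul, hεe, neg_mul, one_mul, mul_neg, mul_one]
  have hε2 : ε ^ (2 : ℤ) = 1 := by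
    rw [zpow_two]
    refine endo_injective G ?_
    rw [map_mul, hεe, neg_mul_neg, one_mul, map_one]
  have hgm : g * m * g⁻¹ = ε ^ j * m := by
    rw [← hj, ← conj_zpow, ← hεθ.mul_zpow]
    congr 1
    rw [hε, inv_mul_cancel_right]
  have hL : endo G (g * m * g⁻¹) = 1 + -T := by
    rw [map_mul, map_mul, hmT, mul_add, add_mul, h1, ← map_mul, ← map_mul, h]
  rw [hgm, map_mul, hmT] at hL
  rcases Int.even_or_odd j with ⟨k, rfl⟩ | ⟨k, rfl⟩
  · rw [← two_mul, zpow_mul, hε2, one_zpow, map_one, one_mul] at hL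
    exact (add_left_cancel hL).symm
  · rw [zpow_add, zpow_mul, hε2, one_zpow, one_mul, zpow_one, hεe, neg_one_mul, neg_add] at hL
    have h3 := add_right_cancel hL
    calc -T = (-1 : Module.End (ZMod p) V) * T := (neg_one_mul T).symm
      _ = T := by rw [h3, one_mul]

theorem exists_triple_of_le (hu : ∀ r ∈ τ.sp, r ≠ 0 → ∃ m ∈ τ.M, endo G m = r)
    {v : V} (hv : τ.IsMax v) (hB : τ.B ≤ τ.cen v) :
    ∃ w : Fin 3 → V, ∀ g : G, (∀ k, g • w k = w k) → g = 1 := by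
  obtain ⟨a, b, ha, hb, hgen, hsq⟩ := τ.exists_gens hv
  refine ⟨![v, b • v, (τ.θ * a) • v], fun g hg => ?_⟩
  have hgv : g • v = v := hg 0
  have hgb : g • b • v = b • v := hg 1
  have hgθa : g • (τ.θ * a) • v = (τ.θ * a) • v := hg 2
  have hL : ∀ l ∈ τ.fix v, l = 1 := fun l hl => τ.fix_inter hv.1
    (τ.centre l hl.1 fun y hy => (τ.cen_comm_fix (hB hy) hl).symm) hl
  have hθaB : τ.θ * a ∈ τ.B := mul_mem (τ.M_le τ.θ_mem) ha.1
  have hcomm : g * (τ.θ * a) * g⁻¹ = τ.θ * a := by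
    have := hL _ (τ.mem_fix_of_smul hgv hθaB hgθa)
    rwa [show (τ.θ * a)⁻¹ * g * (τ.θ * a) * g⁻¹ = (τ.θ * a)⁻¹ * (g * (τ.θ * a) * g⁻¹) by group,
      inv_mul_eq_one, eq_comm] at this
  have hθ : g * τ.θ * g⁻¹ = τ.θ := by
    set σ := g * τ.θ * g⁻¹ with hσ
    have hσM : σ ∈ τ.M := τ.M_normal.conj_mem _ τ.θ_mem g
    have hθc : Commute τ.θ a := (τ.cenM a ha.1 _ τ.θ_mem).symm
    have h1 : σ ^ 2 * (g * a ^ 2 * g⁻¹) = τ.θ ^ 2 * a ^ 2 := by
      rw [← hθc.mul_pow, hσ, conj_pow]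
      calc g * τ.θ ^ 2 * g⁻¹ * (g * a ^ 2 * g⁻¹) = g * (τ.θ ^ 2 * a ^ 2) * g⁻¹ := by group
        _ = (g * (τ.θ * a) * g⁻¹) ^ 2 := by rw [conj_pow, hθc.mul_pow]
        _ = (τ.θ * a) ^ 2 := by rw [hcomm]
    have h2 : endo G σ ^ 2 = endo G τ.θ ^ 2 := by
      have h3 := congrArg (endo G) h1
      rw [map_mul, map_mul, map_mul, map_mul, map_pow, map_pow, map_pow] at h3
      have h4 : endo G g * endo G g⁻¹ = 1 := by rw [← map_mul, mul_inv_cancel, map_one]
      rcases hsq hB with h | h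
      · rwa [h, mul_one, h4, mul_one, mul_one] at h3
      · rwa [h, mul_neg_one (endo G g), neg_mul, h4, mul_neg_one, mul_neg_one, neg_inj] at h3
    have hcs : Commute (endo G σ) (endo G τ.θ) := τ.commute_sp
      (fun m hm => τ.cenM σ (τ.M_le hσM) m hm) (τ.endo_mem τ.θ_mem)
    have h5 : (endo G σ - endo G τ.θ) * (endo G σ + endo G τ.θ) = 0 := by
      rw [← hcs.mul_self_sub_mul_self_eq', ← pow_two, ← pow_two, h2, sub_self]
    by_cases h6 : endo G σ + endo G τ.θ = 0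
    · exact τ.conj_θ_eq hu (eq_neg_of_add_eq_zero_left h6)
    · obtain ⟨w, hw⟩ : ∃ w, (endo G σ + endo G τ.θ) w ≠ 0 := by
        by_contra h
        push Not at h
        exact h6 (LinearMap.ext h)
      exact endo_injective G (sub_eq_zero.mp (τ.inj _
        (sub_mem (τ.endo_mem hσM) (τ.endo_mem τ.θ_mem)) _ hw (LinearMap.congr_fun h5 w)))
  have hM : ∀ m ∈ τ.M, g * m = m * g := by
    intro m hm
    obtain ⟨j, rfl⟩ := Subgroup.mem_zpowers_iff.mp (τ.gen m hm)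
    exact (Commute.zpow_right (mul_inv_eq_iff_eq_mul.mp hθ) j).eq
  refine τ.eq_one_of_fixes hv.1 ha hb hgen hgv hM
    (fun x hx => ⟨1, one_mem _, by rw [inv_one, one_mul]; exact hB hx, by simp [hgv]⟩) ?_ hgb
  have h7 : g • τ.θ • a • v = τ.θ • a • v := by rwa [← mul_smul τ.θ a v]
  rw [smul_smul g τ.θ, hM _ τ.θ_mem, mul_smul] at h7
  exact smul_left_cancel _ h7

theorem colour_match {T S : Module.End (ZMod p) V} (hT : T ∈ τ.sp) (hS : S ∈ τ.sp)
    (hT0 : T ≠ 0) (hT1 : T ≠ 1) (hS0 : S ≠ 0) (hS1 : S ≠ 1) {z w : V} (hz : z ≠ 0) (hw : w ≠ 0)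
    {i k : Fin 5} (hi : i ≠ 0) (hk : k ≠ 0)
    (hA : (![0, 1, 1, 0, 1] i : Module.End (ZMod p) V) z =
      (![0, 1, 1, 0, 1] k : Module.End (ZMod p) V) w)
    (hC : (![0, S, 0, 1, 1] i : Module.End (ZMod p) V) z =
      (![0, T, 0, 1, 1] k : Module.End (ZMod p) V) w) :
    k = i ∧ (i = 1 → S = T) ∧ z = w := by
  have hc : ∀ {r r' : Module.End (ZMod p) V}, r ∈ τ.sp → r' ∈ τ.sp → r w = r' w → r = r' :=
    fun {r r'} hr hr' h => sub_eq_zero.mp
      (τ.inj _ (sub_mem hr hr') w hw (by rw [LinearMap.sub_apply, h, sub_self]))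
  rcases (by decide : ∀ i : Fin 5, i ≠ 0 → i = 1 ∨ i = 2 ∨ i = 3 ∨ i = 4) i hi with
    rfl | rfl | rfl | rfl <;>
  rcases (by decide : ∀ i : Fin 5, i ≠ 0 → i = 1 ∨ i = 2 ∨ i = 3 ∨ i = 4) k hk with
    rfl | rfl | rfl | rfl
  · have e : z = w := hA
    exact ⟨rfl, fun _ => hc hS hT (e ▸ hC), e⟩
  · have e : z = w := hA
    exact absurd (hc hS (zero_mem _) (e ▸ hC)) hS0
  · exact absurd (hA : z = 0) hz
  · have e : z = w := hA
    exact absurd (hc hS (one_mem _) (e ▸ hC)) hS1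
  · exact absurd (hc hT (zero_mem _) (hC : 0 = T w).symm) hT0
  · exact ⟨rfl, fun h => absurd h (by decide), hA⟩
  · exact absurd (hA : z = 0) hz
  · exact absurd (hC : 0 = w).symm hw
  · exact absurd (hA : 0 = w).symm hw
  · exact absurd (hA : 0 = w).symm hw
  · exact ⟨rfl, fun h => absurd h (by decide), hC⟩
  · exact absurd (hA : 0 = w).symm hw
  · have e : z = w := hA
    exact absurd (hc hT (one_mem _) (e ▸ hC : w = T w).symm) hT1
  · exact absurd (hC : z = 0) hz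
  · exact absurd (hA : z = 0) hz
  · exact ⟨rfl, fun h => absurd h (by decide), hA⟩

theorem exists_triple_of_not_le {v : V} (hv : τ.IsMax v) (hB : ¬ τ.B ≤ τ.cen v) :
    ∃ w : Fin 3 → V, ∀ g : G, (∀ k, g • w k = w k) → g = 1 := by
  classical
  obtain ⟨a, b, ha, hb, hgen, -⟩ := τ.exists_gens hv
  haveI := τ.B_normal
  set R := (τ.cen v).subgroupOf τ.B with hR
  have hRn : R.Normal := ⟨fun r hr x => by
    rw [hR, Subgroup.mem_subgroupOf] at hr ⊢
    rw [show ((x * r * x⁻¹ : τ.B) : G) = ⁅(x : G), (r : G)⁆ * (r : G) by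
      simp only [commutatorElement_def, Subgroup.coe_mul, Subgroup.coe_inv]; group]
    exact mul_mem (τ.M_le_cen v (τ.comm _ x.2 _ r.2)) hr⟩
  letI : CommGroup (τ.B ⧸ R) := { QuotientGroup.Quotient.group R with
    mul_comm := fun x y => by
      induction x using QuotientGroup.induction_on with | _ x => ?_
      induction y using QuotientGroup.induction_on with | _ y => ?_
      rw [← QuotientGroup.mk_mul, ← QuotientGroup.mk_mul, QuotientGroup.eq, hR,
        Subgroup.mem_subgroupOf]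
      refine τ.M_le_cen v ?_
      rw [show (((x * y)⁻¹ * (y * x) : τ.B) : G) = ⁅(y : G)⁻¹, (x : G)⁻¹⁆ by
        simp only [commutatorElement_def, Subgroup.coe_mul, Subgroup.coe_inv]; group]
      exact τ.comm _ (inv_mem y.2) _ (inv_mem x.2) }
  haveI : Finite (V ≃ₗ[ZMod p] V) :=
    Finite.of_injective (fun e => (e : V → V)) DFunLike.coe_injective
  haveI : Nontrivial (τ.B ⧸ R) := by
    obtain ⟨x, hx, hx'⟩ := SetLike.not_le_iff_exists.mp hB
    refine ⟨QuotientGroup.mk ⟨x, hx⟩, 1, fun h => hx' ?_⟩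
    exact Subgroup.mem_subgroupOf.mp ((QuotientGroup.eq_one_iff _).mp h)
  have hθ1 : τ.θ ≠ 1 := by
    intro h1
    refine hB fun x hx => ⟨hx, Subgroup.mem_centralizer_iff.mpr fun l hl => ?_⟩
    have h2 := τ.gen _ (τ.comm l hl.1 x hx)
    rw [h1, Subgroup.zpowers_one_eq_bot, Subgroup.mem_bot,
      commutatorElement_eq_one_iff_mul_comm] at h2
    exact h2
  obtain ⟨f, hf0, ⟨x₁, hx₁⟩, -, hfrig⟩ := Colour.exists_rigid (τ.B ⧸ R)
  haveI := Fintype.ofFinite (τ.B ⧸ R)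
  let y : τ.B ⧸ R → G := fun x => ((Quotient.out x : τ.B) : G)
  have hyB : ∀ x, y x ∈ τ.B := fun x => (Quotient.out x : τ.B).2
  have hyeq : ∀ (x : τ.B ⧸ R) (z : τ.B), (z : τ.B ⧸ R) = x → (z : G)⁻¹ * y x ∈ τ.cen v := by
    intro x z h
    have h1 : (z : τ.B ⧸ R) = ((Quotient.out x : τ.B) : τ.B ⧸ R) := by
      rw [h, QuotientGroup.out_eq']
    exact Subgroup.mem_subgroupOf.mp (QuotientGroup.eq.mp h1)
  have hyinj : ∀ i j, (y i)⁻¹ * y j ∈ τ.cen v → i = j := by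
    intro i j h
    rw [← QuotientGroup.out_eq' i, ← QuotientGroup.out_eq' j, QuotientGroup.eq]
    exact Subgroup.mem_subgroupOf.mpr h
  set T := endo G τ.θ with hT
  let A : Fin 5 → Module.End (ZMod p) V := ![0, 1, 1, 0, 1]
  let C : Fin 5 → Module.End (ZMod p) V := ![0, T, 0, 1, 1]
  let F : τ.B ⧸ R → V := fun x => if x = 1 then b • v else A (f x) (y x • v)
  let H : τ.B ⧸ R → V := fun x => if x = 1 then (τ.θ * a) • v else C (f x) (y x • v)
  have hAsp : ∀ i, A i ∈ τ.sp := by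
    intro i; fin_cases i <;> simp [A, zero_mem, one_mem]
  have hCsp : ∀ i, C i ∈ τ.sp := by
    intro i; fin_cases i <;> simp [C, zero_mem, one_mem, hT, τ.endo_mem τ.θ_mem]
  have hone : (1 : G)⁻¹ * y 1 ∈ τ.cen v := by
    simpa using hyeq 1 1 rfl
  have hR1 : ∀ r ∈ τ.cen v, r⁻¹ * y 1 ∈ τ.cen v := fun r hr =>
    mul_mem (inv_mem hr) (by simpa using hone)
  have hF : ∀ x, F x ∈ τ.weight v (y x) := by
    intro x
    by_cases hx : x = 1
    · subst hx
      simp only [F, if_pos]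
      exact τ.weight_congr hb.1 (hR1 b hb) τ.smul_mem_weight
    · simp only [F, if_neg hx]
      exact τ.apply_mem_weight (hyB x) τ.smul_mem_weight (hAsp _)
  have hθa : τ.θ * a ∈ τ.cen v := mul_mem (τ.M_le_cen v τ.θ_mem) ha
  have hH : ∀ x, H x ∈ τ.weight v (y x) := by
    intro x
    by_cases hx : x = 1
    · subst hx
      simp only [H, if_pos]
      exact τ.weight_congr hθa.1 (hR1 _ hθa) τ.smul_mem_weight
    · simp only [H, if_neg hx]
      exact τ.apply_mem_weight (hyB x) τ.smul_mem_weight (hCsp _)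
  refine ⟨![v, ∑ x, F x, ∑ x, H x], fun g hg => ?_⟩
  have hgv : g • v = v := hg 0
  have hgF : g • ∑ x, F x = ∑ x, F x := hg 1
  have hgH : g • ∑ x, H x = ∑ x, H x := hg 2
  let c : τ.B →* τ.B := (MulAut.conjNormal g : MulAut τ.B).toMonoidHom
  have hc : ∀ x : τ.B, (c x : G) = g * x * g⁻¹ := fun x => MulAut.conjNormal_apply g x
  have hcR : ∀ x : τ.B, x ∈ R ↔ c x ∈ R := by
    intro x
    rw [hR, Subgroup.mem_subgroupOf, Subgroup.mem_subgroupOf, hc]
    constructor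
    · intro h
      refine ⟨τ.mem_B_conj g h.1, Subgroup.mem_centralizer_iff.mpr fun l hl => ?_⟩
      have h1 := τ.cen_comm_fix h (τ.conj_mem_fix (g := g⁻¹) (inv_smul_eq_iff.mpr hgv.symm) hl)
      rw [inv_inv] at h1
      calc l * (g * x * g⁻¹) = g * ((g⁻¹ * l * g) * x) * g⁻¹ := by group
        _ = g * x * g⁻¹ * l := by rw [← h1]; group
    · intro h
      refine ⟨x.2, Subgroup.mem_centralizer_iff.mpr fun l hl => ?_⟩
      have h1 := τ.cen_comm_fix h (τ.conj_mem_fix hgv hl)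
      calc l * (x : G) = g⁻¹ * ((g * l * g⁻¹) * (g * x * g⁻¹)) * g := by group
        _ = (x : G) * l := by rw [← h1]; group
  let α : τ.B ⧸ R →* τ.B ⧸ R := QuotientGroup.map R R c fun x hx => (hcR x).mp hx
  have hαinj : Function.Injective α := by
    rw [injective_iff_map_eq_one]
    intro x
    induction x using QuotientGroup.induction_on with | _ x => ?_
    intro hx
    rw [QuotientGroup.eq_one_iff]
    exact (hcR x).mpr ((QuotientGroup.eq_one_iff (c x)).mp hx)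
  let e := Equiv.ofBijective α ⟨hαinj, Finite.surjective_of_injective hαinj⟩
  have comp : ∀ P : τ.B ⧸ R → V, (∀ x, P x ∈ τ.weight v (y x)) → g • ∑ x, P x = ∑ x, P x →
      ∀ x, g • P x = P (α x) := by
    intro P hP hsum x
    have hgP : ∀ z, g • P z ∈ τ.weight v (y (α z)) := fun z => by
      refine τ.weight_congr (τ.mem_B_conj g (hyB z)) ?_ (τ.smul_mem_weight_conj hgv (hP z))
      have := hyeq (α z) (c (Quotient.out z)) (by
        conv_rhs => rw [← QuotientGroup.out_eq' z]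
        rfl)
      rwa [hc] at this
    have h0 := τ.eq_zero_of_sum y hyB hyinj Finset.univ (fun z => g • P (e.symm z) - P z)
      (fun z _ => sub_mem (by
        have := hgP (e.symm z)
        rwa [show α (e.symm z) = z from e.apply_symm_apply z] at this) (hP z)) (by
        rw [Finset.sum_sub_distrib, ← Finset.smul_sum, Equiv.sum_comp e.symm P, hsum, sub_self])
      (α x) (Finset.mem_univ _)
    rw [show e.symm (α x) = x from e.symm_apply_apply x, sub_eq_zero] at h0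
    exact h0
  have hyv : ∀ x, y x • v ≠ 0 := fun x h => hv.1 ((smul_eq_zero_iff_eq _).mp h)
  have hne : ∀ x, x ≠ 1 → g • A (f x) (y x • v) = A (f (α x)) (y (α x) • v) ∧
      g • C (f x) (y x • v) = C (f (α x)) (y (α x) • v) := by
    intro x hx
    have hx' : α x ≠ 1 := fun h => hx (hαinj (h.trans (map_one α).symm))
    have h1 := comp F hF hgF x
    have h2 := comp H hH hgH x
    simp only [F, H, if_neg hx, if_neg hx'] at h1 h2
    exact ⟨h1, h2⟩
  set σ := g * τ.θ * g⁻¹ with hσ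
  have hσM : σ ∈ τ.M := τ.M_normal.conj_mem _ τ.θ_mem g
  have hσw : ∀ w : V, g • T w = endo G σ (g • w) := fun w => by
    show g • τ.θ • w = σ • g • w
    rw [smul_smul, smul_smul]
    congr 1
    rw [hσ]; group
  have h01 : (0 : Module.End (ZMod p) V) ≠ 1 := fun h => hv.1 (LinearMap.congr_fun h v).symm
  have hT1 : T ≠ 1 := fun h => hθ1 (endo_injective G (h.trans (map_one _).symm))
  have hT0 : T ≠ 0 := fun h => hv.1 ((smul_eq_zero_iff_eq τ.θ).mp (LinearMap.congr_fun h v))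
  have hσ0 : endo G σ ≠ 0 := fun h => hv.1 ((smul_eq_zero_iff_eq σ).mp (LinearMap.congr_fun h v))
  have hσ1 : endo G σ ≠ 1 := fun h => hθ1 (by
    have h1 : σ = 1 := endo_injective G (h.trans (map_one _).symm)
    rw [hσ, mul_inv_eq_one] at h1
    exact mul_eq_left.mp h1)
  have hcol : ∀ x, f (α x) = f x ∧ (f x = 1 → σ = τ.θ) ∧
      (x ≠ 1 → g • y x • v = y (α x) • v) := by
    intro x
    by_cases hx : x = 1
    · subst hx
      exact ⟨by rw [map_one], fun h => absurd ((hf0 1).mpr rfl ▸ h) (by decide),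
        fun h => absurd rfl h⟩
    obtain ⟨h1, h2⟩ := hne x hx
    have hfx : f x ≠ 0 := fun h => hx ((hf0 x).mp h)
    have hfx' : f (α x) ≠ 0 := fun h => hx
      (hαinj (((hf0 _).mp h).trans (map_one α).symm))
    have hz : g • y x • v ≠ 0 := fun h => hyv x ((smul_eq_zero_iff_eq g).mp h)
    have hA' : ∀ i, g • A i (y x • v) = A i (g • y x • v) := by
      intro i
      fin_cases i
      · exact smul_zero g
      · rfl
      · rfl
      · exact smul_zero g
      · rfl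
    have hC' : ∀ i, g • C i (y x • v) =
        (![0, endo G σ, 0, 1, 1] i : Module.End (ZMod p) V) (g • y x • v) := by
      intro i
      fin_cases i
      · exact smul_zero g
      · exact hσw _
      · exact smul_zero g
      · rfl
      · rfl
    rw [hA'] at h1
    rw [hC'] at h2
    obtain ⟨hk, hST, hzw⟩ := τ.colour_match (τ.endo_mem τ.θ_mem) (τ.endo_mem hσM) hT0 hT1 hσ0 hσ1
      hz (hyv (α x)) hfx hfx' h1 h2
    exact ⟨hk, fun h => endo_injective G (hST h), fun _ => hzw⟩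
  have hαid : α = MonoidHom.id _ := MonoidHom.ext (hfrig α hαinj fun x => (hcol x).1)
  have hθ : σ = τ.θ := (hcol x₁).2.1 hx₁
  have hM : ∀ m ∈ τ.M, g * m = m * g := by
    intro m hm
    obtain ⟨j, rfl⟩ := Subgroup.mem_zpowers_iff.mp (τ.gen m hm)
    exact (Commute.zpow_right (mul_inv_eq_iff_eq_mul.mp hθ) j).eq
  have hF1 : g • b • v = b • v := by
    have := comp F hF hgF 1
    simpa [F, hαid] using this
  have hH1 : g • a • v = a • v := by
    have h1 := comp H hH hgH 1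
    simp [H, hαid, mul_smul] at h1
    rw [smul_smul g τ.θ, hM _ τ.θ_mem, mul_smul] at h1
    exact smul_left_cancel _ h1
  refine τ.eq_one_of_fixes hv.1 ha hb hgen hgv hM (fun x hx => ?_) hH1 hF1
  by_cases hx1 : (⟨x, hx⟩ : τ.B) ∈ R
  · exact ⟨1, one_mem _, by rw [inv_one, one_mul]; exact Subgroup.mem_subgroupOf.mp hx1,
      by simp [hgv]⟩
  · have hne1 : ((⟨x, hx⟩ : τ.B) : τ.B ⧸ R) ≠ 1 := fun h => hx1 ((QuotientGroup.eq_one_iff _).mp h)
    refine ⟨y (⟨x, hx⟩ : τ.B), hyB _, ?_, ?_⟩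
    · have := inv_mem (hyeq _ ⟨x, hx⟩ rfl)
      simpa using this
    · have := (hcol _).2.2 hne1
      rwa [hαid, MonoidHom.id_apply] at this

/-- A regular triple. -/
theorem exists_triple (τ : Ctx G) (hu : ∀ r ∈ τ.sp, r ≠ 0 → ∃ m ∈ τ.M, endo G m = r) : ∃ w : Fin 3 → V, ∀ g : G, (∀ k, g • w k = w k) → g = 1 := by
  obtain ⟨v, hv⟩ := τ.exists_isMax
  by_cases hB : τ.B ≤ τ.cen v
  · exact τ.exists_triple_of_le hu hv hB
  · exact τ.exists_triple_of_not_le hv hB

end Ctx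

end Cfsg.Agent.Lib.BaseSize
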