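/-
Soluble completely reducible groups have a regular orbit on triples of vectors.
-/
import Cfsg.Agent.Lib.BaseSize.Imprimitive
import Cfsg.Agent.Lib.BaseSize.PrimitiveThree
import Mathlib.GroupTheory.Perm.Cycle.Type

set_option autoImplicit false
set_option linter.unusedSectionVars false
set_option linter.style.haveILetI false

namespace Cfsg.Agent.Lib.BaseSize

universe u v

theorem exists_prime_exponent {G : Type u} [Group G] {V : Type v} [AddCommGroup V] [Finite V]
    [Nontrivial V] [DistribMulAction G V] (hirr : Irr G V) :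
    ∃ p : ℕ, p.Prime ∧ ∀ w : V, p • w = 0 := by
  obtain ⟨p, hp, hpd⟩ := Nat.exists_prime_and_dvd (n := Nat.card V) Finite.one_lt_card.ne'
  haveI := Fact.mk hp
  haveI := Fintype.ofFinite V
  rw [Nat.card_eq_fintype_card] at hpd
  obtain ⟨x, hx⟩ := exists_prime_addOrderOf_dvd_card p hpd
  refine ⟨p, hp, fun w => ?_⟩
  rcases hirr (nsmulAddMonoidHom (α := V) p).ker (fun g y hy => by
    rw [AddMonoidHom.mem_ker, nsmulAddMonoidHom_apply] at hy ⊢
    rw [smul_comm, hy, smul_zero]) with h | h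
  · have h1 : x ∈ (nsmulAddMonoidHom (α := V) p).ker := by
      rw [AddMonoidHom.mem_ker, nsmulAddMonoidHom_apply, ← hx]
      exact addOrderOf_nsmul_eq_zero x
    rw [h, AddSubgroup.mem_bot] at h1
    rw [h1, addOrderOf_zero] at hx
    exact absurd hx.symm hp.ne_one
  · have h1 : w ∈ (nsmulAddMonoidHom (α := V) p).ker := h ▸ AddSubgroup.mem_top w
    exact h1

theorem five_of_no_sys {G : Type u} [Group G] [Finite G] {V : Type v} [AddCommGroup V]
    [DistribMulAction G V] [Finite V] [Nontrivial V] {p : ℕ} [Fact p.Prime] [Module (ZMod p) V]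
    (hsol : Group.IsSolvable G) (hirr : Irr G V)
    (hsys : ∀ (m : ℕ) (D : Fin m → AddSubgroup V), ¬ Sys G V D) : Five G V := by
  haveI : Finite (V ≃ₗ[ZMod p] V) :=
    Finite.of_injective (fun e => (e : V → V)) DFunLike.coe_injective
  let f : G →* (V ≃ₗ[ZMod p] V) :=
    { toFun := fun g =>
        { toLinearMap := (DistribSMul.toAddMonoidHom V g).toZModLinearMap p
          invFun := fun w => g⁻¹ • w
          left_inv := inv_smul_smul g
          right_inv := smul_inv_smul g }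
      map_one' := LinearEquiv.ext fun w => one_smul G w
      map_mul' := fun a b => LinearEquiv.ext fun w => mul_smul a b w }
  haveI := hsol
  have hrange : Group.IsSolvable f.range :=
    Group.isSolvable_of_surjective f.rangeRestrict_surjective
  obtain ⟨S, ⟨hfS, hS⟩, hSmax⟩ := Set.Finite.exists_maximal
    (s := {S : Subgroup (V ≃ₗ[ZMod p] V) | f.range ≤ S ∧ Group.IsSolvable S}) (Set.toFinite _)
    ⟨f.range, le_rfl, hrange⟩
  have hfg : ∀ g, f g ∈ S := fun g => hfS ⟨g, rfl⟩
  let f' : G → S := fun g => ⟨f g, hfg g⟩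
  obtain ⟨τ, hτ⟩ := exists_ctx S hS
    (fun U hU => hirr U fun g w hw => hU (f' g) w hw)
    (fun m D hD => hsys m D ⟨hD.two_le, hD.ne_bot, hD.indep, hD.top, fun g i => hD.perm (f' g) i⟩)
  obtain ⟨w, hw⟩ := τ.exists_triple (hτ fun T hST hT => le_antisymm (hSmax ⟨hfS.trans hST, hT⟩ hST) hST)
  exact five_of_hom f' (fun _ _ => rfl) (five_of_triple hS (p := p) (a := w) fun g hg x => by
    rw [hw g hg, one_smul])

theorem five_of_irr_aux : ∀ (n : ℕ) (G : Type u) [Group G] [Finite G] (V : Type v)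
    [AddCommGroup V] [DistribMulAction G V] [Finite V] [Nontrivial V],
    Group.IsSolvable G → Irr G V → Nat.card V = n → Five G V := by
  classical
  intro n
  induction n using Nat.strong_induction_on with | _ n ih => ?_
  intro G _ _ V _ _ _ _ hsol hirr hn
  subst hn
  by_cases hsys : ∃ (m : ℕ) (D : Fin m → AddSubgroup V), Sys G V D
  · obtain ⟨D, hD⟩ := Nat.find_spec hsys
    exact five_of_sys hsol hirr hD (fun m' D' h => Nat.find_min' hsys ⟨D', h⟩)
      fun H _ _ U _ _ _ _ hH hU hlt => ih _ hlt H U hH hU rfl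
  push Not at hsys
  obtain ⟨p, hp, hpV⟩ := exists_prime_exponent hirr
  haveI := Fact.mk hp
  letI : Module (ZMod p) V := AddCommGroup.zmodModule hpV
  exact five_of_no_sys (p := p) hsol hirr hsys

/-- Irreducible soluble actions have five regular orbits on triples. -/
theorem five_of_irr {G : Type u} [Group G] [Finite G] {V : Type v} [AddCommGroup V]
    [DistribMulAction G V] [Finite V] [Nontrivial V] (hsol : Group.IsSolvable G)
    (hirr : Irr G V) : Five G V :=
  five_of_irr_aux _ G V hsol hirr rfl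

/-- Every invariant subgroup has an invariant complement. -/
def CR (G : Type u) [Group G] (V : Type v) [AddCommGroup V] [DistribMulAction G V] : Prop :=
  ∀ U : AddSubgroup V, (∀ a : G, ∀ x ∈ U, a • x ∈ U) → ∃ W : AddSubgroup V,
    (∀ a : G, ∀ w ∈ W, a • w ∈ W) ∧ U ⊓ W = ⊥ ∧ U ⊔ W = ⊤

/-- The action on an invariant subgroup. -/
@[reducible] def subAction {G : Type u} [Group G] {V : Type v} [AddCommGroup V]
    [DistribMulAction G V] (U : AddSubgroup V) (hU : ∀ a : G, ∀ x ∈ U, a • x ∈ U) :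
    DistribMulAction G U where
  smul a x := ⟨a • (x : V), hU a x x.2⟩
  one_smul x := Subtype.ext (one_smul G (x : V))
  mul_smul a b x := Subtype.ext (mul_smul a b (x : V))
  smul_zero a := Subtype.ext (smul_zero a)
  smul_add a x y := Subtype.ext (smul_add a (x : V) y)

theorem cr_subAction {G : Type u} [Group G] {V : Type v} [AddCommGroup V]
    [DistribMulAction G V] (hcr : CR G V) (U : AddSubgroup V)
    (hU : ∀ a : G, ∀ x ∈ U, a • x ∈ U) : @CR G _ U _ (subAction U hU) := by
  letI := subAction U hU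
  intro U' hU'
  obtain ⟨W, hW, hinf, hsup⟩ := hcr (U'.map U.subtype) (by
    rintro a _ ⟨x, hx, rfl⟩
    exact ⟨a • x, hU' a x hx, rfl⟩)
  refine ⟨W.comap U.subtype, fun a w hw => hW a _ hw, ?_, ?_⟩
  · rw [AddSubgroup.eq_bot_iff_forall]
    rintro x ⟨hx1, hx2⟩
    exact Subtype.ext ((AddSubgroup.eq_bot_iff_forall _).mp hinf _ ⟨⟨x, hx1, rfl⟩, hx2⟩)
  · rw [eq_top_iff]
    intro x _
    obtain ⟨_, ⟨y, hy, rfl⟩, w, hw, hsum⟩ :=
      AddSubgroup.mem_sup.mp (hsup ▸ AddSubgroup.mem_top (x : V))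
    have hwU : w ∈ U := by
      rw [eq_sub_of_add_eq' hsum]; exact U.sub_mem x.2 y.2
    exact AddSubgroup.mem_sup.mpr ⟨y, hy, ⟨w, hwU⟩, hw, Subtype.ext hsum⟩

/-- Fixers of a family of vectors act trivially: the combination step. -/
theorem regular_family_sum {G : Type u} [Group G] {V : Type v} [AddCommGroup V]
    [DistribMulAction G V] {U W : AddSubgroup V} (hU : ∀ a : G, ∀ x ∈ U, a • x ∈ U)
    (hW : ∀ a : G, ∀ x ∈ W, a • x ∈ W) (hinf : U ⊓ W = ⊥) (hsup : U ⊔ W = ⊤) {ι : Type*}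
    {a b : ι → V} (haU : ∀ k, a k ∈ U) (hbW : ∀ k, b k ∈ W)
    (ha : ∀ g : G, (∀ k, g • a k = a k) → ∀ x ∈ U, g • x = x)
    (hb : ∀ g : G, (∀ k, g • b k = b k) → ∀ x ∈ W, g • x = x) (g : G)
    (hg : ∀ k, g • (a k + b k) = a k + b k) (x : V) : g • x = x := by
  have hsplit : ∀ k, g • a k = a k ∧ g • b k = b k := by
    intro k
    have h := hg k
    rw [smul_add] at h
    have h1 : g • a k - a k = b k - g • b k := by
      rw [sub_eq_sub_iff_add_eq_add, h, add_comm]
    have h2 : g • a k - a k = 0 := (AddSubgroup.eq_bot_iff_forall _).mp hinf _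
      ⟨U.sub_mem (hU g _ (haU k)) (haU k), h1 ▸ W.sub_mem (hbW k) (hW g _ (hbW k))⟩
    refine ⟨sub_eq_zero.mp h2, (sub_eq_zero.mp ?_).symm⟩
    rw [← h1, h2]
  obtain ⟨y, hy, w, hw, rfl⟩ := AddSubgroup.mem_sup.mp (hsup ▸ AddSubgroup.mem_top x)
  rw [smul_add, ha g (fun k => (hsplit k).1) y hy, hb g (fun k => (hsplit k).2) w hw]

theorem three_of_cr_aux : ∀ (n : ℕ) (G : Type u) [Group G] [Finite G] (V : Type v)
    [AddCommGroup V] [DistribMulAction G V] [Finite V],
    Group.IsSolvable G → CR G V → Nat.card V = n →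
      ∃ t : Fin 3 → V, ∀ g : G, (∀ k, g • t k = t k) → ∀ x : V, g • x = x := by
  classical
  intro n
  induction n using Nat.strong_induction_on with | _ n ih => ?_
  intro G _ _ V _ _ _ hsol hcr hn
  subst hn
  rcases subsingleton_or_nontrivial V with hV | hV
  · exact ⟨fun _ => 0, fun _ _ x => Subsingleton.elim _ _⟩
  by_cases hirr : Irr G V
  · obtain ⟨t, ht⟩ := five_of_irr hsol hirr
    exact ⟨t 0, fun g hg => (ht 0 0 g hg).2⟩
  simp only [Irr, not_forall, not_or] at hirr
  obtain ⟨U, hU, hUbot, hUtop⟩ := hirr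
  obtain ⟨W, hW, hinf, hsup⟩ := hcr U hU
  have hWtop : W ≠ ⊤ := fun h => hUbot (by rw [← hinf, h, inf_top_eq])
  have hlt : ∀ T : AddSubgroup V, T ≠ ⊤ → Nat.card T < Nat.card V := fun T hT =>
    lt_of_le_of_ne (Nat.card_le_card_of_injective _ Subtype.val_injective) fun h =>
      hT (AddSubgroup.eq_top_of_card_eq _ h)
  have key : ∀ T : AddSubgroup V, T ≠ ⊤ → (∀ a : G, ∀ x ∈ T, a • x ∈ T) →
      ∃ t : Fin 3 → V, (∀ k, t k ∈ T) ∧ ∀ g : G, (∀ k, g • t k = t k) → ∀ x ∈ T, g • x = x := by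
    intro T hT hTi
    letI := subAction T hTi
    obtain ⟨t, ht⟩ := ih _ (hlt T hT) G T hsol (cr_subAction hcr T hTi) rfl
    exact ⟨fun k => t k, fun k => (t k).2, fun g hg x hx =>
      congrArg Subtype.val (ht g (fun k => Subtype.ext (hg k)) ⟨x, hx⟩)⟩
  obtain ⟨a, haU, ha⟩ := key U hUtop hU
  obtain ⟨b, hbW, hb⟩ := key W hWtop hW
  exact ⟨fun k => a k + b k, regular_family_sum hU hW hinf hsup haU hbW ha hb⟩

/-- Soluble completely reducible actions: three vectors. -/
theorem three_of_cr {G : Type u} [Group G] [Finite G] {V : Type v} [AddCommGroup V]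
    [DistribMulAction G V] [Finite V] (hsol : Group.IsSolvable G) (hcr : CR G V) :
    ∃ t : Fin 3 → V, ∀ g : G, (∀ k, g • t k = t k) → ∀ x : V, g • x = x :=
  three_of_cr_aux _ G V hsol hcr rfl

end Cfsg.Agent.Lib.BaseSize
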