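/-
A primitive linear group of odd order has a regular orbit on pairs of vectors.
-/
import Cfsg.Agent.Lib.BaseSize.PrimitiveThree
import Cfsg.Agent.Lib.BaseSize.RigidOdd
import Mathlib.GroupTheory.SpecificGroups.Cyclic

set_option autoImplicit false
set_option linter.unusedSectionVars false
set_option linter.style.haveILetI false

open scoped commutatorElement

namespace Cfsg.Agent.Lib.BaseSize

universe u

/-- A finite abelian group whose elements of prime order lie in a cyclic subgroup is cyclic. -/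
theorem isCyclic_of_prime_torsion {Q : Type u} [CommGroup Q] [Finite Q] (H : Subgroup Q)
    [IsCyclic H] (h : ∀ q : ℕ, q.Prime → ∀ x : Q, x ^ q = 1 → x ∈ H) : IsCyclic Q := by
  classical
  haveI := Fintype.ofFinite Q
  have key : ∀ n : ℕ, 0 < n → Nat.card (powMonoidHom (α := Q) n).ker ≤ n := by
    intro n
    induction n using Nat.strong_induction_on with | _ n ih => ?_
    intro hn
    rcases Nat.lt_or_ge 1 n with h1 | h1
    swap
    · obtain rfl : n = 1 := by omega
      rw [show (powMonoidHom (α := Q) 1).ker = ⊥ by ext x; simp, Subgroup.card_bot]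
    obtain ⟨q, hq, ⟨m, rfl⟩⟩ := Nat.exists_prime_and_dvd (show n ≠ 1 by omega)
    have hm : 0 < m := Nat.pos_of_ne_zero fun h0 => by subst h0; simp at hn
    have hmlt : m < q * m := by
      have := Nat.mul_le_mul_right m hq.two_le
      omega
    have hqH : Nat.card (powMonoidHom (α := Q) q).ker ≤ q := by
      haveI := Fintype.ofFinite H
      have hle := IsCyclic.card_pow_eq_one_le (α := H) hq.pos
      refine le_trans ?_ hle
      rw [← Fintype.card_coe, ← Nat.card_eq_fintype_card]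
      refine Nat.card_le_card_of_injective (fun x => (⟨⟨(x : Q), h q hq x x.2⟩,
        Finset.mem_filter.mpr ⟨Finset.mem_univ _, Subtype.ext x.2⟩⟩ :
          ({a : H | a ^ q = 1} : Finset H))) fun a b hab => ?_
      exact Subtype.ext (congrArg (fun z : ({a : H | a ^ q = 1} : Finset H) => ((z : H) : Q)) hab)
    let f : (powMonoidHom (α := Q) (q * m)).ker →* (powMonoidHom (α := Q) m).ker :=
      ((powMonoidHom q).comp (Subgroup.subtype _)).codRestrict _ fun x => by
        show ((x : Q) ^ q) ^ m = 1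
        rw [← pow_mul]
        exact x.2
    rw [Subgroup.card_eq_card_quotient_mul_card_subgroup f.ker,
      Nat.card_congr (QuotientGroup.quotientKerEquivRange f).toEquiv]
    have h2 : Nat.card f.range ≤ m := le_trans
      (Nat.card_le_card_of_injective _ Subtype.val_injective) (ih m hmlt hm)
    have h3 : Nat.card f.ker ≤ q := le_trans (Nat.card_le_card_of_injective
      (fun x : f.ker => (⟨((x : (powMonoidHom (α := Q) (q * m)).ker) : Q),
        congrArg Subtype.val x.2⟩ : (powMonoidHom (α := Q) q).ker))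
      fun a b hab => Subtype.ext (Subtype.ext (congrArg
        (fun z : (powMonoidHom (α := Q) q).ker => (z : Q)) hab))) hqH
    calc Nat.card f.range * Nat.card f.ker ≤ m * q := Nat.mul_le_mul h2 h3
      _ = q * m := mul_comm _ _
  refine isCyclic_of_card_pow_eq_one_le fun n hn => le_trans ?_ (key n hn)
  rw [← Fintype.card_coe, ← Nat.card_eq_fintype_card]
  exact Nat.card_le_card_of_injective
    (fun x => (⟨x.1, (Finset.mem_filter.mp x.2).2⟩ : (powMonoidHom (α := Q) n).ker))
    fun a b hab => Subtype.ext (congrArg (fun z : (powMonoidHom (α := Q) n).ker => (z : Q)) hab)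

/-- A subgroup containing more than a third of a group of odd order is everything. -/
theorem eq_top_of_odd {X : Type u} [Group X] [Finite X] (hX : Odd (Nat.card X)) (K : Subgroup X)
    (bad : Finset X) (hbad : 3 * bad.card < 2 * Nat.card X) (hK : ∀ x, x ∉ bad → x ∈ K) : K = ⊤ := by
  classical
  by_contra hne
  haveI := Fintype.ofFinite X
  have h1 : 3 * Nat.card K ≤ Nat.card X := by
    rw [← Subgroup.card_mul_index K, mul_comm 3]
    refine Nat.mul_le_mul_left _ ?_
    have h2 : Odd K.index := Odd.of_dvd_nat hX (Subgroup.index_dvd_card K)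
    have h3 : K.index ≠ 1 := fun h => hne (Subgroup.index_eq_one.mp h)
    obtain ⟨c, hc⟩ := h2
    omega
  have h2 : Nat.card X ≤ Nat.card K + bad.card := by
    rw [Nat.card_eq_fintype_card, ← Finset.card_univ]
    refine le_trans (Finset.card_le_card (t := Finset.univ.filter (· ∈ K) ∪ bad) fun x _ => ?_) ?_
    · by_cases h : x ∈ bad
      · exact Finset.mem_union_right _ h
      · exact Finset.mem_union_left _ (Finset.mem_filter.mpr ⟨Finset.mem_univ _, hK x h⟩)
    · refine le_trans (Finset.card_union_le _ _) (le_of_eq ?_)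
      congr 1
      rw [Nat.card_eq_fintype_card, ← Fintype.card_subtype]
  omega

variable {p : ℕ} [Fact p.Prime] {V : Type u} [AddCommGroup V] [Module (ZMod p) V] [Finite V]
  [Nontrivial V] {G : Subgroup (V ≃ₗ[ZMod p] V)}

namespace Ctx

variable (τ : Ctx G)

theorem cen_cyclic {v : V} (hv : τ.IsMax v) (hodd : Odd (Nat.card G)) :
    ∃ t ∈ τ.cen v, τ.cen v ≤ Subgroup.zpowers t ⊔ τ.fix v := by
  classical
  haveI : Finite (V ≃ₗ[ZMod p] V) :=
    Finite.of_injective (fun e => (e : V → V)) DFunLike.coe_injective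
  obtain ⟨a, -, ha, -, -, hgen⟩ := τ.exists_gen_set hv (τ.N.primeFactors.filter (· ≠ 2))
    (fun q hq => ⟨Nat.prime_of_mem_primeFactors (Finset.mem_filter.mp hq).1,
      (Finset.mem_filter.mp hq).2⟩)
  have hgen' : τ.cen v ≤ Subgroup.zpowers a ⊔ τ.base v := by
    intro y hy
    refine τ.mem_of_parts ((le_sup_right : τ.M ≤ τ.base v).trans le_sup_right) hy.1 fun q hq hqN => ?_
    by_cases hq2 : q = 2
    · subst hq2
      refine Subgroup.mem_sup_right ((le_sup_right : τ.M ≤ τ.base v) ?_)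
      have h2 := (τ.part_pow hy hqN).2
      set x := y ^ (τ.N / 2)
      obtain ⟨c, hc⟩ := Odd.of_dvd_nat hodd (orderOf_dvd_natCard x)
      have : x = (x ^ 2) ^ (c + 1) := by
        rw [← pow_mul, show 2 * (c + 1) = orderOf x + 1 by omega, pow_succ, pow_orderOf_eq_one,
          one_mul]
      rw [this]
      exact pow_mem h2 _
    · refine hgen q (Finset.mem_filter.mpr ⟨Nat.mem_primeFactors.mpr ⟨hq, hqN, fun h0 =>
        not_squarefree_zero (h0 ▸ τ.sqf)⟩, hq2⟩) _ (τ.part_pow hy hqN)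
  have hcomm : ∀ r ∈ τ.cen v, ∀ s ∈ τ.cen v, r * s = s * r := by
    have hle : ∀ r ∈ τ.cen v, r * a = a * r → τ.cen v ≤ Subgroup.centralizer ({r} : Set G) := by
      intro r hr hra
      refine hgen'.trans (sup_le (Subgroup.zpowers_le.mpr
        (Subgroup.mem_centralizer_singleton_iff.mpr hra.symm)) (sup_le ?_ ?_))
      · exact fun l hl => Subgroup.mem_centralizer_singleton_iff.mpr (τ.cen_comm_fix hr hl).symm
      · exact fun m hm => Subgroup.mem_centralizer_singleton_iff.mpr (τ.cenM r hr.1 m hm).symm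
    intro r hr s hs
    have h1 := Subgroup.mem_centralizer_singleton_iff.mp (hle a ha rfl hr)
    exact (Subgroup.mem_centralizer_singleton_iff.mp (hle r hr h1 hs)).symm
  letI : CommGroup (τ.cen v) := { (inferInstance : Group (τ.cen v)) with
    mul_comm := fun r s => Subtype.ext (hcomm r r.2 s s.2) }
  set L := (τ.fix v).subgroupOf (τ.cen v)
  let π := QuotientGroup.mk' L
  let θ' : τ.cen v := ⟨τ.θ, τ.M_le_cen v τ.θ_mem⟩
  haveI : IsCyclic (τ.cen v ⧸ L) := by
    refine isCyclic_of_prime_torsion (Subgroup.zpowers (π θ')) fun q hq x => ?_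
    induction x using QuotientGroup.induction_on with | _ r => ?_
    intro hx
    have hl : (r : G) ^ q ∈ τ.fix v := by
      rw [← QuotientGroup.mk_pow, QuotientGroup.eq_one_iff, Subgroup.mem_subgroupOf] at hx
      exact hx
    have hrb : (r : G) ∈ τ.base v := by
      by_cases hqN : q ∣ τ.N
      · set l := (r : G) ^ q with hldef
        have hl1 : l ^ (τ.N / q) = 1 := by
          refine τ.fix_inter hv.1 ?_ (pow_mem hl _)
          rw [hldef, ← pow_mul, Nat.mul_div_cancel' hqN]
          exact τ.powN _ r.2.1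
        have hco : q.Coprime (τ.N / q) := by
          rw [hq.coprime_iff_not_dvd]
          intro hd
          have h3 : q * q ∣ τ.N := by
            have := Nat.mul_dvd_mul_left q hd
            rwa [Nat.mul_div_cancel' hqN] at this
          exact hq.not_isUnit (τ.sqf q h3)
        obtain ⟨j, hj⟩ := exists_pow_eq_self_of_coprime
          (Nat.Coprime.coprime_dvd_right (orderOf_dvd_of_pow_eq_one hl1) hco)
        have hs : ((r : G) * (l ^ j)⁻¹) ^ q = 1 := by
          have hc : Commute (r : G) (l ^ j)⁻¹ := ((Commute.self_pow _ q).pow_right j).inv_right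
          rw [hc.mul_pow, inv_pow, ← pow_mul, mul_comm j, pow_mul, hj, ← hldef, mul_inv_cancel]
        have h1 := τ.mem_base_of_pow_eq_one hv hq
          (mul_mem r.2 (inv_mem (pow_mem (τ.fix_le_cen hv.1 hl) j))) hs
        have h2 := mul_mem h1 ((le_sup_left : τ.fix v ≤ τ.base v) (pow_mem hl j))
        rwa [inv_mul_cancel_right] at h2
      · have hco : q.Coprime τ.N := hq.coprime_iff_not_dvd.mpr hqN
        have h1 : ((r : G) ^ q) ^ (q.gcdA τ.N) * ((r : G) ^ τ.N) ^ (q.gcdB τ.N) = r := by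
          rw [← zpow_natCast (r : G) q, ← zpow_natCast (r : G) τ.N, ← zpow_mul, ← zpow_mul,
            ← zpow_add, ← Nat.gcd_eq_gcd_ab, hco.gcd_eq_one, Nat.cast_one, zpow_one]
        rw [← h1]
        exact mul_mem ((le_sup_left : τ.fix v ≤ τ.base v) (zpow_mem hl _))
          ((le_sup_right : τ.M ≤ τ.base v) (zpow_mem (τ.powN _ r.2.1) _))
    have hle : τ.base v ≤ ((Subgroup.zpowers (π θ')).comap π).map (τ.cen v).subtype := by
      refine sup_le (fun l hl' => ⟨⟨l, τ.fix_le_cen hv.1 hl'⟩, ?_, rfl⟩) fun m hm => ?_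
      · refine Subgroup.mem_comap.mpr ?_
        rw [show π ⟨l, τ.fix_le_cen hv.1 hl'⟩ = 1 from
          (QuotientGroup.eq_one_iff _).mpr (Subgroup.mem_subgroupOf.mpr hl')]
        exact one_mem _
      · obtain ⟨j, hj⟩ := Subgroup.mem_zpowers_iff.mp (τ.gen m hm)
        exact ⟨θ' ^ j, by
          refine Subgroup.mem_comap.mpr ?_
          rw [map_zpow]
          exact zpow_mem (Subgroup.mem_zpowers _) j, by simp [θ', hj]⟩
    obtain ⟨r', hr', e⟩ := hle hrb
    rw [← show r' = r from Subtype.ext e]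
    exact hr'
  obtain ⟨t₀, ht₀⟩ := IsCyclic.exists_generator (α := τ.cen v ⧸ L)
  obtain ⟨t, rfl⟩ := QuotientGroup.mk_surjective t₀
  refine ⟨t, t.2, fun r hr => ?_⟩
  obtain ⟨j, hj⟩ := Subgroup.mem_zpowers_iff.mp (ht₀ (⟨r, hr⟩ : τ.cen v))
  rw [← QuotientGroup.mk_zpow, QuotientGroup.eq, Subgroup.mem_subgroupOf] at hj
  have h1 : ((t : G) ^ j)⁻¹ * r ∈ τ.fix v := by simpa using hj
  have h2 := mul_mem (Subgroup.mem_sup_left (T := τ.fix v)
    (zpow_mem (Subgroup.mem_zpowers (t : G)) j)) (Subgroup.mem_sup_right (S := Subgroup.zpowers (t : G)) h1)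
  rwa [mul_inv_cancel_left] at h2

theorem exists_pair (τ : Ctx G) (hodd : Odd (Nat.card G)) :
    ∃ v w : V, ∀ g : G, g • v = v → g • w = w → g = 1 := by
  classical
  haveI : Finite (V ≃ₗ[ZMod p] V) :=
    Finite.of_injective (fun e => (e : V → V)) DFunLike.coe_injective
  obtain ⟨v, hv⟩ := τ.exists_isMax
  obtain ⟨t, ht, hgen⟩ := τ.cen_cyclic hv hodd
  haveI := τ.B_normal
  set R := (τ.cen v).subgroupOf τ.B with hR
  have hRn : R.Normal := ⟨fun r hr x => by
    rw [hR, Subgroup.mem_subgroupOf] at hr ⊢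
    rw [show ((x * r * x⁻¹ : τ.B) : G) = ⁅(x : G), (r : G)⁆ * (r : G) by
      simp only [commutatorElement_def, Subgroup.coe_mul, Subgroup.coe_inv]; group]
    exact mul_mem (τ.M_le_cen v (τ.comm _ x.2 _ r.2)) hr⟩
  letI : CommGroup (τ.B ⧸ R) := { QuotientGroup.Quotient.group R with
    mul_comm := fun x y => by
      induction x using QuotientGroup.induction_on with | _ x => ?_
      induction y using QuotientGroup.induction_on with | _ y => ?_
      rw [← QuotientGroup.mk_mul, ← QuotientGroup.mk_mul, QuotientGroup.eq, hR,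
        Subgroup.mem_subgroupOf]
      refine τ.M_le_cen v ?_
      rw [show (((x * y)⁻¹ * (y * x) : τ.B) : G) = ⁅(y : G)⁻¹, (x : G)⁻¹⁆ by
        simp only [commutatorElement_def, Subgroup.coe_mul, Subgroup.coe_inv]; group]
      exact τ.comm _ (inv_mem y.2) _ (inv_mem x.2) }
  have hXodd : Odd (Nat.card (τ.B ⧸ R)) :=
    Odd.of_dvd_nat hodd ((Subgroup.card_quotient_dvd_card R).trans (Subgroup.card_subgroup_dvd_card _))
  obtain ⟨S, hS1, hS3, hSrig⟩ := Colour.exists_small_set (τ.B ⧸ R) hXodd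
  haveI := Fintype.ofFinite (τ.B ⧸ R)
  let y : τ.B ⧸ R → G := fun x => ((Quotient.out x : τ.B) : G)
  have hyB : ∀ x, y x ∈ τ.B := fun x => (Quotient.out x : τ.B).2
  have hyeq : ∀ (x : τ.B ⧸ R) (z : τ.B), (z : τ.B ⧸ R) = x → (z : G)⁻¹ * y x ∈ τ.cen v := by
    intro x z h
    have h1 : (z : τ.B ⧸ R) = ((Quotient.out x : τ.B) : τ.B ⧸ R) := by
      rw [h, QuotientGroup.out_eq']
    exact Subgroup.mem_subgroupOf.mp (QuotientGroup.eq.mp h1)
  have hyinj : ∀ i j, (y i)⁻¹ * y j ∈ τ.cen v → i = j := by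
    intro i j h
    rw [← QuotientGroup.out_eq' i, ← QuotientGroup.out_eq' j, QuotientGroup.eq]
    exact Subgroup.mem_subgroupOf.mpr h
  let F : τ.B ⧸ R → V := fun x => if x = 1 then t • v else if x ∈ S then 0 else y x • v
  have hone : (1 : G)⁻¹ * y 1 ∈ τ.cen v := by
    simpa using hyeq 1 1 rfl
  have hF : ∀ x, F x ∈ τ.weight v (y x) := by
    intro x
    by_cases hx : x = 1
    · subst hx
      simp only [F, if_pos]
      exact τ.weight_congr ht.1 (mul_mem (inv_mem ht) (by simpa using hone)) τ.smul_mem_weight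
    · simp only [F, if_neg hx]
      split_ifs
      · exact zero_mem _
      · exact τ.smul_mem_weight
  refine ⟨v, ∑ x, F x, fun g hgv hgF => ?_⟩
  let c : τ.B →* τ.B := (MulAut.conjNormal g : MulAut τ.B).toMonoidHom
  have hc : ∀ x : τ.B, (c x : G) = g * x * g⁻¹ := fun x => MulAut.conjNormal_apply g x
  have hcR : ∀ x : τ.B, x ∈ R ↔ c x ∈ R := by
    intro x
    rw [hR, Subgroup.mem_subgroupOf, Subgroup.mem_subgroupOf, hc]
    constructor
    · intro h
      refine ⟨τ.mem_B_conj g h.1, Subgroup.mem_centralizer_iff.mpr fun l hl => ?_⟩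
      have h1 := τ.cen_comm_fix h (τ.conj_mem_fix (g := g⁻¹) (inv_smul_eq_iff.mpr hgv.symm) hl)
      rw [inv_inv] at h1
      calc l * (g * x * g⁻¹) = g * ((g⁻¹ * l * g) * x) * g⁻¹ := by group
        _ = g * x * g⁻¹ * l := by rw [← h1]; group
    · intro h
      refine ⟨x.2, Subgroup.mem_centralizer_iff.mpr fun l hl => ?_⟩
      have h1 := τ.cen_comm_fix h (τ.conj_mem_fix hgv hl)
      calc l * (x : G) = g⁻¹ * ((g * l * g⁻¹) * (g * x * g⁻¹)) * g := by group
        _ = (x : G) * l := by rw [← h1]; group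
  let α : τ.B ⧸ R →* τ.B ⧸ R := QuotientGroup.map R R c fun x hx => (hcR x).mp hx
  have hαinj : Function.Injective α := by
    rw [injective_iff_map_eq_one]
    intro x
    induction x using QuotientGroup.induction_on with | _ x => ?_
    intro hx
    rw [QuotientGroup.eq_one_iff]
    exact (hcR x).mpr ((QuotientGroup.eq_one_iff (c x)).mp hx)
  let e := Equiv.ofBijective α ⟨hαinj, Finite.surjective_of_injective hαinj⟩
  have comp : ∀ x, g • F x = F (α x) := by
    intro x
    have hgP : ∀ z, g • F z ∈ τ.weight v (y (α z)) := fun z => by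
      refine τ.weight_congr (τ.mem_B_conj g (hyB z)) ?_ (τ.smul_mem_weight_conj hgv (hF z))
      have := hyeq (α z) (c (Quotient.out z)) (by
        conv_rhs => rw [← QuotientGroup.out_eq' z]
        rfl)
      rwa [hc] at this
    have h0 := τ.eq_zero_of_sum y hyB hyinj Finset.univ (fun z => g • F (e.symm z) - F z)
      (fun z _ => sub_mem (by
        have := hgP (e.symm z)
        rwa [show α (e.symm z) = z from e.apply_symm_apply z] at this) (hF z)) (by
        rw [Finset.sum_sub_distrib, ← Finset.smul_sum, Equiv.sum_comp e.symm F, hgF, sub_self])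
      (α x) (Finset.mem_univ _)
    rw [show e.symm (α x) = x from e.symm_apply_apply x, sub_eq_zero] at h0
    exact h0
  have hyv : ∀ x, y x • v ≠ 0 := fun x h => hv.1 ((smul_eq_zero_iff_eq _).mp h)
  have hαS : ∀ x ∈ S, α x ∈ S := by
    intro x hx
    have hx1 : x ≠ 1 := fun h => hS1 (h ▸ hx)
    have hx' : α x ≠ 1 := fun h => hx1 (hαinj (h.trans (map_one α).symm))
    by_contra hne
    have h1 := comp x
    simp only [F, if_neg hx1, if_neg hx', if_pos hx, if_neg hne, smul_zero] at h1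
    exact hyv _ h1.symm
  have hiter : ∀ (k : ℕ) (z : τ.B), α^[k] (z : τ.B ⧸ R) = ((MulAut.conjNormal (g ^ k) z : τ.B) : τ.B ⧸ R) := by
    intro k
    induction k with
    | zero => intro z; simp
    | succ k ih =>
      intro z
      rw [Function.iterate_succ_apply', ih, pow_succ', map_mul]
      rfl
  have hαid : ∀ x, α x = x := by
    intro x
    obtain ⟨j, hj⟩ := Odd.of_dvd_nat hodd (orderOf_dvd_natCard g)
    induction x using QuotientGroup.induction_on with | _ z => ?_
    have h1 := hiter (orderOf g) z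
    rw [pow_orderOf_eq_one, map_one, MulAut.one_apply, hj, Function.iterate_add_apply,
      Function.iterate_one, Function.iterate_mul] at h1
    have h2 : ∀ (m : ℕ) (w : τ.B ⧸ R), (α^[2])^[m] w = w := by
      intro m
      induction m with
      | zero => intro w; rfl
      | succ m ih => intro w; rw [Function.iterate_succ_apply', ih]; exact hSrig α hαinj hαS w
    rwa [h2] at h1
  let Φ : Subgroup G :=
    { carrier := {r | r ∈ τ.cen v ∧ r⁻¹ * g * r * g⁻¹ ∈ τ.fix v}
      one_mem' := ⟨one_mem _, by simp⟩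
      mul_mem' := fun {r s} hr hs => ⟨mul_mem hr.1 hs.1, by
        rw [show (r * s)⁻¹ * g * (r * s) * g⁻¹ =
          s⁻¹ * (r⁻¹ * g * r * g⁻¹) * s * (s⁻¹ * g * s * g⁻¹) by group]
        refine mul_mem ?_ hs.2
        rw [mul_assoc, ← τ.cen_comm_fix hs.1 hr.2, inv_mul_cancel_left]
        exact hr.2⟩
      inv_mem' := fun {r} hr => ⟨inv_mem hr.1, by
        rw [inv_inv, show r * g * r⁻¹ * g⁻¹ = r * (r⁻¹ * g * r * g⁻¹)⁻¹ * r⁻¹ by group,
          τ.cen_comm_fix hr.1 (inv_mem hr.2), mul_inv_cancel_right]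
        exact inv_mem hr.2⟩ }
  have hgt : g • t • v = t • v := by
    have h1 := comp 1
    simpa [F] using h1
  have hΦ : τ.cen v ≤ Φ := by
    refine hgen.trans (sup_le (Subgroup.zpowers_le.mpr ⟨ht, τ.mem_fix_of_smul hgv ht.1 hgt⟩) ?_)
    exact fun l hl => ⟨τ.fix_le_cen hv.1 hl, by
      rw [show l⁻¹ * g * l * g⁻¹ = l⁻¹ * (g * l * g⁻¹) by group]
      exact mul_mem (inv_mem hl) (τ.conj_mem_fix hgv hl)⟩
  have hM : ∀ m ∈ τ.M, g * m = m * g := by
    intro m hm
    have h1 := τ.fix_inter hv.1 (m := m⁻¹ * g * m * g⁻¹) (by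
      rw [show m⁻¹ * g * m * g⁻¹ = m⁻¹ * (g * m * g⁻¹) by group]
      exact mul_mem (inv_mem hm) (τ.M_normal.conj_mem m hm g)) (hΦ (τ.M_le_cen v hm)).2
    rw [show m⁻¹ * g * m * g⁻¹ = m⁻¹ * (g * m * g⁻¹) by group, inv_mul_eq_one] at h1
    exact (mul_inv_eq_iff_eq_mul.mp h1.symm)
  have hgood : ∀ x : τ.B, (x : τ.B ⧸ R) ∉ S → (x : G)⁻¹ * g * x * g⁻¹ ∈ τ.fix v := by
    intro x hxS
    by_cases hx1 : (x : τ.B ⧸ R) = 1
    · exact (hΦ (Subgroup.mem_subgroupOf.mp ((QuotientGroup.eq_one_iff _).mp hx1))).2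
    have h1 := comp (x : τ.B ⧸ R)
    rw [hαid] at h1
    simp only [F, if_neg hx1, if_neg hxS] at h1
    have hy1 := τ.mem_fix_of_smul hgv (hyB _) h1
    have hyx : (y x)⁻¹ * (x : G) ∈ τ.cen v := by
      have := inv_mem (hyeq _ x rfl)
      simpa using this
    rw [show (x : G)⁻¹ * g * x * g⁻¹ = ((y x)⁻¹ * (x : G))⁻¹ * ((y x)⁻¹ * g * y x * g⁻¹) *
      ((y x)⁻¹ * (x : G)) * (((y x)⁻¹ * (x : G))⁻¹ * g * ((y x)⁻¹ * (x : G)) * g⁻¹) by group]
    refine mul_mem ?_ (hΦ hyx).2
    rw [mul_assoc, ← τ.cen_comm_fix hyx hy1, inv_mul_cancel_left]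
    exact hy1
  have hall : ∀ (H : Subgroup G) (bad : Finset (τ.B ⧸ R)), 3 * bad.card < 2 * Nat.card (τ.B ⧸ R) →
      τ.cen v ≤ H → (∀ z : τ.B, (z : τ.B ⧸ R) ∉ bad → (z : G) ∈ H) → ∀ z : τ.B, (z : G) ∈ H := by
    intro H bad hbad hcen hH z
    have hK := eq_top_of_odd hXodd ((H.subgroupOf τ.B).map (QuotientGroup.mk' R)) bad hbad
      (fun x hx => by
        induction x using QuotientGroup.induction_on with | _ w => ?_
        exact ⟨w, hH w hx, rfl⟩)
    obtain ⟨w, hw, hwz⟩ := (hK ▸ Subgroup.mem_top (z : τ.B ⧸ R) :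
      (z : τ.B ⧸ R) ∈ (H.subgroupOf τ.B).map (QuotientGroup.mk' R))
    have h1 : (w : G)⁻¹ * (z : G) ∈ H :=
      hcen (Subgroup.mem_subgroupOf.mp (QuotientGroup.eq.mp hwz))
    have h2 := mul_mem (Subgroup.mem_subgroupOf.mp hw) h1
    rwa [mul_inv_cancel_left] at h2
  have hone_notin : (1 : τ.B ⧸ R) ∉ S := hS1
  have hcentral : ∀ x : τ.B, (x : τ.B ⧸ R) ∉ S → g * (x : G) = (x : G) * g := by
    intro x hx
    set l := (x : G)⁻¹ * g * x * g⁻¹ with hl
    have hlf := hgood x hx
    have hcl : ∀ z : τ.B, (z : G) ∈ Subgroup.centralizer ({l} : Set G) := by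
      refine hall _ (S ∪ S.image fun s => (x : τ.B ⧸ R)⁻¹ * s) ?_
        (fun r hr => Subgroup.mem_centralizer_singleton_iff.mpr (τ.cen_comm_fix hr hlf)) fun z hz => ?_
      · have h1 := Finset.card_union_le S (S.image fun s => (x : τ.B ⧸ R)⁻¹ * s)
        have h2 : (S.image fun s => (x : τ.B ⧸ R)⁻¹ * s).card ≤ S.card := Finset.card_image_le
        omega
      rw [Finset.mem_union, not_or, Finset.mem_image, not_exists] at hz
      have hxz : ((x * z : τ.B) : τ.B ⧸ R) ∉ S := fun h => hz.2 _ ⟨h, by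
        rw [QuotientGroup.mk_mul, inv_mul_cancel_left]⟩
      have h1 : (z : G)⁻¹ * l * z ∈ τ.fix v := by
        have := mul_mem (hgood (x * z) hxz) (inv_mem (hgood z hz.1))
        rwa [Subgroup.coe_mul, show ((x : G) * z)⁻¹ * g * ((x : G) * z) * g⁻¹ *
            ((z : G)⁻¹ * g * z * g⁻¹)⁻¹ = (z : G)⁻¹ * l * z by rw [hl]; group] at this
      have h2 : ⁅l⁻¹, (z : G)⁻¹⁆ = 1 := τ.fix_inter hv.1
        (τ.comm _ (inv_mem hlf.1) _ (inv_mem z.2)) (by
        rw [show ⁅l⁻¹, (z : G)⁻¹⁆ = l⁻¹ * ((z : G)⁻¹ * l * z) by simp only [commutatorElement_def]; group]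
        exact mul_mem (inv_mem hlf) h1)
      exact Subgroup.mem_centralizer_singleton_iff.mpr
        (Commute.inv_inv_iff.mp (commutatorElement_eq_one_iff_commute.mp h2)).eq.symm
    have h1 := τ.fix_inter hv.1 (τ.centre l hlf.1 fun z hz =>
      (Subgroup.mem_centralizer_singleton_iff.mp (hcl ⟨z, hz⟩)).symm) hlf
    rw [hl, show (x : G)⁻¹ * g * x * g⁻¹ = (x : G)⁻¹ * (g * x * g⁻¹) by group, inv_mul_eq_one] at h1
    exact mul_inv_eq_iff_eq_mul.mp h1.symm
  refine τ.eq_one_of_fix (τ.centB g hM fun z hz => ?_) hv.1 hgv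
  have hB : ∀ z : τ.B, (z : G) ∈ Subgroup.centralizer ({g} : Set G) := by
    refine hall _ S ?_ (fun r hr => ?_)
      fun z hz => Subgroup.mem_centralizer_singleton_iff.mpr (hcentral z hz).symm
    · omega
    · exact Subgroup.mem_centralizer_singleton_iff.mpr (hcentral ⟨r, hr.1⟩ (by
        rw [show ((⟨r, hr.1⟩ : τ.B) : τ.B ⧸ R) = 1 from
          (QuotientGroup.eq_one_iff _).mpr (Subgroup.mem_subgroupOf.mpr hr)]
        exact hone_notin)).symm
  exact (Subgroup.mem_centralizer_singleton_iff.mp (hB ⟨z, hz⟩)).symm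

end Ctx

end Cfsg.Agent.Lib.BaseSize
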