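/-
Completely reducible groups of odd order have a regular orbit on pairs of vectors.
-/
import Cfsg.Agent.Lib.BaseSize.Three
import Cfsg.Agent.Lib.BaseSize.PrimitiveTwoOdd
import Cfsg.Agent.Lib.OddOrder.FeitThompson

set_option autoImplicit false
set_option linter.unusedSectionVars false
set_option linter.style.haveILetI false

open scoped commutatorElement

namespace Cfsg.Agent.Lib.BaseSize

universe u v

theorem smul_pow_of_odd {G : Type u} [Group G] [Finite G] (hG : Odd (Nat.card G)) {V : Type v}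
    [MulAction G V] (g : G) {x : V} (k : ℕ) (h : (g ^ 2 ^ k) • x = x) : g • x = x := by
  induction k generalizing g with
  | zero => simpa using h
  | succ k ih =>
    have h1 : g ^ 2 • x = x := ih (g ^ 2) (by rwa [← pow_mul, ← pow_succ'])
    obtain ⟨c, hc⟩ := Odd.of_dvd_nat hG (orderOf_dvd_natCard g)
    have h2 : g ^ (2 * (c + 1)) = g := by
      rw [show 2 * (c + 1) = orderOf g + 1 by omega, pow_succ, pow_orderOf_eq_one, one_mul]
    have h3 : g ^ 2 ∈ MulAction.stabilizer G x := h1
    have h4 := pow_mem h3 (c + 1)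
    rw [← pow_mul, h2] at h4
    exact h4

/-- A regular pair gives two orbits of regular pairs. -/
theorem many_two {G : Type u} [Group G] [Finite G] (hG : Odd (Nat.card G)) {V : Type v}
    [AddCommGroup V] [DistribMulAction G V] [Nontrivial V] {a b : V}
    (h : ∀ g : G, g • a = a → g • b = b → ∀ x : V, g • x = x) : Many 2 (Fin 2) G V := by
  have single : ∀ u : V, u ≠ 0 → (∀ g : G, g • u = u → ∀ x : V, g • x = x) →
      Many 2 (Fin 2) G V := by
    intro u hu hreg
    refine ⟨![![u, u], ![u, 0]], fun i j g hg => ?_⟩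
    have h0 := hg 0
    have h1 := hg 1
    fin_cases i <;> fin_cases j <;> simp at h0 h1 ⊢
    · exact hreg g h0
    · exact absurd (h0.symm.trans h1) hu
    · exact absurd h1.symm hu
    · exact hreg g h0
  obtain ⟨z, hz⟩ := exists_ne (0 : V)
  by_cases hb : a = 0 ∨ a = b
  · rcases eq_or_ne b 0 with hb0 | hb0
    · refine single z hz fun g _ => h g ?_ ?_
      · rcases hb with hb | hb
        · rw [hb, smul_zero]
        · rw [hb, hb0, smul_zero]
      · rw [hb0, smul_zero]
    · refine single b hb0 fun g hg => h g ?_ hg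
      rcases hb with hb | hb
      · rw [hb, smul_zero]
      · rw [hb, hg]
  push Not at hb
  obtain ⟨ha, hab⟩ := hb
  by_cases hb0 : b = 0
  · exact single a ha fun g hg => h g hg (by rw [hb0, smul_zero])
  have swap : ∀ g : G, g • a = b → g • b = a → False := by
    intro g h1 h2
    refine hab ?_
    have := smul_pow_of_odd hG g (x := a) 1 (by rw [pow_one, pow_two, mul_smul, h1, h2])
    rw [← this, h1]
  refine ⟨![![a, b], ![b, a]], fun i j g hg => ?_⟩
  have h0 := hg 0
  have h1 := hg 1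
  fin_cases i <;> fin_cases j <;> simp at h0 h1 ⊢
  · exact h g h0 h1
  · exact swap g h0 h1
  · exact swap g h1 h0
  · exact h g h1 h0

/-- A two-colouring of the points with trivial stabiliser. -/
def ColOdd (m : ℕ) : Prop :=
  ∀ P : Subgroup (Equiv.Perm (Fin m)), Odd (Nat.card P) →
    (∀ W : Subgroup (Equiv.Perm (Fin m)), W ≠ ⊥ → (∀ g ∈ P, ∀ w ∈ W, g * w * g⁻¹ ∈ W) →
      ∀ a b, ∃ w ∈ W, w a = b) →
    ∃ S : Fin m → Fin 2, ∀ g ∈ P, (∀ a, S (g a) = S a) → g = 1

theorem two_of_no_sys {G : Type u} [Group G] [Finite G] {V : Type v} [AddCommGroup V]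
    [DistribMulAction G V] [Finite V] [Nontrivial V] {p : ℕ} [Fact p.Prime] [Module (ZMod p) V]
    (hG : Odd (Nat.card G)) (hirr : Irr G V)
    (hsys : ∀ (m : ℕ) (D : Fin m → AddSubgroup V), ¬ Sys G V D) : Many 2 (Fin 2) G V := by
  haveI : Finite (V ≃ₗ[ZMod p] V) :=
    Finite.of_injective (fun e => (e : V → V)) DFunLike.coe_injective
  let f : G →* (V ≃ₗ[ZMod p] V) :=
    { toFun := fun g =>
        { toLinearMap := (DistribSMul.toAddMonoidHom V g).toZModLinearMap p
          invFun := fun w => g⁻¹ • w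
          left_inv := inv_smul_smul g
          right_inv := smul_inv_smul g }
      map_one' := LinearEquiv.ext fun w => one_smul G w
      map_mul' := fun a b => LinearEquiv.ext fun w => mul_smul a b w }
  have hodd : Odd (Nat.card f.range) := Odd.of_dvd_nat hG (Subgroup.card_range_dvd f)
  have hsol : Group.IsSolvable f.range := OddOrder.FeitThompson.isSolvable_of_odd_card hodd
  obtain ⟨τ, -⟩ := exists_ctx f.range hsol
    (fun U hU => hirr U fun g w hw => hU ⟨f g, g, rfl⟩ w hw)
    (fun m D hD => hsys m D ⟨hD.two_le, hD.ne_bot, hD.indep, hD.top,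
      fun g i => hD.perm ⟨f g, g, rfl⟩ i⟩)
  obtain ⟨a, b, hab⟩ := τ.exists_pair hodd
  refine many_two hG (a := a) (b := b) fun g ha hb x => ?_
  exact LinearEquiv.congr_fun (congrArg Subtype.val (hab ⟨f g, g, rfl⟩ ha hb)) x

theorem two_odd_aux : ∀ (n : ℕ), (∀ m, m < n → ColOdd m) → ∀ (G : Type u) [Group G] [Finite G]
    (V : Type v) [AddCommGroup V] [DistribMulAction G V] [Finite V] [Nontrivial V],
    Odd (Nat.card G) → Irr G V → Nat.card V = n → Many 2 (Fin 2) G V := by
  classical
  intro n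
  induction n using Nat.strong_induction_on with | _ n ih => ?_
  intro hc G _ _ V _ _ _ _ hG hirr hn
  subst hn
  by_cases hsys : ∃ (m : ℕ) (D : Fin m → AddSubgroup V), Sys G V D
  swap
  · push Not at hsys
    obtain ⟨p, hp, hpV⟩ := exists_prime_exponent hirr
    haveI := Fact.mk hp
    letI : Module (ZMod p) V := AddCommGroup.zmodModule hpV
    exact two_of_no_sys (p := p) hG hirr hsys
  obtain ⟨m, ⟨D, hD⟩, hmin⟩ : ∃ m, (∃ D : Fin m → AddSubgroup V, Sys G V D) ∧
      ∀ (m' : ℕ) (D' : Fin m' → AddSubgroup V), Sys G V D' → m ≤ m' :=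
    ⟨Nat.find hsys, Nat.find_spec hsys, fun m' D' h => Nat.find_min' hsys ⟨D', h⟩⟩
  have hmV : m < Nat.card V := by
    choose w hw hw0 using fun i => hD.exists_ne i
    have hinj : Function.Injective (fun o : Option (Fin m) => o.elim 0 w) := by
      intro o o' h
      match o, o' with
      | none, none => rfl
      | none, some i => exact absurd h.symm (hw0 i)
      | some i, none => exact absurd h (hw0 i)
      | some i, some j => exact congrArg some (hD.eq_of_mem (hw0 i) (hw i) (show w i ∈ D j by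
          rw [show w i = w j from h]; exact hw j))
    have h1 := Nat.card_le_card_of_injective _ hinj
    rw [Nat.card_eq_fintype_card, Fintype.card_option, Fintype.card_fin] at h1
    omega
  set P := hD.toPerm.range
  have hP : Odd (Nat.card P) := Odd.of_dvd_nat hG (Subgroup.card_range_dvd hD.toPerm)
  obtain ⟨S, hS⟩ := hc m hmV P hP fun W hW hn => hD.transitive_of_normal hirr hmin W hW
    fun g w hw => hn _ ⟨g, rfl⟩ w hw
  have hm := hD.two_le
  refine many_of_sys hirr hD (C := Fin 2) (fun i a => S a + i) (fun i j g hg h => ?_)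
    fun H U _ _ hlt hU => ih _ hlt (fun m' hm' => hc m' (hm'.trans hlt)) H U
      (Odd.of_dvd_nat hG (Subgroup.card_subgroup_dvd_card H)) hU rfl
  have h' : ∀ a, S (g a) = S a + (i + j) := fun a =>
    (by decide : ∀ i j x y : Fin 2, x + j = y + i → x = y + (i + j)) i j _ _ (h a)
  have h2 : ∀ a, S ((g ^ 2) a) = S a := fun a => by
    rw [pow_two, Equiv.Perm.mul_apply, h', h']
    exact (by decide : ∀ y d : Fin 2, y + d + d = y) _ _
  have hg2 : (⟨g, hg⟩ : P) ^ 2 = 1 := Subtype.ext (hS _ (pow_mem hg 2) h2)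
  have hg1 : g = 1 := by
    obtain ⟨c, hc'⟩ := Odd.of_dvd_nat hP (orderOf_dvd_natCard (⟨g, hg⟩ : P))
    have h3 := pow_orderOf_eq_one (⟨g, hg⟩ : P)
    rw [hc', pow_succ, pow_mul, hg2, one_pow, one_mul] at h3
    exact congrArg Subtype.val h3
  refine ⟨?_, hg1⟩
  have h4 := h' ⟨0, by omega⟩
  rw [hg1, Equiv.Perm.one_apply] at h4
  exact (by decide : ∀ i j y : Fin 2, y = y + (i + j) → i = j) i j _ h4

theorem col_odd : ∀ m, ColOdd m := by
  classical
  intro m
  induction m using Nat.strong_induction_on with | _ m ih => ?_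
  intro P hP htr
  by_cases hP1 : P = ⊥
  · exact ⟨fun _ => 0, fun g hg _ => by rwa [hP1, Subgroup.mem_bot] at hg⟩
  obtain ⟨W, ⟨hWP, hWne, hWn⟩, hWmin⟩ := Set.Finite.exists_minimal
    (s := {W : Subgroup (Equiv.Perm (Fin m)) | W ≤ P ∧ W ≠ ⊥ ∧ ∀ g ∈ P, ∀ w ∈ W, g * w * g⁻¹ ∈ W})
    (Set.toFinite _) ⟨P, le_rfl, hP1, fun g hg w hw => mul_mem (mul_mem hg hw) (inv_mem hg)⟩
  have hWmin' : ∀ K : Subgroup (Equiv.Perm (Fin m)), K ≤ W →
      (∀ g ∈ P, ∀ w ∈ K, g * w * g⁻¹ ∈ K) → K = ⊥ ∨ K = W := fun K hK hn => by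
    by_cases h : K = ⊥
    · exact Or.inl h
    · exact Or.inr (le_antisymm hK (hWmin ⟨hK.trans hWP, h, hn⟩ hK))
  have hWodd : Odd (Nat.card W) := Odd.of_dvd_nat hP (Subgroup.card_dvd_of_le hWP)
  haveI : Group.IsSolvable W := OddOrder.FeitThompson.isSolvable_of_odd_card hWodd
  haveI : Nontrivial W := (Subgroup.nontrivial_iff_ne_bot W).mpr hWne
  have hWc : ∀ a ∈ W, ∀ b ∈ W, a * b = b * a := by
    rcases hWmin' ⁅W, W⁆ (Subgroup.commutator_le.mpr fun a ha b hb =>
        mul_mem (mul_mem (mul_mem ha hb) (inv_mem ha)) (inv_mem hb)) (fun g hg w hw => by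
      have : ⁅W, W⁆ ≤ ⁅W, W⁆.comap (MulAut.conj g).toMonoidHom := by
        refine Subgroup.commutator_le.mpr fun a ha b hb => ?_
        rw [Subgroup.mem_comap]
        show g * ⁅a, b⁆ * g⁻¹ ∈ ⁅W, W⁆
        rw [show g * ⁅a, b⁆ * g⁻¹ = ⁅g * a * g⁻¹, g * b * g⁻¹⁆ by
          simp only [commutatorElement_def]; group]
        exact Subgroup.commutator_mem_commutator (hWn g hg a ha) (hWn g hg b hb)
      exact this hw) with h | h
    · intro a ha b hb
      have h1 := Subgroup.commutator_mem_commutator ha hb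
      rwa [h, Subgroup.mem_bot, commutatorElement_eq_one_iff_mul_comm] at h1
    · exfalso
      have h1 : ⁅(⊤ : Subgroup W), (⊤ : Subgroup W)⁆ = ⊤ := by
        refine Subgroup.map_injective W.subtype_injective ?_
        rw [Subgroup.map_commutator, ← MonoidHom.range_eq_map, Subgroup.range_subtype, h]
      exact (Group.IsSolvable.commutator_lt_top_of_nontrivial W).ne h1
  letI : CommGroup W := { (inferInstance : Group W) with
    mul_comm := fun a b => Subtype.ext (hWc a a.2 b b.2) }
  letI : DistribMulAction P (Additive W) :=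
    { smul := fun g x => Additive.ofMul ⟨g * (x.toMul : W) * (g : Equiv.Perm (Fin m))⁻¹,
        hWn g g.2 _ (x.toMul : W).2⟩
      one_smul := fun x => Subtype.ext (show (1 : Equiv.Perm (Fin m)) * _ * 1⁻¹ = _ by simp; rfl)
      mul_smul := fun g h x => Subtype.ext (show ((g : Equiv.Perm (Fin m)) * h) * _ * _⁻¹ = _ by
        simp [mul_assoc]; rfl)
      smul_zero := fun g => Subtype.ext (show (g : Equiv.Perm (Fin m)) * 1 * _⁻¹ = 1 by simp)
      smul_add := fun g x y => Subtype.ext (show (g : Equiv.Perm (Fin m)) * (_ * _) * _⁻¹ = _ * _ * _⁻¹ * (_ * _ * _⁻¹) by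
        group) }
  have hsm : ∀ (g : P) (x : W), ((Additive.toMul (g • Additive.ofMul x) : W) : Equiv.Perm (Fin m)) =
      g * x * (g : Equiv.Perm (Fin m))⁻¹ := fun g x => rfl
  have hirr : Irr P (Additive W) := by
    intro U hU
    let K : Subgroup (Equiv.Perm (Fin m)) := (AddSubgroup.toSubgroup' U).map W.subtype
    rcases hWmin' K (Subgroup.map_subtype_le _) (by
        rintro g hg _ ⟨w, hw, rfl⟩
        exact ⟨Additive.toMul ((⟨g, hg⟩ : P) • Additive.ofMul w), hU ⟨g, hg⟩ _ hw, rfl⟩) with h | h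
    · left
      rw [AddSubgroup.eq_bot_iff_forall]
      intro x hx
      have h1 : ((Additive.toMul x : W) : Equiv.Perm (Fin m)) ∈ K := ⟨_, hx, rfl⟩
      rw [h, Subgroup.mem_bot] at h1
      exact Subtype.ext h1
    · right
      rw [eq_top_iff]
      intro x _
      have h1 : ((Additive.toMul x : W) : Equiv.Perm (Fin m)) ∈ K := h.symm ▸ (Additive.toMul x : W).2
      obtain ⟨w, hw, e⟩ := h1
      have : w = Additive.toMul x := Subtype.ext e
      subst this
      exact hw
  have htrW := htr W hWne hWn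
  have hm : 0 < m := by
    rcases Nat.eq_zero_or_pos m with rfl | h
    · exact absurd ((Subgroup.eq_bot_iff_forall _).mpr fun x _ => Subsingleton.elim x 1) hWne
    · exact h
  set a₀ : Fin m := ⟨0, hm⟩
  have hreg : Function.Bijective (fun w : W => (w : Equiv.Perm (Fin m)) a₀) := by
    refine ⟨fun u v h => Subtype.ext (Equiv.ext fun a => ?_), fun a => ?_⟩
    · obtain ⟨w, hw, rfl⟩ := htrW a₀ a
      have h' : (u : Equiv.Perm (Fin m)) a₀ = (v : Equiv.Perm (Fin m)) a₀ := h
      rw [← Equiv.Perm.mul_apply, ← Equiv.Perm.mul_apply, hWc _ u.2 _ hw, hWc _ v.2 _ hw,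
        Equiv.Perm.mul_apply, Equiv.Perm.mul_apply, h']
    · obtain ⟨w, hw, h⟩ := htrW a₀ a
      exact ⟨⟨w, hw⟩, h⟩
  let e : W ≃ Fin m := Equiv.ofBijective _ hreg
  have hcard : Nat.card W = m := by rw [Nat.card_congr e, Nat.card_fin]
  haveI : Nontrivial (Additive W) := inferInstanceAs (Nontrivial W)
  obtain ⟨t, ht⟩ := two_odd_aux (Nat.card (Additive W))
    (fun m' hm' => ih m' (by rwa [Nat.card_congr Additive.toMul, hcard] at hm'))
    P (Additive W) hP hirr rfl
  obtain ⟨u, hu⟩ : ∃ u : W, u = Additive.toMul (t 0 0) := ⟨_, rfl⟩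
  obtain ⟨w, hw⟩ : ∃ w : W, w = Additive.toMul (t 0 1) := ⟨_, rfl⟩
  -- conjugation by a point stabiliser
  let conj : P → W → W := fun h x => Additive.toMul (h • Additive.ofMul x)
  have conj_val : ∀ h x, (conj h x : Equiv.Perm (Fin m)) = h * x * (h : Equiv.Perm (Fin m))⁻¹ :=
    fun h x => hsm h x
  have conj_inv : ∀ h x, conj h x⁻¹ = (conj h x)⁻¹ := fun h x => Subtype.ext (by
    rw [conj_val, Subgroup.coe_inv, Subgroup.coe_inv, conj_val]; group)
  have conj_inj : ∀ h x y, conj h x = conj h y → x = y := fun h x y hxy => by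
    have := congrArg Subtype.val hxy
    rw [conj_val, conj_val] at this
    exact Subtype.ext (mul_left_cancel (mul_right_cancel this))
  have conj_smul : ∀ (h : P) (x : W), conj h x = x ↔ h • Additive.ofMul x = Additive.ofMul x :=
    fun h x => ⟨fun e => congrArg Additive.ofMul e, fun e => congrArg Additive.toMul e⟩
  have hfix : ∀ h : P, conj h u = u → conj h w = w → ∀ x, conj h x = x := fun h h1 h2 x => by
    have h3 := (ht 0 0 h fun k => by
      fin_cases k
      · subst hu; exact (conj_smul h _).mp h1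
      · subst hw; exact (conj_smul h _).mp h2).2 (Additive.ofMul x)
    exact (conj_smul h x).mpr h3
  have hpow : ∀ (h : P) (x : W) (k : ℕ), conj (h ^ 2 ^ k) x = x → conj h x = x := fun h x k e =>
    (conj_smul h x).mpr (smul_pow_of_odd hP h k ((conj_smul _ x).mp e))
  have conj_mul : ∀ (h h' : P) x, conj (h * h') x = conj h (conj h' x) := fun h h' x =>
    congrArg Additive.toMul (mul_smul h h' (Additive.ofMul x))
  have hne : ∀ x : W, x ≠ 1 → x⁻¹ ≠ x := fun x hx e => by
    obtain ⟨c, hc⟩ := Odd.of_dvd_nat hWodd (orderOf_dvd_natCard x)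
    have h2 : x ^ 2 = 1 := by rw [pow_two]; nth_rewrite 1 [← e]; exact inv_mul_cancel x
    have h3 := pow_orderOf_eq_one x
    rw [hc, pow_succ, pow_mul, h2, one_pow, one_mul] at h3
    exact hx h3
  obtain ⟨T, hT1, hTprod, hTcop, hTfix⟩ : ∃ T : Finset W, T.Nonempty ∧ ∏ x ∈ T, x = 1 ∧
      T.card.Coprime m ∧ ∀ h : P, (∀ x ∈ T, conj h x ∈ T) → ∀ x, conj h x = x := by
    have hmodd : Odd m := hcard ▸ hWodd
    have h2m : Nat.Coprime 2 m := Nat.coprime_two_left.mpr hmodd
    have single : ∀ x : W, x ≠ 1 → (∀ h : P, conj h x = x → ∀ z, conj h z = z) →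
        ∃ T : Finset W, T.Nonempty ∧ ∏ x ∈ T, x = 1 ∧
          T.card.Coprime m ∧ ∀ h : P, (∀ x ∈ T, conj h x ∈ T) → ∀ x, conj h x = x := by
      intro x hx hreg
      refine ⟨{x, x⁻¹}, Finset.insert_nonempty _ _, ?_, ?_, fun h hh => hreg h (hpow h x 1 ?_)⟩
      · rw [Finset.prod_pair (hne x hx).symm, mul_inv_cancel]
      · rw [Finset.card_pair (hne x hx).symm]; exact h2m
      · rw [pow_one, pow_two, conj_mul]
        have h1 := hh x (Finset.mem_insert_self _ _)
        simp only [Finset.mem_insert, Finset.mem_singleton] at h1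
        rcases h1 with h1 | h1 <;> simp only [h1, conj_inv, inv_inv]
    by_cases hu1 : u = 1
    · by_cases hw1 : w = 1
      · refine ⟨{1}, Finset.singleton_nonempty 1, by simp, by simp, fun h _ => hfix h ?_ ?_⟩
        · rw [hu1]; exact Subtype.ext (by rw [conj_val]; simp)
        · rw [hw1]; exact Subtype.ext (by rw [conj_val]; simp)
      · exact single w hw1 fun h h1 => hfix h (by rw [hu1]; exact Subtype.ext (by rw [conj_val]; simp)) h1
    by_cases hw1 : w = 1 ∨ w = u ∨ w = u⁻¹
    · refine single u hu1 fun h h1 => hfix h h1 ?_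
      rcases hw1 with e | e | e
      · rw [e]; exact Subtype.ext (by rw [conj_val]; simp)
      · rw [e, h1]
      · rw [e, conj_inv, h1]
    push Not at hw1
    obtain ⟨hw1, hwu, hwu'⟩ := hw1
    have hu' := hne u hu1
    have hw' := hne w hw1
    have huw' : u ≠ w⁻¹ := fun e => hwu' (by rw [e, inv_inv])
    have hui : u⁻¹ ≠ w⁻¹ := fun e => hwu (inv_injective e).symm
    refine ⟨{u, u⁻¹, w, w⁻¹}, Finset.insert_nonempty _ _, ?_, ?_, fun h hh => hfix h ?_ ?_⟩
    · rw [Finset.prod_insert (by simp [hu'.symm, hwu.symm, huw']),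
        Finset.prod_insert (by simp [hwu'.symm, hui]), Finset.prod_pair hw'.symm]
      simp
    · rw [Finset.card_insert_of_notMem (by simp [hu'.symm, hwu.symm, huw']),
        Finset.card_insert_of_notMem (by simp [hwu'.symm, hui]), Finset.card_pair hw'.symm]
      exact Nat.Coprime.mul_left h2m h2m
    all_goals
      have h1 := hh u (by simp)
      have h2 := hh w (by simp)
      simp only [Finset.mem_insert, Finset.mem_singleton] at h1 h2
      refine hpow h _ 2 ?_
      rw [show h ^ 2 ^ 2 = h * (h * (h * h)) by norm_num [pow_succ, mul_assoc], conj_mul, conj_mul, conj_mul]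
      rcases h1 with h1 | h1 | h1 | h1 <;> rcases h2 with h2 | h2 | h2 | h2
      all_goals
        first
        | (simp only [h1, h2, conj_inv, inv_inv]; done)
        | (exact absurd (conj_inj h _ _ (h2.trans h1.symm)) hwu)
        | (refine absurd (conj_inj h w u⁻¹ ?_) hwu'; simp [conj_inv, h1, h2]; done)
  refine ⟨fun a => if e.symm a ∈ T then 0 else 1, fun g hg hgS => ?_⟩
  obtain ⟨n, hn⟩ : ∃ n : W, n = e.symm (g a₀) := ⟨_, rfl⟩
  have hna : (n : Equiv.Perm (Fin m)) a₀ = g a₀ := by
    rw [hn]; exact e.apply_symm_apply (g a₀)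
  let h : P := ⟨(n : Equiv.Perm (Fin m))⁻¹ * g, mul_mem (inv_mem (hWP n.2)) hg⟩
  have hh0 : (h : Equiv.Perm (Fin m)) a₀ = a₀ := by
    show ((n : Equiv.Perm (Fin m))⁻¹ * g) a₀ = a₀
    rw [Equiv.Perm.mul_apply, ← hna]; simp
  have hh0' : (h : Equiv.Perm (Fin m))⁻¹ a₀ = a₀ := by rw [Equiv.Perm.inv_eq_iff_eq, hh0]
  have hmap : ∀ x : W, g (e x) = e (n * conj h x) := fun x => by
    show g ((x : Equiv.Perm (Fin m)) a₀) = ((n * conj h x : W) : Equiv.Perm (Fin m)) a₀
    rw [Subgroup.coe_mul, conj_val, Equiv.Perm.mul_apply, Equiv.Perm.mul_apply,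
      Equiv.Perm.mul_apply, hh0']
    show _ = (n : Equiv.Perm (Fin m)) ((((n : Equiv.Perm (Fin m))⁻¹ * g)) ((x : Equiv.Perm (Fin m)) a₀))
    simp
  have hmem : ∀ x ∈ T, n * conj h x ∈ T := fun x hx => by
    have := hgS (e x)
    simp only [hmap, e.symm_apply_apply, if_pos hx] at this
    by_contra hne'
    rw [if_neg hne'] at this
    exact absurd this (by decide)
  have hinj : Set.InjOn (fun x => n * conj h x) T := fun a _ b _ hab =>
    conj_inj h a b (mul_left_cancel hab)
  have himg : T.image (fun x => n * conj h x) = T :=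
    Finset.eq_of_subset_of_card_le (fun z hz => by
      obtain ⟨x, hx, rfl⟩ := Finset.mem_image.mp hz
      exact hmem x hx) (by rw [Finset.card_image_of_injOn hinj])
  let χ : W →* W :=
    { toFun := conj h
      map_one' := Subtype.ext (by rw [conj_val]; simp)
      map_mul' := fun a b => Subtype.ext (by simp only [conj_val, Subgroup.coe_mul]; group) }
  have hn1 : n = 1 := by
    have h1 : n ^ T.card = 1 := by
      have h2 : ∏ x ∈ T, (n * conj h x) = 1 := by
        have h4 := Finset.prod_image (f := fun z : W => z) hinj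
        rw [himg] at h4
        exact h4.symm.trans hTprod
      rw [Finset.prod_mul_distrib, Finset.prod_const,
        show ∏ x ∈ T, conj h x = χ (∏ x ∈ T, x) from (map_prod χ _ _).symm, hTprod, map_one,
        mul_one] at h2
      exact h2
    have h3 : orderOf n ∣ Nat.gcd T.card m :=
      Nat.dvd_gcd (orderOf_dvd_of_pow_eq_one h1) ((orderOf_dvd_natCard n).trans (dvd_of_eq hcard))
    rw [hTcop, Nat.dvd_one, orderOf_eq_one_iff] at h3
    exact h3
  have hall := hTfix h fun x hx => by
    have := hmem x hx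
    rwa [hn1, one_mul] at this
  refine Equiv.ext fun a => ?_
  obtain ⟨x, rfl⟩ := e.surjective a
  rw [hmap, hn1, one_mul, hall]
  rfl

/-- Irreducible groups of odd order: two orbits of regular pairs. -/
theorem two_of_irr {G : Type u} [Group G] [Finite G] {V : Type v} [AddCommGroup V]
    [DistribMulAction G V] [Finite V] [Nontrivial V] (hG : Odd (Nat.card G)) (hirr : Irr G V) :
    Many 2 (Fin 2) G V :=
  two_odd_aux _ (fun m _ => col_odd m) G V hG hirr rfl

theorem two_of_cr_aux : ∀ (n : ℕ) (G : Type u) [Group G] [Finite G] (V : Type v)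
    [AddCommGroup V] [DistribMulAction G V] [Finite V],
    Odd (Nat.card G) → CR G V → Nat.card V = n →
      ∃ t : Fin 2 → V, ∀ g : G, (∀ k, g • t k = t k) → ∀ x : V, g • x = x := by
  classical
  intro n
  induction n using Nat.strong_induction_on with | _ n ih => ?_
  intro G _ _ V _ _ _ hG hcr hn
  subst hn
  rcases subsingleton_or_nontrivial V with hV | hV
  · exact ⟨fun _ => 0, fun _ _ x => Subsingleton.elim _ _⟩
  by_cases hirr : Irr G V
  · obtain ⟨t, ht⟩ := two_of_irr hG hirr
    exact ⟨t 0, fun g hg => (ht 0 0 g hg).2⟩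
  simp only [Irr, not_forall, not_or] at hirr
  obtain ⟨U, hU, hUbot, hUtop⟩ := hirr
  obtain ⟨W, hW, hinf, hsup⟩ := hcr U hU
  have hWtop : W ≠ ⊤ := fun h => hUbot (by rw [← hinf, h, inf_top_eq])
  have hlt : ∀ T : AddSubgroup V, T ≠ ⊤ → Nat.card T < Nat.card V := fun T hT =>
    lt_of_le_of_ne (Nat.card_le_card_of_injective _ Subtype.val_injective) fun h =>
      hT (AddSubgroup.eq_top_of_card_eq _ h)
  have key : ∀ T : AddSubgroup V, T ≠ ⊤ → (∀ a : G, ∀ x ∈ T, a • x ∈ T) →
      ∃ t : Fin 2 → V, (∀ k, t k ∈ T) ∧ ∀ g : G, (∀ k, g • t k = t k) → ∀ x ∈ T, g • x = x := by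
    intro T hT hTi
    letI := subAction T hTi
    obtain ⟨t, ht⟩ := ih _ (hlt T hT) G T hG (cr_subAction hcr T hTi) rfl
    exact ⟨fun k => t k, fun k => (t k).2, fun g hg x hx =>
      congrArg Subtype.val (ht g (fun k => Subtype.ext (hg k)) ⟨x, hx⟩)⟩
  obtain ⟨a, haU, ha⟩ := key U hUtop hU
  obtain ⟨b, hbW, hb⟩ := key W hWtop hW
  exact ⟨fun k => a k + b k, regular_family_sum hU hW hinf hsup haU hbW ha hb⟩

/-- Completely reducible groups of odd order: two vectors. -/
theorem two_of_cr {G : Type u} [Group G] [Finite G] {V : Type v} [AddCommGroup V]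
    [DistribMulAction G V] [Finite V] (hG : Odd (Nat.card G)) (hcr : CR G V) :
    ∃ t : Fin 2 → V, ∀ g : G, (∀ k, g • t k = t k) → ∀ x : V, g • x = x :=
  two_of_cr_aux _ G V hG hcr rfl

end Cfsg.Agent.Lib.BaseSize
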