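/-
Two vectors for coprime soluble completely reducible actions.
-/
import Cfsg.Agent.Lib.BaseSize.TwoOdd
import Cfsg.Agent.Lib.BaseSize.Three
import Cfsg.Agent.Lib.BaseSize.ColourThree
import Cfsg.Agent.Lib.BaseSize.Pauli.Primitive

set_option autoImplicit false
set_option linter.unusedSectionVars false
set_option linter.style.haveILetI false

namespace Cfsg.Agent.Lib.BaseSize

universe u v

/-- A regular pair in characteristic `p` gives up to `p` orbits of regular pairs. -/
theorem many_of_pair {G : Type u} [Group G] [Finite G] {V : Type v} [AddCommGroup V]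
    [DistribMulAction G V] [Finite V] [Nontrivial V] {p : ℕ} (hp : p.Prime)
    (hpV : ∀ w : V, p • w = 0) (hpG : ¬ p ∣ Nat.card G) {c : ℕ} (hc : c ≤ p) {a b : V} (ha : a ≠ 0)
    (h : ∀ g : G, g • a = a → g • b = b → ∀ w : V, g • w = w) : Many 2 (Fin c) G V := by
  refine ⟨fun i => ![a, b + (i : ℕ) • a], fun i j g hg => ?_⟩
  have h0 : g • a = a := by simpa using hg 0
  have h1 : g • (b + (i : ℕ) • a) = b + (j : ℕ) • a := by simpa using hg 1
  have hgi : g • ((i : ℕ) • a) = (i : ℕ) • a := by rw [smul_comm, h0]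
  rw [smul_add, hgi] at h1
  set d : ℤ := (j : ℤ) - i with hd
  have hgb : g • b = b + d • a := by
    rw [hd, sub_smul, natCast_zsmul, natCast_zsmul, ← add_sub_assoc, ← h1, add_sub_cancel_right]
  have hn : ∀ n : ℕ, g ^ n • b = b + ((n : ℤ) * d) • a := by
    intro n
    induction n with
    | zero => simp
    | succ n ih =>
      rw [pow_succ', mul_smul, ih, smul_add, hgb, smul_comm, h0, add_assoc, ← add_smul, Nat.cast_succ]
      congr 2
      ring
  have hone := hn (orderOf g)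
  rw [pow_orderOf_eq_one, one_smul, left_eq_add] at hone
  haveI := Fact.mk hp
  have haddo : addOrderOf a = p := addOrderOf_eq_prime (hpV a) ha
  have hpd : (p : ℤ) ∣ (orderOf g : ℤ) * d :=
    haddo ▸ addOrderOf_dvd_iff_zsmul_eq_zero.mpr hone
  have hnd : ¬ (p : ℤ) ∣ (orderOf g : ℤ) := fun hh =>
    hpG ((Int.natCast_dvd_natCast.mp hh).trans (orderOf_dvd_natCard g))
  have hdd : (p : ℤ) ∣ d := ((Nat.prime_iff_prime_int.mp hp).dvd_mul.mp hpd).resolve_left hnd
  have hij : i = j := by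
    have hd0 : d = 0 := Int.eq_zero_of_abs_lt_dvd hdd (by
      rw [abs_lt]; constructor <;> (have := i.2; have := j.2; omega))
    exact Fin.ext (by omega)
  refine ⟨hij, h g h0 ?_⟩
  rw [hgb, hd, hij, sub_self, zero_smul, add_zero]

/-- A pair for a group without a system of imprimitivity. -/
theorem pair_of_no_sys {G : Type u} [Group G] [Finite G] {V : Type v} [AddCommGroup V]
    [DistribMulAction G V] [Finite V] [Nontrivial V] {p : ℕ} [Fact p.Prime] [Module (ZMod p) V]
    (hp2 : p ≠ 2) (hpG : ¬ p ∣ Nat.card G) (hsol : Group.IsSolvable G) (hirr : Irr G V)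
    (hsys : ∀ (m : ℕ) (D : Fin m → AddSubgroup V), ¬ Sys G V D) :
    ∃ a b : V, a ≠ 0 ∧ ∀ g : G, g • a = a → g • b = b → ∀ w : V, g • w = w := by
  haveI : Finite (V ≃ₗ[ZMod p] V) :=
    Finite.of_injective (fun e => (e : V → V)) DFunLike.coe_injective
  let f : G →* (V ≃ₗ[ZMod p] V) :=
    { toFun := fun g =>
        { toLinearMap := (DistribSMul.toAddMonoidHom V g).toZModLinearMap p
          invFun := fun w => g⁻¹ • w
          left_inv := inv_smul_smul g
          right_inv := smul_inv_smul g }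
      map_one' := LinearEquiv.ext fun w => one_smul G w
      map_mul' := fun a b => LinearEquiv.ext fun w => mul_smul a b w }
  haveI := hsol
  have hrange : Group.IsSolvable f.range :=
    Group.isSolvable_of_surjective f.rangeRestrict_surjective
  let f' : G → f.range := fun g => ⟨f g, g, rfl⟩
  obtain ⟨τ, -⟩ := exists_ctx f.range hrange
    (fun U hU => hirr U fun g w hw => hU (f' g) w hw)
    (fun m D hD => hsys m D ⟨hD.two_le, hD.ne_bot, hD.indep, hD.top, fun g i => hD.perm (f' g) i⟩)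
  obtain ⟨a, b, ha, hab⟩ := τ.exists_pair_coprime hp2 fun h => hpG (h.trans (Subgroup.card_range_dvd f))
  exact ⟨a, b, ha, fun g g1 g2 w => LinearEquiv.congr_fun
    (congrArg Subtype.val (hab (f' g) g1 g2)) w⟩

theorem many_coprime_aux : ∀ (n : ℕ) (G : Type u) [Group G] [Finite G] (V : Type v)
    [AddCommGroup V] [DistribMulAction G V] [Finite V] [Nontrivial V] (p : ℕ) (c : ℕ),
    Group.IsSolvable G → p.Prime → p ≠ 2 → (∀ w : V, p • w = 0) → ¬ p ∣ Nat.card G →
    (c = 3 ∧ p = 3 ∨ c = 5 ∧ 5 ≤ p) → Irr G V → Nat.card V = n → Many 2 (Fin c) G V := by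
  classical
  intro n
  induction n using Nat.strong_induction_on with | _ n ih => ?_
  intro G _ _ V _ _ _ _ p c hsol hp hp2 hpV hpG hc hirr hn
  subst hn
  have hcp : c ≤ p := by omega
  by_cases hsys : ∃ (m : ℕ) (D : Fin m → AddSubgroup V), Sys G V D
  swap
  · push Not at hsys
    haveI := Fact.mk hp
    letI : Module (ZMod p) V := AddCommGroup.zmodModule hpV
    obtain ⟨a, b, ha, hab⟩ := pair_of_no_sys (p := p) hp2 hpG hsol hirr hsys
    exact many_of_pair hp hpV hpG hcp ha hab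
  obtain ⟨D, hD⟩ := Nat.find_spec hsys
  have hmin : ∀ (m' : ℕ) (D' : Fin m' → AddSubgroup V), Sys G V D' → Nat.find hsys ≤ m' :=
    fun m' D' h => Nat.find_min' hsys ⟨D', h⟩
  have hIH : ∀ (H : Subgroup G) (U : AddSubgroup V) [DistribMulAction H U] [Nontrivial U],
      Nat.card U < Nat.card V → Irr H U → Many 2 (Fin c) H U := by
    intro H U _ _ hlt hU
    haveI := hsol
    exact ih _ hlt H U p c inferInstance hp hp2
      (fun w => Subtype.ext (by simpa using hpV (w : V)))
      (fun h => hpG (h.trans (Subgroup.card_subgroup_dvd_card H))) hc hU rfl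
  haveI : Nontrivial (Fin (Nat.find hsys)) := Fin.nontrivial_iff_two_le.mpr hD.two_le
  set π := hD.toPerm
  haveI := hsol
  have hPsol : Group.IsSolvable π.range := Group.isSolvable_of_surjective π.rangeRestrict_surjective
  have hPne : π.range ≠ ⊥ := by
    intro h
    obtain ⟨a, b, hab⟩ := exists_pair_ne (Fin (Nat.find hsys))
    obtain ⟨g, hg⟩ := hD.pretransitive hirr a b
    have : π g = 1 := (Subgroup.eq_bot_iff_forall _).mp h _ ⟨g, rfl⟩
    rw [← hD.toPerm_apply] at hg
    exact hab (by simpa [π] using (Equiv.congr_fun this a).symm.trans hg)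
  obtain ⟨k, hk⟩ := (Group.isSolvable_def π.range).1 hPsol
  have hex : ∃ n, derivedSeries π.range n = ⊥ := ⟨k, hk⟩
  obtain ⟨j, hj⟩ : ∃ j, Nat.find hex = j + 1 := by
    refine ⟨Nat.find hex - 1, ?_⟩
    have : Nat.find hex ≠ 0 := by
      intro h0
      have h1 := Nat.find_spec hex
      rw [h0, derivedSeries_zero] at h1
      exact hPne (by rw [← π.range.range_subtype, MonoidHom.range_eq_map, h1, Subgroup.map_bot])
    omega
  have hne : derivedSeries π.range j ≠ ⊥ := Nat.find_min hex (by omega)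
  have hab : ⁅derivedSeries π.range j, derivedSeries π.range j⁆ = ⊥ := by
    have := Nat.find_spec hex
    rwa [hj, derivedSeries_succ] at this
  set W := (derivedSeries π.range j).map π.range.subtype with hW
  have hWne : W ≠ ⊥ := fun h =>
    hne ((Subgroup.map_eq_bot_iff_of_injective _ π.range.subtype_injective).mp h)
  have hWP : W ≤ π.range := Subgroup.map_subtype_le _
  have hWn : ∀ g ∈ π.range, ∀ w ∈ W, g * w * g⁻¹ ∈ W := by
    rintro g hg _ ⟨w, hw, rfl⟩
    exact ⟨⟨g, hg⟩ * w * ⟨g, hg⟩⁻¹, (derivedSeries_normal π.range j).conj_mem w hw _, rfl⟩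
  have hWc : ∀ a ∈ W, ∀ b ∈ W, a * b = b * a := by
    rintro _ ⟨a, ha, rfl⟩ _ ⟨b, hb, rfl⟩
    have := Subgroup.commutator_mem_commutator ha hb
    rw [hab, Subgroup.mem_bot, commutatorElement_eq_one_iff_mul_comm] at this
    exact congrArg Subtype.val this
  rcases hc with ⟨rfl, hp3⟩ | ⟨rfl, -⟩
  swap
  · obtain ⟨col, hcol⟩ := Colour.five_colourings π.range W hWn hWc
      (hD.transitive_of_normal hirr hmin W hWne fun g w hw => hWn _ ⟨g, rfl⟩ w hw)
    exact many_of_sys hirr hD col hcol hIH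
  have hW1 : Nat.card W ≠ 1 := fun h => hWne (Subgroup.card_eq_one.mp h)
  obtain ⟨q, hq, hqd⟩ := Nat.exists_prime_and_dvd hW1
  haveI := Fact.mk hq
  obtain ⟨w₀, hw₀⟩ := exists_prime_orderOf_dvd_card' q hqd
  let Ω : Subgroup (Equiv.Perm (Fin (Nat.find hsys))) :=
    { carrier := {w | w ∈ W ∧ w ^ q = 1}
      one_mem' := ⟨one_mem _, one_pow _⟩
      mul_mem' := fun {a b} ha hb => ⟨mul_mem ha.1 hb.1, by
        rw [(show Commute a b from hWc a ha.1 b hb.1).mul_pow, ha.2, hb.2, one_mul]⟩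
      inv_mem' := fun {a} ha => ⟨inv_mem ha.1, by rw [inv_pow, ha.2, inv_one]⟩ }
  have hΩne : Ω ≠ ⊥ := by
    intro h
    have hmem : (w₀ : Equiv.Perm (Fin (Nat.find hsys))) ∈ Ω :=
      ⟨w₀.2, by rw [← hw₀, ← Subgroup.orderOf_coe, pow_orderOf_eq_one]⟩
    rw [h, Subgroup.mem_bot] at hmem
    rw [← Subgroup.orderOf_coe, hmem, orderOf_one] at hw₀
    exact hq.ne_one hw₀.symm
  have hΩn : ∀ g ∈ π.range, ∀ w ∈ Ω, g * w * g⁻¹ ∈ Ω := fun g hg w hw =>
    ⟨hWn g hg w hw.1, by rw [conj_pow, hw.2, mul_one, mul_inv_cancel]⟩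
  obtain ⟨col, hcol⟩ := Colour.three_colourings π.range
    (fun h => hpG (hp3 ▸ h.trans (Subgroup.card_range_dvd π))) Ω (fun w hw => hWP hw.1) hΩn
    (fun a ha b hb => hWc a ha.1 b hb.1) hq (fun w hw => hw.2)
    (hD.transitive_of_normal hirr hmin Ω hΩne fun g w hw => hΩn _ ⟨g, rfl⟩ w hw)
  exact many_of_sys hirr hD col hcol hIH

/-- Irreducible coprime soluble actions have a regular pair. -/
theorem pair_of_irr {G : Type u} [Group G] [Finite G] {V : Type v} [AddCommGroup V]
    [DistribMulAction G V] [Finite V] [Nontrivial V] (hsol : Group.IsSolvable G)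
    (hcop : (Nat.card G).Coprime (Nat.card V)) (hirr : Irr G V) :
    ∃ t : Fin 2 → V, ∀ g : G, (∀ k, g • t k = t k) → ∀ x : V, g • x = x := by
  obtain ⟨p, hp, hpV⟩ := exists_prime_exponent hirr
  haveI := Fact.mk hp
  obtain ⟨x, hx⟩ := exists_ne (0 : V)
  have hpd : p ∣ Nat.card V := addOrderOf_eq_prime (hpV x) hx ▸ addOrderOf_dvd_natCard x
  have hpG : ¬ p ∣ Nat.card G := fun h =>
    hp.one_lt.ne' (Nat.dvd_one.mp (hcop ▸ Nat.dvd_gcd h hpd))
  by_cases hp2 : p = 2
  · obtain ⟨t, ht⟩ := two_of_irr (Nat.odd_iff.mpr (by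
      have : ¬ 2 ∣ Nat.card G := hp2 ▸ hpG
      omega)) hirr
    exact ⟨t 0, fun g hg => (ht 0 0 g hg).2⟩
  obtain ⟨t, ht⟩ : ∃ t : Fin 2 → V, ∀ g : G, (∀ k, g • t k = t k) → ∀ x : V, g • x = x := by
    by_cases hp3 : p = 3
    · obtain ⟨t, ht⟩ := many_coprime_aux _ G V p 3 hsol hp hp2 hpV hpG (Or.inl ⟨rfl, hp3⟩) hirr rfl
      exact ⟨t 0, fun g hg => (ht 0 0 g hg).2⟩
    · have h4 : p ≠ 4 := fun h => absurd (h ▸ hp) (by norm_num)
      have := hp.two_le
      obtain ⟨t, ht⟩ := many_coprime_aux _ G V p 5 hsol hp hp2 hpV hpG (Or.inr ⟨rfl, by omega⟩) hirr rfl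
      exact ⟨t 0, fun g hg => (ht 0 0 g hg).2⟩
  exact ⟨t, ht⟩

theorem pair_of_cr_aux : ∀ (n : ℕ) (G : Type u) [Group G] [Finite G] (V : Type v)
    [AddCommGroup V] [DistribMulAction G V] [Finite V],
    Group.IsSolvable G → (Nat.card G).Coprime (Nat.card V) → CR G V → Nat.card V = n →
      ∃ t : Fin 2 → V, ∀ g : G, (∀ k, g • t k = t k) → ∀ x : V, g • x = x := by
  classical
  intro n
  induction n using Nat.strong_induction_on with | _ n ih => ?_
  intro G _ _ V _ _ _ hsol hcop hcr hn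
  subst hn
  rcases subsingleton_or_nontrivial V with hV | hV
  · exact ⟨fun _ => 0, fun _ _ x => Subsingleton.elim _ _⟩
  by_cases hirr : Irr G V
  · exact pair_of_irr hsol hcop hirr
  simp only [Irr, not_forall, not_or] at hirr
  obtain ⟨U, hU, hUbot, hUtop⟩ := hirr
  obtain ⟨W, hW, hinf, hsup⟩ := hcr U hU
  have hWtop : W ≠ ⊤ := fun h => hUbot (by rw [← hinf, h, inf_top_eq])
  have hlt : ∀ T : AddSubgroup V, T ≠ ⊤ → Nat.card T < Nat.card V := fun T hT =>
    lt_of_le_of_ne (Nat.card_le_card_of_injective _ Subtype.val_injective) fun h =>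
      hT (AddSubgroup.eq_top_of_card_eq _ h)
  have key : ∀ T : AddSubgroup V, T ≠ ⊤ → (∀ a : G, ∀ x ∈ T, a • x ∈ T) →
      ∃ t : Fin 2 → V, (∀ k, t k ∈ T) ∧ ∀ g : G, (∀ k, g • t k = t k) → ∀ x ∈ T, g • x = x := by
    intro T hT hTi
    letI := subAction T hTi
    obtain ⟨t, ht⟩ := ih _ (hlt T hT) G T hsol
      (hcop.coprime_dvd_right (AddSubgroup.card_addSubgroup_dvd_card T)) (cr_subAction hcr T hTi) rfl
    exact ⟨fun k => t k, fun k => (t k).2, fun g hg x hx =>
      congrArg Subtype.val (ht g (fun k => Subtype.ext (hg k)) ⟨x, hx⟩)⟩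
  obtain ⟨a, haU, ha⟩ := key U hUtop hU
  obtain ⟨b, hbW, hb⟩ := key W hWtop hW
  exact ⟨fun k => a k + b k, regular_family_sum hU hW hinf hsup haU hbW ha hb⟩

/-- Coprime soluble completely reducible actions: two vectors. -/
theorem pair_of_cr {G : Type u} [Group G] [Finite G] {V : Type v} [AddCommGroup V]
    [DistribMulAction G V] [Finite V] (hsol : Group.IsSolvable G)
    (hcop : (Nat.card G).Coprime (Nat.card V)) (hcr : CR G V) :
    ∃ x y : V, ∀ g : G, g • x = x → g • y = y → ∀ w : V, g • w = w := by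
  obtain ⟨t, ht⟩ := pair_of_cr_aux _ G V hsol hcop hcr rfl
  exact ⟨t 0, t 1, fun g h0 h1 => ht g fun k => by fin_cases k <;> assumption⟩

end Cfsg.Agent.Lib.BaseSize
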