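/-
Two points with trivial stabiliser for coprime soluble actions.
-/
import Cfsg.Agent.Lib.BaseSize.PairsCoprime
import Cfsg.Agent.Lib.Coprime.Action
import Cfsg.Agent.Lib.PGroups.Frattini

set_option autoImplicit false
set_option linter.unusedSectionVars false
set_option linter.style.haveILetI false

open scoped Pointwise

namespace Cfsg.Agent.Lib.BaseSize

universe u v

/-- Invariant subgroups have invariant complements, by averaging. -/
theorem cr_of_module {G : Type u} [Group G] [Finite G] {V : Type v} [AddCommGroup V]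
    [DistribMulAction G V] {p : ℕ} [Fact p.Prime] [Module (ZMod p) V]
    (hpG : ¬ p ∣ Nat.card G) : CR G V := by
  classical
  haveI := Fintype.ofFinite G
  intro U hU
  let U' : Submodule (ZMod p) V := AddSubgroup.toZModSubmodule p U
  obtain ⟨W₀, hW₀⟩ := U'.exists_isCompl
  let π := U'.projectionOnto W₀ hW₀
  set n : ZMod p := ((Nat.card G : ℕ) : ZMod p)⁻¹ with hn
  have hnG : n * ((Nat.card G : ℕ) : ZMod p) = 1 :=
    inv_mul_cancel₀ (by rwa [Ne, ZMod.natCast_eq_zero_iff])
  let e : V → V := fun v => n • ∑ g : G, g • (π (g⁻¹ • v)).1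
  have hemem : ∀ v, e v ∈ U := fun v =>
    (AddSubgroup.toZModSubmodule p U).smul_mem n (U'.sum_mem fun g _ => hU g _ (π (g⁻¹ • v)).2)
  have heU : ∀ v ∈ U, e v = v := by
    intro v hv
    have hterm : ∀ g : G, g • (π (g⁻¹ • v)).1 = v := by
      intro g
      have h1 : π (g⁻¹ • v) = ⟨g⁻¹ • v, hU g⁻¹ v hv⟩ :=
        Submodule.projectionOnto_apply_left hW₀ ⟨g⁻¹ • v, hU g⁻¹ v hv⟩
      rw [h1]
      exact smul_inv_smul g v
    show n • _ = v
    rw [Finset.sum_congr rfl (fun g _ => hterm g), Finset.sum_const, Finset.card_univ,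
      ← Nat.card_eq_fintype_card, ← Nat.cast_smul_eq_nsmul (ZMod p), smul_smul, hnG, one_smul]
  have hadd : ∀ a b, e (a + b) = e a + e b := fun a b => by
    simp only [e, smul_add, map_add, Submodule.coe_add, Finset.sum_add_distrib]
  have heq : ∀ (a : G) v, e (a • v) = a • e v := by
    intro a v
    have hsn : ∀ w : V, a • (n • w) = n • a • w := fun w =>
      ((DistribSMul.toAddMonoidHom V a).toZModLinearMap p).map_smul n w
    show n • _ = a • n • _
    rw [hsn]
    congr 1
    rw [Finset.smul_sum]
    refine Fintype.sum_equiv (M := V) (Equiv.mulLeft a⁻¹) _ _ fun g => ?_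
    rw [Equiv.coe_mulLeft, smul_smul a (a⁻¹ * g), mul_inv_cancel_left, mul_inv_rev, inv_inv, mul_smul]
  let E : V →+ V := AddMonoidHom.mk' e hadd
  refine ⟨E.ker, fun a w hw => ?_, ?_, ?_⟩
  · rw [AddMonoidHom.mem_ker] at hw ⊢
    show e (a • w) = 0
    rw [heq, show e w = 0 from hw, smul_zero]
  · rw [AddSubgroup.eq_bot_iff_forall]
    rintro x ⟨hxU, hxW⟩
    exact (heU x hxU).symm.trans hxW
  · rw [eq_top_iff]
    intro x _
    refine AddSubgroup.mem_sup.mpr ⟨e x, hemem x, x - e x, ?_, add_sub_cancel _ _⟩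
    rw [AddMonoidHom.mem_ker, map_sub]
    show e x - e (e x) = 0
    rw [heU _ (hemem x), sub_self]

/-- Invariant subgroups of an elementary abelian group have invariant complements. -/
theorem cr_of_coprime {G : Type u} [Group G] [Finite G] {V : Type v} [AddCommGroup V]
    [DistribMulAction G V] {p : ℕ} [Fact p.Prime] (hpV : ∀ w : V, p • w = 0)
    (hpG : ¬ p ∣ Nat.card G) : CR G V :=
  letI : Module (ZMod p) V := AddCommGroup.zmodModule hpV
  cr_of_module hpG

/-- Coprime soluble actions on elementary abelian groups: two vectors. -/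
theorem pair_elementary {G : Type u} [Group G] [Finite G] {V : Type v} [AddCommGroup V]
    [DistribMulAction G V] [Finite V] {p : ℕ} [Fact p.Prime] (hsol : Group.IsSolvable G)
    (hpV : ∀ w : V, p • w = 0) (hcop : (Nat.card G).Coprime (Nat.card V)) :
    ∃ x y : V, ∀ g : G, g • x = x → g • y = y → ∀ w : V, g • w = w := by
  rcases subsingleton_or_nontrivial V with hV | hV
  · exact ⟨0, 0, fun _ _ _ w => Subsingleton.elim _ _⟩
  obtain ⟨x, hx⟩ := exists_ne (0 : V)
  have hpd : p ∣ Nat.card V := addOrderOf_eq_prime (hpV x) hx ▸ addOrderOf_dvd_natCard x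
  refine pair_of_cr hsol hcop (cr_of_coprime hpV fun h => ?_)
  exact (Fact.out : p.Prime).one_lt.ne' (Nat.dvd_one.mp (hcop ▸ Nat.dvd_gcd h hpd))

/-- Coprime soluble actions on `p`-groups: two points. -/
theorem pair_pgroup {A : Type u} [Group A] [Finite A] {P : Type v} [Group P] [Finite P]
    [MulDistribMulAction A P] {p : ℕ} [Fact p.Prime] (hP : IsPGroup p P) (hsol : Group.IsSolvable A)
    (hcop : (Nat.card A).Coprime (Nat.card P)) :
    ∃ x y : P, ∀ a : A, a • x = x → a • y = y → ∀ w : P, a • w = w := by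
  classical
  have hinv : ∀ a : A, ∀ x ∈ frattini P, a • x ∈ frattini P := fun a x hx => by
    have h := Subgroup.characteristic_iff_map_le.mp (inferInstance : (frattini P).Characteristic)
      (MulDistribMulAction.toMulAut A P a)
    exact h ⟨x, hx, rfl⟩
  have hel := Cfsg.Agent.Lib.PGroups.frattiniQuotient_elemAb (p := p) hP
  have hpow : ∀ a : P ⧸ frattini P, a ^ p = 1 := by
    intro a
    obtain ⟨x, rfl⟩ := QuotientGroup.mk_surjective a
    rw [← QuotientGroup.mk_pow]
    exact (QuotientGroup.eq_one_iff _).mpr (Cfsg.Agent.Lib.PGroups.pow_mem_frattini hP x)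
  letI : CommGroup (P ⧸ frattini P) := { (inferInstance : Group (P ⧸ frattini P)) with
    mul_comm := fun a b => (Subgroup.Normal.quotient_commutative_iff_commutator_le.mpr
      (Cfsg.Agent.Lib.PGroups.commutator_le_frattini (p := p) hP)).is_comm.comm a b }
  let q : A → (P ⧸ frattini P →* P ⧸ frattini P) := fun a =>
    QuotientGroup.map _ _ (MulDistribMulAction.toMonoidHom P a) fun x hx => hinv a x hx
  have hq : ∀ a (x : P), q a (x : P ⧸ frattini P) = ((a • x : P) : P ⧸ frattini P) := fun a x => rfl
  letI : DistribMulAction A (Additive (P ⧸ frattini P)) :=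
    { smul := fun a v => Additive.ofMul (q a v.toMul)
      one_smul := fun v => by
        obtain ⟨x, hx⟩ := QuotientGroup.mk_surjective v.toMul
        show Additive.ofMul (q 1 v.toMul) = v
        rw [← hx, hq, one_smul, hx]
        rfl
      mul_smul := fun a b v => by
        obtain ⟨x, hx⟩ := QuotientGroup.mk_surjective v.toMul
        show Additive.ofMul (q (a * b) v.toMul) = Additive.ofMul (q a (q b v.toMul))
        rw [← hx, hq, hq, hq, mul_smul]
      smul_zero := fun a => congrArg Additive.ofMul (map_one (q a))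
      smul_add := fun a v w => congrArg Additive.ofMul (map_mul (q a) v.toMul w.toMul) }
  have hcardV : Nat.card (Additive (P ⧸ frattini P)) ∣ Nat.card P :=
    (Nat.card_congr Additive.toMul).dvd.trans (Subgroup.card_quotient_dvd_card _)
  obtain ⟨x, y, hxy⟩ := pair_elementary (G := A) (V := Additive (P ⧸ frattini P)) (p := p) hsol
    (fun w => congrArg Additive.ofMul (hpow w.toMul)) (hcop.coprime_dvd_right hcardV)
  obtain ⟨x', hx'⟩ := QuotientGroup.mk_surjective x.toMul
  obtain ⟨y', hy'⟩ := QuotientGroup.mk_surjective y.toMul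
  refine ⟨x', y', fun a hax hay w => ?_⟩
  have hfx : a • x = x := by
    show Additive.ofMul (q a x.toMul) = x
    rw [← hx', hq, hax, hx']
    rfl
  have hfy : a • y = y := by
    show Additive.ofMul (q a y.toMul) = y
    rw [← hy', hq, hay, hy']
    rfl
  have htriv := hxy a hfx hfy
  let C : Subgroup P :=
    { carrier := {z | a • z = z}
      one_mem' := smul_one a
      mul_mem' := fun {s t} hs ht => by show a • (s * t) = _; rw [smul_mul', hs, ht]
      inv_mem' := fun {s} hs => by show a • s⁻¹ = _; rw [smul_inv', hs] }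
  have hsup : C ⊔ frattini P = ⊤ := by
    rw [eq_top_iff]
    intro z _
    have hquot : ∀ b : Subgroup.zpowers a, z⁻¹ * b • z ∈ frattini P := by
      rintro ⟨_, n, rfl⟩
      rw [← QuotientGroup.eq]
      obtain ⟨m, hm : a ^ m = a ^ n⟩ :=
        (isOfFinOrder_of_finite a).mem_powers_iff_mem_zpowers.mpr ⟨n, rfl⟩
      show (z : P ⧸ frattini P) = ((a ^ n • z : P) : P ⧸ frattini P)
      rw [← hm]
      clear hm
      induction m with
      | zero => rw [pow_zero, one_smul]
      | succ m ih =>
        rw [pow_succ', mul_smul, ← hq, ← ih]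
        exact (congrArg Additive.toMul (htriv (Additive.ofMul (z : P ⧸ frattini P)))).symm
    obtain ⟨n, hn, hfix⟩ := Cfsg.Agent.Lib.Coprime.Action.exists_mul_fixed
      (A := Subgroup.zpowers a) (N := frattini P) (fun b x hx => hinv b x hx)
      ((hcop.coprime_dvd_left (Subgroup.card_subgroup_dvd_card _)).coprime_dvd_right
        (Subgroup.card_subgroup_dvd_card _))
      (Or.inl (Cfsg.Agent.Lib.Coprime.isSolvable_zpowers a)) (g := z) hquot
    have hC : z * n ∈ C := hfix ⟨a, Subgroup.mem_zpowers a⟩
    have h2 : z = z * n * n⁻¹ := by group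
    rw [h2]
    exact mul_mem (Subgroup.mem_sup_left hC) (Subgroup.mem_sup_right (inv_mem hn))
  have := frattini_nongenerating hsup
  have hw : w ∈ C := this ▸ Subgroup.mem_top w
  exact hw

/-- The action on an invariant subgroup. -/
@[reducible] def invAction {A : Type u} [Group A] {K : Type v} [Group K] [MulDistribMulAction A K]
    (P : Subgroup K) (hP : ∀ a : A, ∀ x ∈ P, a • x ∈ P) : MulDistribMulAction A P where
  smul a x := ⟨a • (x : K), hP a x x.2⟩
  one_smul x := Subtype.ext (one_smul A (x : K))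
  mul_smul a b x := Subtype.ext (mul_smul a b (x : K))
  smul_one a := Subtype.ext (smul_one a)
  smul_mul a x y := Subtype.ext (smul_mul' a (x : K) y)

/-- The common fixed points. -/
def fixedSub {A : Type u} [Group A] (K : Type v) [Group K] [MulDistribMulAction A K]
    (B : Subgroup A) : Subgroup K where
  carrier := {x | ∀ b ∈ B, b • x = x}
  one_mem' := fun b _ => smul_one b
  mul_mem' := fun {x y} hx hy b hb => by rw [smul_mul', hx b hb, hy b hb]
  inv_mem' := fun {x} hx b hb => by rw [smul_inv', hx b hb]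

/-- Fixed points of an invariant Sylow subgroup form a Sylow subgroup of the fixed points. -/
theorem card_fixed_inf {A : Type u} [Group A] [Finite A] {K : Type v} [Group K] [Finite K]
    [MulDistribMulAction A K] (hsol : Group.IsSolvable A) (hcop : (Nat.card A).Coprime (Nat.card K))
    {p : ℕ} [Fact p.Prime] (P : Sylow p K) (hP : ∀ a : A, ∀ x ∈ (P : Subgroup K), a • x ∈ (P : Subgroup K))
    (B : Subgroup A) :
    Nat.card (fixedSub K B ⊓ (P : Subgroup K) : Subgroup K) =
      p ^ (Nat.card (fixedSub K B)).factorization p := by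
  classical
  haveI := hsol
  haveI := Cfsg.Agent.Lib.Coprime.Action.finite_semi (A := B) (G := K)
  set C := fixedSub K B
  obtain ⟨R⟩ : Nonempty (Sylow p C) := inferInstance
  set R' := (R : Subgroup C).map C.subtype with hR'
  have hcopB : (Nat.card B).Coprime (Nat.card K) :=
    hcop.coprime_dvd_left (Subgroup.card_subgroup_dvd_card B)
  have hsolB : Group.IsSolvable B := inferInstance
  have hRinv : ∀ (b : B), ∀ x ∈ R', b • x ∈ R' := by
    rintro b x ⟨⟨y, hy⟩, hyR, rfl⟩
    show (b : A) • y ∈ R'
    rw [hy b b.2]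
    exact ⟨⟨y, hy⟩, hyR, rfl⟩
  obtain ⟨Q, hRQ, hQn⟩ := Cfsg.Agent.Lib.Coprime.exists_invariant_sylow_ge
    (Cfsg.Agent.Lib.Coprime.Action.actA_le_normalizer_grpG (A := B) (G := K))
    (by rw [Cfsg.Agent.Lib.Coprime.Action.card_actA, Cfsg.Agent.Lib.Coprime.Action.card_grpG]; exact hcopB)
    (Cfsg.Agent.Lib.Coprime.Action.solvable_or_grpG (Or.inl hsolB)) p
    (R'.map (Cfsg.Agent.Lib.Coprime.Action.embG B K)) (Subgroup.map_le_range _ _)
    ((R.2.map C.subtype).map _) (Cfsg.Agent.Lib.Coprime.Action.actA_le_normalizer_iff.mpr hRinv)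
  set Q₀ := ((Q : Subgroup (Cfsg.Agent.Lib.Coprime.Action.grpG B K)).map
    (Cfsg.Agent.Lib.Coprime.Action.grpG B K).subtype).comap (Cfsg.Agent.Lib.Coprime.Action.embG B K)
    with hQ₀
  have hmap : Q₀.map (Cfsg.Agent.Lib.Coprime.Action.embG B K) =
      (Q : Subgroup (Cfsg.Agent.Lib.Coprime.Action.grpG B K)).map
        (Cfsg.Agent.Lib.Coprime.Action.grpG B K).subtype :=
    Subgroup.map_comap_eq_self (Subgroup.map_subtype_le _)
  have hcard : Nat.card Q₀ = p ^ (Nat.card K).factorization p := by
    rw [← Cfsg.Agent.Lib.Coprime.Action.card_map_embG (A := B) Q₀, hmap,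
      Cfsg.Agent.Lib.Coprime.card_sylow_map, Cfsg.Agent.Lib.Coprime.Action.card_grpG]
  have hQ₁ : ∀ (b : B), ∀ x ∈ ((Sylow.ofCard Q₀ hcard : Sylow p K) : Subgroup K),
      b • x ∈ ((Sylow.ofCard Q₀ hcard : Sylow p K) : Subgroup K) := by
    rw [Sylow.coe_ofCard]
    rw [← hmap] at hQn
    exact Cfsg.Agent.Lib.Coprime.Action.actA_le_normalizer_iff.mp hQn
  have hRQ₀ : R' ≤ Q₀ := fun x hx =>
    Subgroup.mem_comap.mpr (hRQ ⟨x, hx, rfl⟩)
  obtain ⟨c, hc, hcQ⟩ := Cfsg.Agent.Lib.Coprime.Action.exists_conj_invariant_sylow (A := B) hcopB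
    (Or.inl hsolB) P (Sylow.ofCard Q₀ hcard) (fun b x hx => hP b x hx) hQ₁
  rw [Sylow.coe_ofCard] at hcQ
  have hcC : c ∈ C := fun b hb => hc ⟨b, hb⟩
  have hle : R'.map (MulAut.conj c⁻¹).toMonoidHom ≤ C ⊓ (P : Subgroup K) := by
    rintro _ ⟨x, hx, rfl⟩
    have hxC : x ∈ C := by
      obtain ⟨⟨y, hy⟩, -, rfl⟩ := hx
      exact hy
    refine ⟨?_, ?_⟩
    · show c⁻¹ * x * c⁻¹⁻¹ ∈ C
      exact mul_mem (mul_mem (inv_mem hcC) hxC) (inv_mem (inv_mem hcC))
    · have h1 : x ∈ MulAut.conj c • (P : Subgroup K) := hcQ ▸ hRQ₀ hx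
      rw [Subgroup.mem_pointwise_smul_iff_inv_smul_mem] at h1
      show MulAut.conj c⁻¹ x ∈ _
      rw [map_inv]
      exact h1
  have hcardR : Nat.card (R'.map (MulAut.conj c⁻¹).toMonoidHom) =
      p ^ (Nat.card C).factorization p := by
    rw [Subgroup.card_map_of_injective (MulAut.conj c⁻¹).injective, hR',
      Subgroup.card_map_of_injective C.subtype_injective, R.card_eq_multiplicity]
  have hdvd : Nat.card (C ⊓ (P : Subgroup K) : Subgroup K) ∣ p ^ (Nat.card C).factorization p := by
    obtain ⟨k, hk⟩ := IsPGroup.iff_card.mp (P.2.to_le (inf_le_right : C ⊓ (P : Subgroup K) ≤ P))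
    rw [hk]
    refine pow_dvd_pow p ((Fact.out : p.Prime).pow_dvd_iff_le_factorization Nat.card_pos.ne' |>.mp ?_)
    rw [← hk]
    exact Subgroup.card_dvd_of_le inf_le_left
  exact Nat.dvd_antisymm hdvd (hcardR ▸ Subgroup.card_dvd_of_le hle)

open scoped Classical in
theorem card_fixed_split {A : Type u} [Group A] [Fintype (Subgroup A)] {X : Type*}
    [MulAction A X] [Fintype X] (B : Subgroup A) :
    (Finset.univ.filter fun x : X => MulAction.stabilizer A x = B).card +
      ∑ C ∈ Finset.univ.filter (fun C => B < C),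
        (Finset.univ.filter fun x : X => MulAction.stabilizer A x = C).card =
      Nat.card {x : X // ∀ b ∈ B, b • x = x} := by
  have h1 := Finset.card_eq_sum_card_fiberwise
    (f := fun x : X => MulAction.stabilizer A x)
    (s := Finset.univ.filter fun x : X => ∀ b ∈ B, b • x = x)
    (t := insert B (Finset.univ.filter fun C => B < C)) (fun x hx => by
      rw [Finset.coe_filter, Set.mem_setOf_eq] at hx
      rw [Finset.mem_coe, Finset.mem_insert, Finset.mem_filter]
      rcases eq_or_lt_of_le (show B ≤ MulAction.stabilizer A x from fun b hb => hx.2 b hb) with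
        e | e
      · exact Or.inl e.symm
      · exact Or.inr ⟨Finset.mem_univ _, e⟩)
  have hne : B ∉ Finset.univ.filter fun C => B < C := by simp
  have hcongr : ∀ C, B ≤ C →
      ((Finset.univ.filter fun x : X => ∀ b ∈ B, b • x = x).filter
        fun x => MulAction.stabilizer A x = C) =
      Finset.univ.filter fun x : X => MulAction.stabilizer A x = C := by
    intro C hC
    ext x
    simp only [Finset.mem_filter, Finset.mem_univ, true_and]
    exact ⟨fun h => h.2, fun h => ⟨fun b hb => (h ▸ hC hb : b ∈ MulAction.stabilizer A x), h⟩⟩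
  rw [Finset.sum_insert hne, hcongr B le_rfl,
    Finset.sum_congr rfl fun C hC => by
      rw [hcongr C (Finset.mem_filter.mp hC).2.le]] at h1
  rw [Nat.card_eq_fintype_card, Fintype.card_subtype, h1]

/-- Actions with equally many fixed points for all subgroups have regular points together. -/
theorem exists_regular_of_marks {A : Type u} [Group A] [Finite A] {Y : Type v} {Z : Type*}
    [MulAction A Y] [MulAction A Z] [Finite Y] [Finite Z]
    (h : ∀ B : Subgroup A, Nat.card {y : Y // ∀ b ∈ B, b • y = y} =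
      Nat.card {z : Z // ∀ b ∈ B, b • z = z})
    (hz : ∃ z : Z, MulAction.stabilizer A z = ⊥) : ∃ y : Y, MulAction.stabilizer A y = ⊥ := by
  classical
  haveI := Fintype.ofFinite Y
  haveI := Fintype.ofFinite Z
  haveI : Fintype (Subgroup A) := Fintype.ofFinite _
  have key : ∀ (n : ℕ) (B : Subgroup A), B.index ≤ n →
      (Finset.univ.filter fun y : Y => MulAction.stabilizer A y = B).card =
      (Finset.univ.filter fun z : Z => MulAction.stabilizer A z = B).card := by
    intro n
    induction n with
    | zero =>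
      intro B hB
      exact absurd hB (not_le.mpr (Nat.pos_of_ne_zero Subgroup.index_ne_zero_of_finite))
    | succ n ih =>
      intro B hB
      have e1 := card_fixed_split (X := Y) B
      have e2 := card_fixed_split (X := Z) B
      have hs : ∑ C ∈ Finset.univ.filter (fun C => B < C),
            (Finset.univ.filter fun y : Y => MulAction.stabilizer A y = C).card =
          ∑ C ∈ Finset.univ.filter (fun C => B < C),
            (Finset.univ.filter fun z : Z => MulAction.stabilizer A z = C).card := by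
        refine Finset.sum_congr rfl fun C hC => ih C ?_
        have := Subgroup.index_strictAnti (Finset.mem_filter.mp hC).2
        omega
      rw [h B] at e1
      omega
  obtain ⟨z, hz⟩ := hz
  have h1 : 0 < (Finset.univ.filter fun z : Z => MulAction.stabilizer A z = ⊥).card :=
    Finset.card_pos.mpr ⟨z, by simp [hz]⟩
  rw [← key _ ⊥ le_rfl, Finset.card_pos] at h1
  obtain ⟨y, hy⟩ := h1
  exact ⟨y, (Finset.mem_filter.mp hy).2⟩

/-- Coprime soluble faithful actions: two points with trivial stabiliser. -/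
theorem pair_group {A : Type u} [Group A] [Finite A] {K : Type v} [Group K] [Finite K]
    [MulDistribMulAction A K] [FaithfulSMul A K] (hsol : Group.IsSolvable A)
    (hcop : (Nat.card A).Coprime (Nat.card K)) :
    ∃ x y : K, ∀ a : A, a • x = x → a • y = y → a = 1 := by
  classical
  haveI := hsol
  let ι := {p : ℕ // p ∈ (Nat.card K).primeFactors}
  haveI : ∀ i : ι, Fact (i : ℕ).Prime := fun i => ⟨Nat.prime_of_mem_primeFactors i.2⟩
  choose P hP using fun i : ι =>
    Cfsg.Agent.Lib.Coprime.Action.exists_invariant_sylow (A := A) (G := K) hcop (Or.inl hsol) (i : ℕ)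
  letI : ∀ i : ι, MulDistribMulAction A (P i : Subgroup K) := fun i => invAction _ (hP i)
  have hprod : ∀ B : Subgroup A,
      ∏ i : ι, Nat.card (fixedSub K B ⊓ (P i : Subgroup K) : Subgroup K) = Nat.card (fixedSub K B) := by
    intro B
    simp only [fun i : ι => card_fixed_inf hsol hcop (P i) (hP i) B]
    have hne : Nat.card (fixedSub K B) ≠ 0 := Nat.card_pos.ne'
    have h0 := Nat.prod_factorization_pow_eq_self hne
    rw [Finsupp.prod_of_support_subset _ (s := (Nat.card K).primeFactors) (by
      rw [Nat.support_factorization]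
      exact Nat.primeFactors_mono (Subgroup.card_subgroup_dvd_card _) Nat.card_pos.ne') _
      (fun i _ => pow_zero i)] at h0
    exact (Finset.prod_coe_sort (Nat.card K).primeFactors
      (fun p => p ^ (Nat.card (fixedSub K B)).factorization p)).trans h0
  have hmarks : ∀ B : Subgroup A,
      Nat.card {y : K × K // ∀ b ∈ B, b • y = y} =
        Nat.card {z : (∀ i : ι, (P i : Subgroup K)) × (∀ i : ι, (P i : Subgroup K)) //
          ∀ b ∈ B, b • z = z} := by
    intro B
    let eY : {y : K × K // ∀ b ∈ B, b • y = y} ≃ fixedSub K B × fixedSub K B :=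
      { toFun := fun y => (⟨y.1.1, fun b hb => congrArg Prod.fst (y.2 b hb)⟩,
          ⟨y.1.2, fun b hb => congrArg Prod.snd (y.2 b hb)⟩)
        invFun := fun c => ⟨((c.1 : K), (c.2 : K)), fun b hb => Prod.ext (c.1.2 b hb) (c.2.2 b hb)⟩
        left_inv := fun _ => rfl
        right_inv := fun _ => rfl }
    let eZ : {z : (∀ i : ι, (P i : Subgroup K)) × (∀ i : ι, (P i : Subgroup K)) //
          ∀ b ∈ B, b • z = z} ≃
        (∀ i : ι, (fixedSub K B ⊓ (P i : Subgroup K) : Subgroup K)) ×
          (∀ i : ι, (fixedSub K B ⊓ (P i : Subgroup K) : Subgroup K)) :=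
      { toFun := fun z => (fun i => ⟨z.1.1 i,
            fun b hb => congrArg Subtype.val (congrFun (congrArg Prod.fst (z.2 b hb)) i), (z.1.1 i).2⟩,
          fun i => ⟨z.1.2 i,
            fun b hb => congrArg Subtype.val (congrFun (congrArg Prod.snd (z.2 b hb)) i), (z.1.2 i).2⟩)
        invFun := fun c => ⟨(fun i => ⟨c.1 i, (c.1 i).2.2⟩, fun i => ⟨c.2 i, (c.2 i).2.2⟩),
          fun b hb => Prod.ext (funext fun i => Subtype.ext ((c.1 i).2.1 b hb))
            (funext fun i => Subtype.ext ((c.2 i).2.1 b hb))⟩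
        left_inv := fun _ => rfl
        right_inv := fun _ => rfl }
    rw [Nat.card_congr eY, Nat.card_congr eZ, Nat.card_prod, Nat.card_prod, Nat.card_pi, hprod]
  have hpairs : ∀ i : ι, ∃ x y : (P i : Subgroup K),
      ∀ a : A, a • x = x → a • y = y → ∀ w : (P i : Subgroup K), a • w = w :=
    fun i => pair_pgroup (p := (i : ℕ)) (P i).2 hsol
      (hcop.coprime_dvd_right (Subgroup.card_subgroup_dvd_card _))
  choose x y hxy using hpairs
  obtain ⟨⟨u, w⟩, huw⟩ := exists_regular_of_marks hmarks ⟨(x, y), by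
    rw [Subgroup.eq_bot_iff_forall]
    intro a ha
    have hfix : ∀ i, fixedSub K (Subgroup.zpowers a) ⊓ (P i : Subgroup K) = (P i : Subgroup K) := by
      intro i
      refine inf_eq_right.mpr fun k hk => ?_
      intro b hb
      have hle : Subgroup.zpowers a ≤ MulAction.stabilizer A k := by
        rw [Subgroup.zpowers_le, MulAction.mem_stabilizer_iff]
        exact congrArg Subtype.val (hxy i a (congrFun (congrArg Prod.fst ha) i)
          (congrFun (congrArg Prod.snd ha) i) ⟨k, hk⟩)
      exact hle hb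
    have h1 := hprod (Subgroup.zpowers a)
    simp only [hfix] at h1
    have h2 := hprod ⊥
    have hfix' : ∀ i, fixedSub K (⊥ : Subgroup A) ⊓ (P i : Subgroup K) = (P i : Subgroup K) := fun i =>
      inf_eq_right.mpr fun k _ b hb => by rw [Subgroup.mem_bot.mp hb, one_smul]
    simp only [hfix'] at h2
    have htop : fixedSub K (⊥ : Subgroup A) = ⊤ :=
      eq_top_iff.mpr fun k _ b hb => by rw [Subgroup.mem_bot.mp hb, one_smul]
    rw [htop, Subgroup.card_top] at h2
    have h3 : fixedSub K (Subgroup.zpowers a) = ⊤ :=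
      Subgroup.eq_top_of_card_eq _ (h1.symm.trans h2)
    refine FaithfulSMul.eq_of_smul_eq_smul fun k : K => ?_
    rw [one_smul]
    exact (h3 ▸ Subgroup.mem_top k : k ∈ fixedSub K (Subgroup.zpowers a)) a (Subgroup.mem_zpowers a)⟩
  refine ⟨u, w, fun a h1 h2 => ?_⟩
  exact (Subgroup.eq_bot_iff_forall _).mp huw a (Prod.ext h1 h2)

end Cfsg.Agent.Lib.BaseSize
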