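/-
A Hall subgroup of a π-soluble group meets two conjugates in the π-core.
-/
import Cfsg.Agent.Lib.BaseSize.CoprimePairs
import Cfsg.Agent.Lib.Cores.Pi

set_option autoImplicit false
set_option linter.unusedSectionVars false
set_option linter.style.haveILetI false

open scoped Pointwise

namespace Cfsg.Agent.Lib.BaseSize

universe u

variable {G : Type u} [Group G] [Finite G] {π : Set ℕ}

/-- Consecutive members of a π-soluble chain. -/
def PiStep (π : Set ℕ) (A B : Subgroup G) : Prop :=
  (∃ p ∈ π, p.Prime ∧ ∃ k : ℕ, A.relIndex B = p ^ k) ∨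
    (∀ q : ℕ, q.Prime → q ∣ A.relIndex B → q ∉ π)

theorem card_map_quot_eq (A B : Subgroup G) [A.Normal] :
    Nat.card (B.map (QuotientGroup.mk' A)) = A.relIndex B := by
  rw [← Subgroup.relIndex_ker, QuotientGroup.ker_mk']

/-- A Hall subgroup of a π-soluble group is soluble. -/
theorem solvable_of_piHall {n : ℕ} {N : Fin (n + 1) → Subgroup G} (h0 : N 0 = ⊥)
    (htop : N (Fin.last n) = ⊤) (hmono : Monotone N) (hn : ∀ i, (N i).Normal)
    (hstep : ∀ i : Fin n, PiStep π (N i.castSucc) (N i.succ)) {H : Subgroup G}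
    (hH : ∀ p : ℕ, p.Prime → p ∣ Nat.card H → p ∈ π) : Group.IsSolvable H := by
  suffices ∀ i : Fin (n + 1), Group.IsSolvable (H ⊓ N i : Subgroup G) by
    have h := this (Fin.last n)
    rwa [htop, inf_top_eq] at h
  intro i
  induction i using Fin.induction with
  | zero =>
    rw [h0, inf_bot_eq]
    exact Group.isSolvable_of_comm fun a b => Subsingleton.elim _ _
  | succ i ih =>
    haveI := ih
    haveI := hn i.castSucc
    set X : Subgroup G := H ⊓ N i.succ with hX
    let f : X →* G ⧸ N i.castSucc := (QuotientGroup.mk' (N i.castSucc)).comp X.subtype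
    have hker : f.ker ≤ (Subgroup.inclusion (inf_le_inf_left H (hmono (Fin.castSucc_le_succ i)) :
        H ⊓ N i.castSucc ≤ X)).range := by
      intro x hx
      have hx' : (x : G) ∈ N i.castSucc := (QuotientGroup.eq_one_iff _).mp hx
      exact ⟨⟨x, x.2.1, hx'⟩, Subtype.ext rfl⟩
    have hcard : Nat.card f.range ∣ (N i.castSucc).relIndex (N i.succ) := by
      have hle : f.range ≤ (N i.succ).map (QuotientGroup.mk' (N i.castSucc)) := by
        rintro _ ⟨x, rfl⟩
        exact ⟨x, x.2.2, rfl⟩
      rw [← card_map_quot_eq]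
      exact Subgroup.card_dvd_of_le hle
    haveI : Group.IsSolvable f.range := by
      rcases hstep i with ⟨p, -, hp, k, hk⟩ | hπ'
      · haveI := Fact.mk hp
        rw [hk] at hcard
        obtain ⟨j, -, hj⟩ := (Nat.dvd_prime_pow hp).mp hcard
        haveI : Group.IsNilpotent f.range := (IsPGroup.of_card hj).isNilpotent
        infer_instance
      · have h1 : Nat.card f.range = 1 := by
          by_contra hne
          obtain ⟨q, hq, hqd⟩ := Nat.exists_prime_and_dvd hne
          refine hπ' q hq (hqd.trans hcard) (hH q hq ?_)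
          exact hqd.trans ((Subgroup.card_range_dvd f).trans (Subgroup.card_dvd_of_le inf_le_left))
        haveI : Subsingleton f.range := (Nat.card_eq_one_iff_unique.mp h1).1
        exact Group.isSolvable_of_comm fun a b => Subsingleton.elim _ _
    exact Group.isSolvable_of_ker_le_range (Subgroup.inclusion (inf_le_inf_left H
      (hmono (Fin.castSucc_le_succ i)) : H ⊓ N i.castSucc ≤ X)) f.rangeRestrict
      (by rw [MonoidHom.ker_rangeRestrict]; exact hker)

/-- With trivial π-core the π'-core contains its centraliser. -/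
theorem centralizer_piCore_compl_le {n : ℕ} {N : Fin (n + 1) → Subgroup G} (h0 : N 0 = ⊥)
    (htop : N (Fin.last n) = ⊤) (hn : ∀ i, (N i).Normal)
    (hstep : ∀ i : Fin n, PiStep π (N i.castSucc) (N i.succ)) (hO : Cfsg.piCore π G = ⊥) :
    Subgroup.centralizer ((Cfsg.piCore πᶜ G : Subgroup G) : Set G) ≤ Cfsg.piCore πᶜ G := by
  classical
  set K := Cfsg.piCore πᶜ G with hK
  set C := Subgroup.centralizer (K : Set G) with hC
  haveI : K.Normal := Cfsg.piCore_normal _ _
  haveI : C.Normal := Subgroup.normal_centralizer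
  set D := C ⊓ K with hD
  haveI : D.Normal := Subgroup.normal_inf_normal C K
  have hKπ : ∀ q : ℕ, q.Prime → q ∣ Nat.card K → q ∉ π :=
    fun q hq hd => Cores.piCore_isPiGroup πᶜ q hq hd
  suffices ∀ i : Fin (n + 1), N i ⊓ C ≤ D by
    have h := this (Fin.last n)
    rw [htop, top_inf_eq] at h
    exact fun x hx => (h hx).2
  intro i
  induction i using Fin.induction with
  | zero => rw [h0, bot_inf_eq]; exact bot_le
  | succ i ih =>
    haveI := hn i.castSucc
    haveI := hn i.succ
    set M := N i.succ ⊓ C with hM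
    haveI : M.Normal := Subgroup.normal_inf_normal _ _
    have hdvd : D.relIndex (M ⊔ D) ∣ (N i.castSucc).relIndex (N i.succ) := by
      rw [Subgroup.relIndex_sup_right]
      refine (Subgroup.relIndex_dvd_of_le_left M ih).trans ?_
      rw [show (N i.castSucc ⊓ C).relIndex M = (N i.castSucc).relIndex M by
        rw [← Subgroup.inf_relIndex_right, inf_assoc,
          inf_eq_right.mpr (inf_le_right : M ≤ C), Subgroup.inf_relIndex_right],
        ← card_map_quot_eq, ← card_map_quot_eq]
      exact Subgroup.card_dvd_of_le (Subgroup.map_mono inf_le_left)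
    have hDle : D ≤ M ⊔ D := le_sup_right
    have hcardM : Nat.card (M ⊔ D : Subgroup G) = Nat.card D * D.relIndex (M ⊔ D) := by
      rw [← Subgroup.card_mul_index (D.subgroupOf (M ⊔ D)),
        Nat.card_congr (Subgroup.subgroupOfEquivOfLe hDle).toEquiv]
      rfl
    suffices M ⊔ D = D from this ▸ le_sup_left
    refine le_antisymm ?_ hDle
    have hMC : M ⊔ D ≤ C := sup_le inf_le_right inf_le_left
    rcases hstep i with ⟨p, hpπ, hp, k, hk⟩ | hπ'
    swap
    · refine le_inf hMC (Cores.le_piCore fun q hq hqd => ?_)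
      rw [hcardM] at hqd
      rcases hq.dvd_mul.mp hqd with h | h
      · exact hKπ q hq (h.trans (Subgroup.card_dvd_of_le inf_le_right))
      · exact hπ' q hq (h.trans hdvd)
    rw [hk] at hdvd
    obtain ⟨j, -, hj⟩ := (Nat.dvd_prime_pow hp).mp hdvd
    set M' : Subgroup G := M ⊔ D
    set D' := D.subgroupOf M' with hD'
    have hcardD' : Nat.card D' = Nat.card D := Nat.card_congr (Subgroup.subgroupOfEquivOfLe hDle).toEquiv
    have hidx : D'.index = p ^ j := hj
    have hnd : ¬ p ∣ Nat.card D :=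
      fun h => hKπ p hp (h.trans (Subgroup.card_dvd_of_le inf_le_right)) hpπ
    have hcop : Nat.Coprime (Nat.card D') D'.index := by
      rw [hcardD', hidx]
      exact ((Nat.Prime.coprime_iff_not_dvd hp).mpr hnd).symm.pow_right j
    obtain ⟨X, hX⟩ := Subgroup.exists_right_complement'_of_coprime hcop
    have hXcard : Nat.card X = p ^ j := by rw [← hidx, hX.symm.index_eq_card]
    have hcentral : ∀ d : M', d ∈ D' → ∀ m : M', d * m = m * d := fun d hd m =>
      Subtype.ext (Subgroup.mem_centralizer_iff.mp (hMC m.2) _ (show (d : G) ∈ D from hd).2)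
    haveI hXn : X.Normal := ⟨fun x hx m => by
      obtain ⟨⟨⟨d, hd⟩, ⟨y, hy⟩⟩, hdy⟩ := hX.2 m
      have hdy' : d * y = m := hdy
      have h1 : m * x * m⁻¹ = y * x * y⁻¹ := by
        rw [← hdy', mul_inv_rev]
        calc d * y * x * (y⁻¹ * d⁻¹) = d * (y * x * y⁻¹) * d⁻¹ := by group
          _ = y * x * y⁻¹ * d * d⁻¹ := by rw [hcentral d hd]
          _ = y * x * y⁻¹ := by group
      rw [h1]
      exact mul_mem (mul_mem hy hx) (inv_mem hy)⟩
    have hXmem : ∀ m : M', orderOf m ∣ p ^ j → m ∈ X := by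
      intro m hm
      rw [← QuotientGroup.eq_one_iff, ← orderOf_eq_one_iff]
      have h1 : orderOf (m : M' ⧸ X) ∣ p ^ j :=
        (orderOf_map_dvd (QuotientGroup.mk' X) m).trans hm
      have h2 : orderOf (m : M' ⧸ X) ∣ Nat.card D' := by
        have := orderOf_dvd_natCard (m : M' ⧸ X)
        rwa [← Subgroup.index_eq_card, hX.index_eq_card] at this
      exact Nat.eq_one_of_dvd_coprimes (hidx ▸ hcop) h2 h1
    set XG := X.map M'.subtype with hXG
    haveI : M'.Normal := Subgroup.sup_normal M D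
    haveI : XG.Normal := ⟨by
      rintro _ ⟨x, hx, rfl⟩ g
      refine ⟨⟨g * x * g⁻¹, ‹M'.Normal›.conj_mem _ x.2 g⟩, hXmem _ ?_, rfl⟩
      rw [← Subgroup.orderOf_coe]
      show orderOf (g * (x : G) * g⁻¹) ∣ p ^ j
      rw [← MulAut.conj_apply, MulEquiv.orderOf_eq, Subgroup.orderOf_coe, ← hXcard]
      exact Subgroup.orderOf_dvd_natCard X hx⟩
    have hXbot : XG = ⊥ := by
      refine le_bot_iff.mp (hO ▸ Cores.le_piCore fun q hq hqd => ?_)
      rw [hXG, Subgroup.card_map_of_injective M'.subtype_injective, hXcard] at hqd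
      rw [(Nat.prime_dvd_prime_iff_eq hq hp).mp (hq.dvd_of_dvd_pow hqd)]
      exact hpπ
    have hX1 : Nat.card X = 1 := by
      rw [← Subgroup.card_map_of_injective M'.subtype_injective (K := X), ← hXG, hXbot,
        Subgroup.card_bot]
    exact (Subgroup.relIndex_eq_one.mp (hj.trans (hXcard.symm.trans hX1)))

/-- A normal π-subgroup lies in every Hall π-subgroup. -/
theorem piCore_le_hall {H : Subgroup G} (hH : Cfsg.IsPiHall π H) : Cfsg.piCore π G ≤ H := by
  set O := Cfsg.piCore π G
  haveI : O.Normal := Cfsg.piCore_normal _ _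
  set S := H ⊔ O
  have hle : H ≤ S := le_sup_left
  have hmul : H.relIndex S * S.index = H.index := Subgroup.relIndex_mul_index hle
  have h1 : H.relIndex S = 1 := by
    by_contra hne
    obtain ⟨q, hq, hqd⟩ := Nat.exists_prime_and_dvd hne
    have h2 : q ∣ Nat.card S := hqd.trans (Subgroup.relIndex_dvd_card _ _)
    rcases hq.dvd_mul.mp (h2.trans (Cores.card_sup_dvd_mul H O)) with h | h
    · exact hH.2 q hq (hH.1 q hq h) (hmul ▸ hqd.mul_right _)
    · exact hH.2 q hq (Cores.piCore_isPiGroup π q hq h) (hmul ▸ hqd.mul_right _)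
  exact le_sup_right.trans (Subgroup.relIndex_eq_one.mp h1)

/-- A Hall π-subgroup of a π-soluble group meets two conjugates in the π-core. -/
theorem hall_three_conjugates {n : ℕ} {N : Fin (n + 1) → Subgroup G} (h0 : N 0 = ⊥)
    (htop : N (Fin.last n) = ⊤) (hmono : Monotone N) (hn : ∀ i, (N i).Normal)
    (hstep : ∀ i : Fin n, PiStep π (N i.castSucc) (N i.succ)) {H : Subgroup G}
    (hH : Cfsg.IsPiHall π H) :
    ∃ x y : G, H ⊓ MulAut.conj x • H ⊓ MulAut.conj y • H = Cfsg.piCore π G := by
  classical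
  set O := Cfsg.piCore π G with hO
  haveI : O.Normal := Cfsg.piCore_normal _ _
  set q := QuotientGroup.mk' O with hq
  have hqs : Function.Surjective q := QuotientGroup.mk'_surjective O
  -- the quotient
  have hO' : Cfsg.piCore π (G ⧸ O) = ⊥ := by
    set X := Cfsg.piCore π (G ⧸ O)
    haveI : X.Normal := Cfsg.piCore_normal _ _
    haveI : (X.comap q).Normal := Subgroup.normal_comap q
    have hle : X.comap q ≤ O := by
      refine Cores.le_piCore fun r hr hrd => ?_
      have hker : q.ker ≤ X.comap q := by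
        rw [← MonoidHom.comap_bot]
        exact Subgroup.comap_mono bot_le
      rw [← Subgroup.card_mul_index (O.subgroupOf (X.comap q)),
        Nat.card_congr (Subgroup.subgroupOfEquivOfLe (by rwa [hq, QuotientGroup.ker_mk'] at hker :
          O ≤ X.comap q)).toEquiv, show (O.subgroupOf (X.comap q)).index = O.relIndex (X.comap q) from rfl,
        ← card_map_quot_eq, ← hq, Subgroup.map_comap_eq_self_of_surjective hqs] at hrd
      rcases hr.dvd_mul.mp hrd with h | h
      · exact Cores.piCore_isPiGroup π r hr h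
      · exact Cores.piCore_isPiGroup π r hr h
    rw [← Subgroup.map_comap_eq_self_of_surjective hqs X, Subgroup.map_eq_bot_iff, hq,
      QuotientGroup.ker_mk']
    exact hle
  have hstep' : ∀ i : Fin n, PiStep π ((N i.castSucc).map q) ((N i.succ).map q) := by
    intro i
    haveI := hn i.castSucc
    have hd : ((N i.castSucc).map q).relIndex ((N i.succ).map q) ∣
        (N i.castSucc).relIndex (N i.succ) := by
      rw [← Subgroup.relIndex_comap, Subgroup.comap_map_eq]
      exact Subgroup.relIndex_dvd_of_le_left (N i.succ) le_sup_left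
    rcases hstep i with ⟨p, hpπ, hp, k, hk⟩ | h
    · obtain ⟨j, -, hj⟩ := (Nat.dvd_prime_pow hp).mp (hk ▸ hd)
      exact Or.inl ⟨p, hpπ, hp, j, hj⟩
    · exact Or.inr fun r hr hrd => h r hr (hrd.trans hd)
  set K := Cfsg.piCore πᶜ (G ⧸ O) with hK
  haveI : K.Normal := Cfsg.piCore_normal _ _
  have hCK : Subgroup.centralizer (K : Set (G ⧸ O)) ≤ K :=
    centralizer_piCore_compl_le (by rw [h0, Subgroup.map_bot])
      (by rw [htop, Subgroup.map_top_of_surjective q hqs]) (fun i => (hn i).map q hqs) hstep' hO'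
  set A := H.map q with hA
  haveI := solvable_of_piHall h0 htop hmono hn hstep hH.1
  have hAsol : Group.IsSolvable A :=
    Group.isSolvable_of_surjective (f := q.subgroupMap H) (q.subgroupMap_surjective H)
  have hcop : (Nat.card A).Coprime (Nat.card K) := by
    refine Nat.coprime_of_dvd fun r hr h1 h2 => ?_
    exact (Cores.piCore_isPiGroup πᶜ r hr h2) (hH.1 r hr (h1.trans (Subgroup.card_map_dvd _ q)))
  have hAK : A ⊓ K = ⊥ := Subgroup.card_eq_one.mp (Nat.eq_one_of_dvd_coprimes hcop
    (Subgroup.card_dvd_of_le inf_le_left) (Subgroup.card_dvd_of_le inf_le_right))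
  let φ : A →* MulAut K := (MulAut.conjNormal (H := K)).comp A.subtype
  letI : MulDistribMulAction A K := MulDistribMulAction.compHom K φ
  have hsmul : ∀ (a : A) (k : K), ((a • k : K) : G ⧸ O) = a * k * (a : G ⧸ O)⁻¹ :=
    fun a k => MulAut.conjNormal_apply _ _
  haveI : FaithfulSMul A K := ⟨fun {a b} h => by
    have hmem : ((a⁻¹ * b : A) : G ⧸ O) ∈ A ⊓ K := ⟨(a⁻¹ * b).2, hCK (by
      rw [Subgroup.mem_centralizer_iff]
      intro k hk
      have h1 : (a⁻¹ * b) • (⟨k, hk⟩ : K) = ⟨k, hk⟩ := by rw [mul_smul, ← h, inv_smul_smul]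
      have h2 := congrArg Subtype.val h1
      rw [hsmul] at h2
      exact (mul_inv_eq_iff_eq_mul.mp h2).symm)⟩
    rw [hAK, Subgroup.mem_bot] at hmem
    exact inv_mul_eq_one.mp (Subtype.ext hmem)⟩
  obtain ⟨xb, yb, hxy⟩ := pair_group (A := A) (K := K) hAsol hcop
  obtain ⟨x, hx⟩ := hqs xb
  obtain ⟨y, hy⟩ := hqs yb
  refine ⟨x, y, le_antisymm (fun h hh => ?_) ?_⟩
  · obtain ⟨⟨hhH, hhx⟩, hhy⟩ := hh
    have key : ∀ (z : G) (zb : K), q z = zb → h ∈ MulAut.conj z • H →
        (⟨q h, h, hhH, rfl⟩ : A) • zb = zb := by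
      intro z zb hz hmem
      rw [Subgroup.mem_pointwise_smul_iff_inv_smul_mem] at hmem
      have h1 : (zb : G ⧸ O)⁻¹ * q h * zb ∈ A := by
        refine ⟨_, hmem, ?_⟩
        rw [← hz]
        simp [MulAut.smul_def, MulAut.conj]
      have h2 : (zb : G ⧸ O)⁻¹ * q h * zb * (q h)⁻¹ ∈ A ⊓ K :=
        ⟨A.mul_mem h1 (A.inv_mem ⟨h, hhH, rfl⟩), by
          rw [show (zb : G ⧸ O)⁻¹ * q h * zb * (q h)⁻¹ = (zb : G ⧸ O)⁻¹ * (q h * zb * (q h)⁻¹) by group]
          exact K.mul_mem (K.inv_mem zb.2) (‹K.Normal›.conj_mem _ zb.2 _)⟩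
      rw [hAK, Subgroup.mem_bot] at h2
      refine Subtype.ext ?_
      rw [hsmul]
      have h3 : (zb : G ⧸ O)⁻¹ * (q h * zb * (q h)⁻¹) = 1 := by rw [← h2]; group
      exact (inv_mul_eq_one.mp h3).symm
    have h1 := hxy _ (key x xb hx hhx) (key y yb hy hhy)
    exact (QuotientGroup.eq_one_iff h).mp (congrArg Subtype.val h1)
  · refine le_inf (le_inf (piCore_le_hall hH) ?_) ?_
    all_goals
      intro o ho
      rw [Subgroup.mem_pointwise_smul_iff_inv_smul_mem]
      refine piCore_le_hall hH ?_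
      simpa [MulAut.smul_def, MulAut.conj] using ‹O.Normal›.conj_mem' o ho _

end Cfsg.Agent.Lib.BaseSize
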